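import Cfsg.Agent.S3761
import Cfsg.Agent.PGroups.Bounds
import Cfsg.Prelude.Def_CaseTheorems
import Mathlib.LinearAlgebra.Basis.VectorSpace

/-!
# Irreducible linear p-groups are induced from a subgroup of index p

A normal elementary abelian subgroup of order p² splits the module by the fixed spaces of its
non-central cyclic subgroups.
-/

set_option autoImplicit false

namespace Cfsg.Lib.PGroupInduced

open Subgroup

variable {G : Type*} [Group G] [Finite G] {p : ℕ} [Fact p.Prime]

theorem exists_central_mem (hG : IsPGroup p G) {N : Subgroup G} [N.Normal] (hN : N ≠ ⊥) :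
    ∃ z ∈ N, z ≠ 1 ∧ z ∈ center G := by
  letI : MulAction G N := MulAction.compHom N (MulAut.conjNormal (H := N))
  have hdvd : p ∣ Nat.card N := by
    obtain ⟨k, hk⟩ := IsPGroup.iff_card.mp (hG.to_subgroup N)
    rw [hk]
    exact dvd_pow_self p fun h => hN (Subgroup.card_eq_one.mp (by rw [hk, h, pow_zero]))
  have h1 : (1 : N) ∈ MulAction.fixedPoints G N := fun g => map_one (MulAut.conjNormal (H := N) g)
  obtain ⟨b, hb, hb1⟩ := hG.exists_fixed_point_of_prime_dvd_card_of_fixed_point N hdvd h1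
  refine ⟨b, b.2, fun h => hb1 (Subtype.ext h.symm), mem_center_iff.mpr fun g => ?_⟩
  exact mul_inv_eq_iff_eq_mul.mp (congrArg Subtype.val (hb g))

theorem orderOf_eq_p {x : G} (hx : x ^ p = 1) (h1 : x ≠ 1) : orderOf x = p := orderOf_eq_prime hx h1

theorem exists_pair_of_normal_elementary (hG : IsPGroup p G) (A : Subgroup G) [A.Normal]
    (hA : ∀ a ∈ A, a ^ p = 1) (hnc : ¬ IsCyclic A) :
    ∃ z e : G, z ∈ center G ∧ orderOf z = p ∧ orderOf e = p ∧ e ∉ zpowers z ∧
      ∀ g : G, g * e * g⁻¹ * e⁻¹ ∈ zpowers z := by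
  have hne : A ≠ ⊥ := fun h => hnc (by subst h; infer_instance)
  obtain ⟨z, hzA, hz1, hz⟩ := exists_central_mem hG hne
  haveI hZn : (zpowers z).Normal := ⟨fun x hx g => by
    rw [mem_center_iff.mp (zpowers_le.mpr hz hx) g, mul_inv_cancel_right]; exact hx⟩
  set π := QuotientGroup.mk' (zpowers z)
  haveI : (A.map π).Normal := (inferInstance : A.Normal).map π (QuotientGroup.mk'_surjective _)
  have hne' : A.map π ≠ ⊥ := fun h => hnc (by
    have : A ≤ zpowers z := by
      intro a ha
      have := mem_map_of_mem π ha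
      rw [h, mem_bot] at this
      exact (QuotientGroup.eq_one_iff a).mp this
    exact isCyclic_of_injective (inclusion this) (inclusion_injective this))
  obtain ⟨w, hw, hw1, hwc⟩ := exists_central_mem (hG.to_quotient _) hne'
  obtain ⟨e, he, rfl⟩ := hw
  refine ⟨z, e, hz, orderOf_eq_p (hA z hzA) hz1, orderOf_eq_p (hA e he) fun h => hw1 (by rw [h, map_one]),
    fun h => hw1 ((QuotientGroup.eq_one_iff e).mpr h), fun g => (QuotientGroup.eq_one_iff _).mp ?_⟩
  show π (g * e * g⁻¹ * e⁻¹) = 1
  rw [map_mul, map_mul, map_mul, map_inv, map_inv, mem_center_iff.mp hwc (π g)]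
  group

theorem exists_pair (hG : IsPGroup p G) (hnc : ¬ IsCyclic G) (hnq : ∀ n : ℕ, ¬ Nonempty (G ≃* QuaternionGroup n))
    (hnd : ∀ n : ℕ, ¬ Nonempty (G ≃* DihedralGroup n)) (hnsd : ¬ Cfsg.IsQuasiDihedral G) :
    ∃ z e : G, z ∈ center G ∧ orderOf z = p ∧ orderOf e = p ∧ e ∉ zpowers z ∧
      ∀ g : G, g * e * g⁻¹ * e⁻¹ ∈ zpowers z := by
  classical
  by_cases hex : ∃ A : Subgroup G, A.Normal ∧ IsMulCommutative A ∧ ¬ IsCyclic A
  · obtain ⟨A, hAn, hAc, hAnc⟩ := hex
    haveI := hAn
    haveI := hAc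
    let B : Subgroup G :=
      { carrier := {a | a ∈ A ∧ a ^ p = 1}
        one_mem' := ⟨one_mem A, one_pow p⟩
        mul_mem' := fun {u v} hu hv => ⟨mul_mem hu.1 hv.1, by
          have : Commute u v := congrArg Subtype.val (hAc.is_comm.comm (⟨u, hu.1⟩ : A) ⟨v, hv.1⟩)
          rw [this.mul_pow, hu.2, hv.2, one_mul]⟩
        inv_mem' := fun {u} hu => ⟨inv_mem hu.1, by rw [inv_pow, hu.2, inv_one]⟩ }
    haveI : B.Normal := ⟨fun x hx g => ⟨hAn.conj_mem x hx.1 g, by rw [conj_pow, hx.2, mul_one, mul_inv_cancel]⟩⟩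
    refine exists_pair_of_normal_elementary hG B (fun a ha => ha.2) fun hB => hAnc ?_
    -- an abelian p-group with cyclic subgroup of elements of order p is cyclic
    have hle : Nat.card B ≤ p := by
      obtain ⟨g, hg⟩ := IsCyclic.exists_generator (α := B)
      rw [← orderOf_eq_card_of_forall_mem_zpowers hg]
      exact orderOf_le_of_pow_eq_one (Fact.out : p.Prime).pos (Subtype.ext g.2.2)
    letI : CommGroup A := { (inferInstance : Group A) with mul_comm := fun a b => hAc.is_comm.comm a b }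
    letI : Fintype A := Fintype.ofFinite A
    obtain ⟨k, hk⟩ := IsPGroup.iff_card.mp (hG.to_subgroup A)
    refine isCyclic_of_card_pow_eq_one_le fun n hn => ?_
    obtain ⟨j, hj, hnj⟩ : ∃ j, j ≤ k ∧ ∀ a : A, a ^ n = 1 → a ^ p ^ j = 1 ∧ p ^ j ≤ n := by
      obtain ⟨j, hj, hgcd⟩ := (Nat.dvd_prime_pow (Fact.out : p.Prime)).mp (hk ▸ Nat.gcd_dvd_right n (Nat.card A))
      refine ⟨j, hj, fun a ha => ⟨?_, hgcd ▸ Nat.le_of_dvd hn (Nat.gcd_dvd_left _ _)⟩⟩
      rw [← hgcd, pow_gcd_eq_one]
      exact ⟨ha, by rw [← hk]; exact pow_card_eq_one'⟩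
    have main : ∀ j : ℕ, Nat.card {a : A // a ^ p ^ j = 1} ≤ p ^ j := by
      intro j
      induction j with
      | zero =>
        haveI : Subsingleton {a : A // a ^ p ^ 0 = 1} := ⟨fun a b => Subtype.ext (by
          rw [(by simpa using a.2 : (a : A) = 1), (by simpa using b.2 : (b : A) = 1)])⟩
        rw [pow_zero]; exact Finite.card_le_one_iff_subsingleton.mpr this
      | succ j ih =>
        set K : Subgroup A := (powMonoidHom (p ^ (j + 1))).ker
        set f : K →* A := (powMonoidHom p).comp K.subtype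
        have hker : Nat.card f.ker ≤ p := by
          refine le_trans (Nat.card_le_card_of_injective (fun x : f.ker => (⟨((x : K) : A), ((x : K) : A).2, ?_⟩ : B)) ?_) hle
          · exact congrArg Subtype.val (x.2 : ((x : K) : A) ^ p = 1)
          · exact fun x y h => Subtype.ext (Subtype.ext (Subtype.ext (congrArg Subtype.val h :)))
        have hrange : Nat.card f.range ≤ p ^ j := by
          refine le_trans (Nat.card_le_card_of_injective (fun x : f.range => (⟨x, ?_⟩ : {a : A // a ^ p ^ j = 1})) ?_) ih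
          · obtain ⟨w, hw⟩ := x.2
            rw [← hw]
            show ((w : A) ^ p) ^ p ^ j = 1
            rw [← pow_mul, ← pow_succ']; exact w.2
          · exact fun x y h => Subtype.ext (congrArg Subtype.val h :)
        have hK : Nat.card K = Nat.card f.ker * Nat.card f.range := by
          rw [← Subgroup.index_ker, Subgroup.card_mul_index]
        show Nat.card K ≤ p ^ (j + 1)
        rw [hK, pow_succ']
        exact Nat.mul_le_mul hker hrange
    have hp1 := (hnj 1 (one_pow n)).2
    have h1 := main j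
    rw [Nat.card_eq_fintype_card, Fintype.card_subtype] at h1
    refine le_trans (Finset.card_le_card fun a ha => ?_) (h1.trans hp1)
    simp only [Finset.mem_filter, Finset.mem_univ, true_and] at ha ⊢
    exact (hnj a ha).1
  · simp only [not_exists, not_and, not_not] at hex
    obtain ⟨U, -, hU⟩ := Set.Finite.exists_le_maximal (Set.toFinite {U : Subgroup G | U.Normal ∧ IsMulCommutative U})
      (show (⊥ : Subgroup G) ∈ {U : Subgroup G | U.Normal ∧ IsMulCommutative U} from
        ⟨inferInstance, ⟨⟨fun a b => Subsingleton.elim _ _⟩⟩⟩)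
    haveI := hU.1.1
    have hC := Cfsg.Lib.PGroups.centralizer_eq_self_of_maximal_normal_abelian hG U hU.1.2
      fun B h1 h2 h3 => (hU.2 ⟨h1, h2⟩ h3).antisymm h3
    have hUc := hex U hU.1.1 hU.1.2
    have hna : ¬ IsMulCommutative G := fun h => hnc (by
      have htop := hex ⊤ inferInstance ⟨⟨fun a b => Subtype.ext (h.is_comm.comm (a : G) b)⟩⟩
      exact isCyclic_of_surjective (Subgroup.topEquiv (G := G)).toMonoidHom (Subgroup.topEquiv (G := G)).surjective)
    obtain ⟨n, hn⟩ := IsPGroup.iff_card.mp (hG.to_subgroup U)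
    rcases Cfsg.Agent.S3761.result hG hna U hUc n hn hC with ⟨-, -, ⟨m, h⟩ | ⟨m, h⟩ | h⟩ | ⟨-, hel, hcard, hch⟩
    · exact absurd h (hnd m)
    · exact absurd h (hnq m)
    · exact absurd h hnsd
    · haveI := hch
      refine exists_pair_of_normal_elementary hG _ hel.2 fun hc => ?_
      obtain ⟨g, hg⟩ := hc.exists_generator
      have h1 := orderOf_le_of_pow_eq_one (Fact.out : p.Prime).pos (Subtype.ext (hel.2 g g.2) : g ^ p = 1)
      rw [orderOf_eq_card_of_forall_mem_zpowers hg, hcard] at h1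
      nlinarith [(Fact.out : p.Prime).two_le]

theorem induced (q : ℕ) [Fact q.Prime] {V : Type*} [AddCommGroup V] [Module (ZMod q) V] [Finite V] [Nontrivial V]
    (hG : IsPGroup p G) (ρ : G →* (V ≃ₗ[ZMod q] V)) (hρ : Function.Injective ρ)
    (hirr : ∀ W : Submodule (ZMod q) V, (∀ g : G, ∀ w ∈ W, ρ g w ∈ W) → W = ⊥ ∨ W = ⊤)
    (hnc : ¬ IsCyclic G) (hnq : ∀ n : ℕ, ¬ Nonempty (G ≃* QuaternionGroup n))
    (hnd : ∀ n : ℕ, ¬ Nonempty (G ≃* DihedralGroup n)) (hnsd : ¬ Cfsg.IsQuasiDihedral G) :
    ∃ (H : Subgroup G) (W : Fin p → Submodule (ZMod q) V), H.index = p ∧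
      iSup W = ⊤ ∧ iSupIndep W ∧
      (∀ h ∈ H, ∀ i, ∀ w ∈ W i, ρ h w ∈ W i) ∧
      (∀ i, ∃ h ∈ H, h ≠ 1 ∧ ∀ w ∈ W i, ρ h w = w) ∧
      ∀ g : G, g ∉ H → ∃ σ : Equiv.Perm (Fin p), orderOf σ = p ∧ ∀ i, (W i).map (ρ g : V →ₗ[ZMod q] V) = W (σ i) := by
  classical
  have hp := (Fact.out : p.Prime)
  haveI : NeZero p := ⟨hp.ne_zero⟩
  obtain ⟨z, e, hz, hzo, heo, hez, hcom⟩ := exists_pair hG hnc hnq hnd hnsd
  have hact : ∀ (a b : G) (v : V), ρ (a * b) v = ρ a (ρ b v) := fun a b v => by rw [map_mul]; rfl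
  let fix_ : G → Submodule (ZMod q) V := fun g => LinearMap.eqLocus (ρ g : V →ₗ[ZMod q] V) LinearMap.id
  have mem_fix : ∀ g v, v ∈ fix_ g ↔ ρ g v = v := fun g v => Iff.rfl
  have hzfix : ∀ v, ρ z v = v → v = 0 := by
    intro v hv
    rcases hirr (fix_ z) (fun g w hw => by
      rw [mem_fix] at hw ⊢
      rw [← hact, ← mem_center_iff.mp hz g, hact, hw]) with h | h
    · have : v ∈ fix_ z := hv
      rwa [h, Submodule.mem_bot] at this
    · have : z = 1 := hρ (LinearEquiv.ext fun w => by
        rw [map_one]; exact (h ▸ Submodule.mem_top : w ∈ fix_ z))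
      rw [this, orderOf_one] at hzo
      exact absurd hzo.symm hp.ne_one
  have hcz : ∀ g, Commute z g := fun g => (mem_center_iff.mp hz g).symm
  -- the elements spanning the cyclic subgroups
  let u : ZMod p → G := fun i => e * z ^ i.val
  have hzp : z ^ p = 1 := hzo ▸ pow_orderOf_eq_one z
  have hep : e ^ p = 1 := heo ▸ pow_orderOf_eq_one e
  have hzval : ∀ i j : ZMod p, z ^ (i + j).val = z ^ i.val * z ^ j.val := fun i j => by
    rw [← pow_add, ZMod.val_add]; exact (pow_eq_pow_mod _ hzp).symm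
  have hup : ∀ i, u i ^ p = 1 := fun i => by
    rw [show u i = e * z ^ i.val from rfl, ((hcz e).symm.pow_right _).mul_pow, hep, one_mul, ← pow_mul,
      mul_comm, pow_mul, hzp, one_pow]
  let T : G → V →ₗ[ZMod q] V := fun g => ∑ k ∈ Finset.range p, (ρ (g ^ k) : V →ₗ[ZMod q] V)
  have hT : ∀ g, g ^ p = 1 → ∀ v, ρ g (T g v) = T g v := by
    intro g hg v
    have h1 := Finset.sum_range_succ' (fun k => ρ (g ^ k) v) p
    rw [Finset.sum_range_succ] at h1
    simp only [hg, pow_zero, add_left_inj] at h1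
    simp only [T, LinearMap.sum_apply, LinearEquiv.coe_coe, map_sum]
    exact (Finset.sum_congr rfl fun k _ => by rw [← hact, ← pow_succ']).trans h1.symm
  have hTfix : ∀ g v, ρ g v = v → T g v = (p : ZMod q) • v := by
    intro g v hv
    have : ∀ k : ℕ, ρ (g ^ k) v = v := by
      intro k
      induction k with
      | zero => rw [pow_zero, map_one]; rfl
      | succ k ih => rw [pow_succ, hact, hv, ih]
    simp only [T, LinearMap.sum_apply, LinearEquiv.coe_coe, this, Finset.sum_const, Finset.card_range,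
      Nat.cast_smul_eq_nsmul]
  -- the characteristic is different from p
  have hpq : (p : ZMod q) ≠ 0 := by
    intro h0
    rw [ZMod.natCast_eq_zero_iff] at h0
    have hqp : q = p := (Nat.prime_dvd_prime_iff_eq Fact.out hp).mp h0
    letI : MulAction G V :=
      { smul := fun g v => ρ g v
        one_smul := fun v => by show ρ 1 v = v; rw [map_one]; rfl
        mul_smul := fun a b v => hact a b v }
    have h0' : (0 : V) ∈ MulAction.fixedPoints G V := fun g => map_zero (ρ g)
    have hdvd : p ∣ Nat.card V := by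
      subst hqp
      rw [Module.natCard_eq_pow_finrank (K := ZMod q), Nat.card_zmod]
      exact dvd_pow_self q (Module.finrank_pos).ne'
    obtain ⟨b, hb, hb0⟩ := hG.exists_fixed_point_of_prime_dvd_card_of_fixed_point V hdvd h0'
    exact hb0 (hzfix b (hb z)).symm
  have htwo : ∀ {i j : ZMod p}, i ≠ j → ∀ v, ρ (u i) v = v → ρ (u j) v = v → v = 0 := by
    intro i j hij v hi hj
    refine hzfix v ?_
    have hd : ρ ((u i)⁻¹ * u j) v = v := by
      rw [hact, hj]
      conv_lhs => rw [← hi, ← hact, inv_mul_cancel, map_one]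
      rfl
    have he' : (u i)⁻¹ * u j = z ^ (j - i).val := by
      rw [show u i = e * z ^ i.val from rfl, show u j = e * z ^ j.val from rfl, mul_inv_rev, mul_assoc,
        inv_mul_cancel_left, inv_mul_eq_iff_eq_mul, ← hzval, add_sub_cancel]
    rw [he'] at hd
    -- some power of this element is z
    have hk : ∀ k : ℕ, ρ ((z ^ (j - i).val) ^ k) v = v := by
      intro k
      induction k with
      | zero => rw [pow_zero, map_one]; rfl
      | succ k ih => rw [pow_succ, hact, hd, ih]
    have h1 := hk ((j - i)⁻¹ : ZMod p).val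
    rwa [← pow_mul, ← pow_mod_orderOf, hzo, ← ZMod.val_mul, mul_inv_cancel₀ (sub_ne_zero.mpr (Ne.symm hij)),
      ZMod.val_one, pow_one] at h1
  -- the sum of all the traces
  have hsum : ∀ v, (p : ZMod q) • v = ∑ i : ZMod p, T (u i) v := by
    intro v
    have h1 : ∀ i : ZMod p, T (u i) v = ∑ k ∈ Finset.range p, ρ (e ^ k) (ρ ((z ^ i.val) ^ k) v) := by
      intro i
      simp only [T, LinearMap.sum_apply, LinearEquiv.coe_coe]
      exact Finset.sum_congr rfl fun k _ => by rw [← hact, ← ((hcz e).symm.pow_right _).mul_pow]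
    simp only [h1]
    rw [Finset.sum_comm, Finset.sum_eq_single_of_mem 0 (Finset.mem_range.mpr hp.pos)]
    · simp [map_one, Nat.cast_smul_eq_nsmul]
    · intro k hk hk0
      rw [← map_sum]
      have hzero : ∑ i : ZMod p, ρ ((z ^ i.val) ^ k) v = 0 := by
        set S := ∑ i : ZMod p, ρ ((z ^ i.val) ^ k) v
        have hfix : ρ (z ^ k) S = S := by
          rw [map_sum]
          refine Fintype.sum_equiv (Equiv.addRight (1 : ZMod p)) _ _ fun i => ?_
          rw [← hact, Equiv.coe_addRight, hzval, ZMod.val_one, pow_one,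
            (hcz _).symm.mul_pow, ← (((Commute.refl z).pow_right i.val).pow_pow k k).eq]
        have hkz : (k : ZMod p) ≠ 0 := fun h => hk0 (Nat.eq_zero_of_dvd_of_lt
          ((ZMod.natCast_eq_zero_iff k p).mp h) (Finset.mem_range.mp hk))
        refine hzfix S ?_
        have hpow : ∀ l : ℕ, ρ ((z ^ k) ^ l) S = S := by
          intro l
          induction l with
          | zero => rw [pow_zero, map_one]; rfl
          | succ l ih => rw [pow_succ, hact, hfix, ih]
        have h2 := hpow ((k : ZMod p)⁻¹).val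
        have hmod : k * ((k : ZMod p)⁻¹).val % p = 1 := by
          rw [← ZMod.val_natCast, Nat.cast_mul, ZMod.natCast_zmod_val, mul_inv_cancel₀ hkz, ZMod.val_one]
        rwa [← pow_mul, ← pow_mod_orderOf, hzo, hmod, pow_one] at h2
      rw [hzero, map_zero]
  let W' : ZMod p → Submodule (ZMod q) V := fun i => fix_ (u i)
  have hWtop : iSup W' = ⊤ := by
    refine eq_top_iff.mpr fun v _ => ?_
    have : (p : ZMod q) • v ∈ iSup W' := by
      rw [hsum v]
      exact Submodule.sum_mem _ fun i _ => Submodule.mem_iSup_of_mem i ((mem_fix _ _).mpr (hT _ (hup i) v))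
    have h2 := Submodule.smul_mem _ ((p : ZMod q)⁻¹) this
    rwa [smul_smul, inv_mul_cancel₀ hpq, one_smul] at h2
  have hcu : ∀ i j, Commute (u i) (u j) := fun i j =>
    (((Commute.refl e).mul_right ((hcz e).symm.pow_right _))).mul_left ((hcz (u j)).pow_left _)
  have hWind : iSupIndep W' := by
    rw [iSupIndep_def]
    intro i
    rw [Submodule.disjoint_def]
    intro v hv hv'
    have hz0 : T (u i) v = 0 := by
      have hle : (⨆ j, ⨆ _ : j ≠ i, W' j) ≤ LinearMap.ker (T (u i)) := iSup₂_le fun j hj w hw => by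
        rw [LinearMap.mem_ker]
        refine htwo hj _ ?_ (hT _ (hup i) w)
        simp only [T, LinearMap.sum_apply, LinearEquiv.coe_coe, map_sum]
        refine Finset.sum_congr rfl fun k _ => ?_
        rw [← hact, ((hcu j i).pow_right k).eq, hact, (mem_fix _ _).mp hw]
      exact hle hv'
    rw [hTfix _ _ ((mem_fix _ _).mp hv)] at hz0
    exact (smul_eq_zero.mp hz0).resolve_left hpq
  -- the conjugation shift
  have hkz : ∀ g, ∃ k : ZMod p, g * e * g⁻¹ * e⁻¹ = z ^ k.val := by
    intro g
    obtain ⟨k, hk⟩ := mem_powers_iff_mem_zpowers.mpr (hcom g)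
    exact ⟨(k : ZMod p), by rw [ZMod.val_natCast, ← hzo, pow_mod_orderOf]; exact hk.symm⟩
  choose κ hκ using hkz
  have hconj : ∀ g i, g * u i * g⁻¹ = u (i + κ g) := by
    intro g i
    have : g * e * g⁻¹ = z ^ (κ g).val * e := by rw [← hκ g, inv_mul_cancel_right]
    show g * (e * z ^ i.val) * g⁻¹ = e * z ^ (i + κ g).val
    rw [hzval, show g * (e * z ^ i.val) * g⁻¹ = g * e * g⁻¹ * z ^ i.val by
      rw [mul_assoc g, mul_assoc e, ((hcz g⁻¹).pow_left _).eq]; group, this, ((hcz e).pow_left _).eq, mul_assoc,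
      ← pow_add, ← pow_add, add_comm]
  have hzinj : ∀ {i j : ZMod p}, z ^ i.val = z ^ j.val → i = j := fun {i j} h => by
    have := pow_injOn_Iio_orderOf (x := z) (by rw [hzo]; exact ZMod.val_lt i) (by rw [hzo]; exact ZMod.val_lt j) h
    exact ZMod.val_injective p this
  have hκmul : ∀ g h, κ (g * h) = κ g + κ h := by
    intro g h
    have h0 := hconj (g * h) 0
    rw [show g * h * u 0 * (g * h)⁻¹ = g * (h * u 0 * h⁻¹) * g⁻¹ by group, hconj, hconj] at h0
    have := hzinj (mul_left_cancel (h0.symm : e * z ^ _ = e * z ^ _))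
    rw [zero_add, zero_add, add_comm (κ h)] at this
    exact this
  let κhom : G →* Multiplicative (ZMod p) := MonoidHom.mk' (fun g => Multiplicative.ofAdd (κ g))
    fun g h => by rw [hκmul]; rfl
  set H := κhom.ker with hH
  have hmemH : ∀ g, g ∈ H ↔ κ g = 0 := fun g => MonoidHom.mem_ker
  have hmap : ∀ g i, (W' i).map (ρ g : V →ₗ[ZMod q] V) = W' (i + κ g) := by
    intro g i
    ext v
    rw [Submodule.mem_map, mem_fix, ← hconj]
    constructor
    · rintro ⟨w, hw, rfl⟩
      rw [LinearEquiv.coe_coe, ← hact, inv_mul_cancel_right, hact, (mem_fix _ _).mp hw]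
    · intro hv
      refine ⟨ρ g⁻¹ v, (mem_fix _ _).mpr ?_, ?_⟩
      · conv_rhs => rw [← hv]
        rw [← hact, ← hact]
        congr 2; group
      · rw [LinearEquiv.coe_coe, ← hact, mul_inv_cancel, map_one]; rfl
  -- some element moves the summands
  obtain ⟨g₀, hg₀⟩ : ∃ g, κ g ≠ 0 := by
    by_contra hall
    simp only [not_exists, not_not] at hall
    have hbot : ∀ i, W' i = ⊥ := fun i => by
      rcases hirr (W' i) (fun g w hw => by
        have := Submodule.mem_map_of_mem (f := (ρ g : V →ₗ[ZMod q] V)) hw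
        rwa [hmap, hall, add_zero] at this) with h | h
      · exact h
      · exfalso
        have h1 : u i = 1 := hρ (LinearEquiv.ext fun w => by
          rw [map_one]; exact (h ▸ Submodule.mem_top : w ∈ W' i))
        exact hez (by rw [eq_inv_of_mul_eq_one_left h1]; exact inv_mem (npow_mem_zpowers z _))
    rw [iSup_eq_bot.mpr hbot] at hWtop
    exact bot_ne_top hWtop
  have hindex : H.index = p := by
    rw [hH, index_ker]
    have hne : κhom.range ≠ ⊥ := fun h => hg₀ (by
      have hm : κhom g₀ ∈ κhom.range := ⟨g₀, rfl⟩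
      rw [h, mem_bot] at hm
      exact hm)
    haveI : Fact (Nat.card (Multiplicative (ZMod p))).Prime := ⟨by rw [Nat.card_congr Multiplicative.toAdd, Nat.card_zmod]; exact hp⟩
    rw [(Subgroup.eq_bot_or_eq_top_of_prime_card κhom.range).resolve_left hne, Subgroup.card_top,
      Nat.card_congr Multiplicative.toAdd, Nat.card_zmod]
  let c : ZMod p ≃ Fin p := (ZMod.finEquiv p).toEquiv.symm
  refine ⟨H, fun i => W' (c.symm i), hindex, by rw [Equiv.iSup_comp (g := W') c.symm, hWtop],
    hWind.comp c.symm.injective, fun h hh i w hw => ?_, fun i => ?_, fun g hg => ?_⟩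
  · have := Submodule.mem_map_of_mem (f := (ρ h : V →ₗ[ZMod q] V)) hw
    rwa [hmap, (hmemH h).mp hh, add_zero] at this
  · refine ⟨u (c.symm i), (hmemH _).mpr (hzinj ?_), fun h => hez ?_, fun w hw => hw⟩
    · rw [← hκ, ZMod.val_zero, pow_zero]
      have hc : Commute (u (c.symm i)) e := (Commute.refl e).mul_left ((hcz e).pow_left _)
      rw [hc.eq, mul_inv_cancel_right, mul_inv_cancel]
    · rw [eq_inv_of_mul_eq_one_left h]; exact inv_mem (npow_mem_zpowers z _)
  · have hk : κ g ≠ 0 := fun h => hg ((hmemH g).mpr h)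
    refine ⟨c.symm.trans ((Equiv.addRight (κ g)).trans c), orderOf_eq_prime (Equiv.ext fun x => ?_) ?_, fun i => ?_⟩
    · have : ∀ l : ℕ, ∀ y, ((c.symm.trans ((Equiv.addRight (κ g)).trans c)) ^ l) y = c (c.symm y + l • κ g) := by
        intro l
        induction l with
        | zero => intro y; simp
        | succ l ih => intro y; rw [pow_succ', Equiv.Perm.mul_apply, ih]; simp [succ_nsmul, add_assoc]; ring
      rw [this, nsmul_eq_mul, ZMod.natCast_self, zero_mul, add_zero, Equiv.apply_symm_apply]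
      rfl
    · intro h
      refine hk ?_
      have := congrArg (fun σ : Equiv.Perm (Fin p) => c.symm (σ (c 0))) h
      simpa using this
    · show (W' (c.symm i)).map _ = W' (c.symm (c _))
      rw [hmap, Equiv.symm_apply_apply]
      rfl

end Cfsg.Lib.PGroupInduced
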