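import Cfsg.Agent.AltCover.Spin
import Cfsg.Agent.SolvStruct.Gaschuetz
import Cfsg.Prelude.Def_SporadicB

/-!
Involutions in double covers of alternating groups of small degree.
-/

set_option autoImplicit false

namespace Cfsg.Lib.AltCoverInvolutions

open Subgroup Equiv
open scoped commutatorElement

section Cover

variable {H : Type*} [Group H]

/-- The complement of the centre over a dihedral group. -/
theorem dihedral_lift [Finite H] {K : Type*} [Group K] [Finite K] (π : H →* K) (hπ : Function.Surjective π)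
    (hker : π.ker = center H) (hcard : Nat.card (center H) = 2) (a b : H) (ha : a * a = 1) (hb : b * b = 1)
    (hab : π a ∉ zpowers (π (a * b))) (ho : (a * b) ^ orderOf (π (a * b)) = 1)
    (hodd : ∀ i : ℕ, Nat.card K = i * (2 * orderOf (π (a * b))) → Odd i) :
    ∃ L : Subgroup H, (center H).IsComplement' L := by
  have ha' : a⁻¹ = a := inv_eq_of_mul_eq_one_right ha
  have hb' : b⁻¹ = b := inv_eq_of_mul_eq_one_right hb
  obtain ⟨t, ht⟩ : ∃ t, t = a * b := ⟨_, rfl⟩
  have hconj : ∀ k : ℤ, a * t ^ k = t ^ (-k) * a := by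
    intro k
    have e : a * t * a⁻¹ = t⁻¹ := by
      rw [ht, mul_inv_rev, hb', ha', ← mul_assoc, ha, one_mul]
    rw [zpow_neg, ← inv_zpow, ← e, conj_zpow, inv_mul_cancel_right]
  obtain ⟨A, hA⟩ : ∃ A, A = closure ({a, b} : Set H) := ⟨_, rfl⟩
  have haA : a ∈ A := hA ▸ subset_closure (Set.mem_insert _ _)
  have hbA : b ∈ A := hA ▸ subset_closure (Set.mem_insert_of_mem _ rfl)
  have htA : t ∈ A := ht ▸ mul_mem haA hbA
  have helem : ∀ x ∈ A, ∃ k : ℤ, x = t ^ k ∨ x = t ^ k * a := by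
    intro x hx
    rw [hA] at hx
    induction hx using closure_induction with
    | mem x hx =>
      rcases hx with rfl | rfl
      · exact ⟨0, Or.inr (by simp)⟩
      · refine ⟨-1, Or.inr ?_⟩
        rw [zpow_neg_one, ht, mul_inv_rev, hb', ha', mul_assoc, ha, mul_one]
    | one => exact ⟨0, Or.inl (by simp)⟩
    | mul x y _ _ hx hy =>
      obtain ⟨j, hj⟩ := hx
      obtain ⟨k, hk⟩ := hy
      rcases hj with rfl | rfl <;> rcases hk with rfl | rfl
      · exact ⟨j + k, Or.inl (zpow_add t j k).symm⟩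
      · exact ⟨j + k, Or.inr (by rw [zpow_add, mul_assoc])⟩
      · exact ⟨j + -k, Or.inr (by rw [mul_assoc, hconj, ← mul_assoc, zpow_add])⟩
      · refine ⟨j + -k, Or.inl ?_⟩
        rw [mul_assoc, ← mul_assoc a (t ^ k), hconj, mul_assoc (t ^ (-k)), ha, mul_one, zpow_add]
    | inv x _ hx =>
      obtain ⟨j, rfl | rfl⟩ := hx
      · exact ⟨-j, Or.inl (zpow_neg t j).symm⟩
      · exact ⟨j, Or.inr (by rw [mul_inv_rev, ha', ← zpow_neg, hconj, neg_neg])⟩
  rw [← ht] at hab ho hodd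
  have hinj : ∀ x ∈ A, π x = 1 → x = 1 := by
    intro x hx h1
    obtain ⟨k, rfl | rfl⟩ := helem x hx
    · rw [map_zpow, ← orderOf_dvd_iff_zpow_eq_one] at h1
      obtain ⟨q, rfl⟩ := h1
      rw [zpow_mul, zpow_natCast, ho, one_zpow]
    · rw [map_mul, map_zpow] at h1
      exact absurd ⟨-k, by show π t ^ (-k) = π a; rw [zpow_neg]; exact (eq_inv_of_mul_eq_one_right h1).symm⟩ hab
  obtain ⟨D, hD⟩ : ∃ D, D = A.map π := ⟨_, rfl⟩
  have hDc : Nat.card D = 2 * orderOf (π t) := by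
    have hC : zpowers (π t) ≤ D := zpowers_le.mpr (hD ▸ mem_map_of_mem π htA)
    have h2 : ((zpowers (π t)).subgroupOf D).index = 2 := by
      rw [index_eq_two_iff]
      refine ⟨⟨π a, hD ▸ mem_map_of_mem π haA⟩, fun y => ?_⟩
      obtain ⟨x, hx, hxy⟩ := mem_map.mp (hD ▸ y.2 : (y : K) ∈ A.map π)
      simp only [mem_subgroupOf, Subgroup.coe_mul]
      rw [← hxy]
      obtain ⟨k, rfl | rfl⟩ := helem x hx
      · refine Or.inr ⟨by rw [map_zpow]; exact zpow_mem_zpowers _ _, fun h => hab ?_⟩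
        rw [map_zpow] at h
        exact (mul_mem_cancel_left (zpow_mem_zpowers _ _)).mp h
      · refine Or.inl ⟨?_, fun h => hab ?_⟩
        · rw [← map_mul, mul_assoc, ha, mul_one, map_zpow]; exact zpow_mem_zpowers _ _
        · rw [map_mul, map_zpow] at h
          exact (mul_mem_cancel_left (zpow_mem_zpowers _ _)).mp h
    have := (zpowers (π t)).subgroupOf D |>.card_mul_index
    rw [h2, Nat.card_congr (subgroupOfEquivOfLe hC).toEquiv, Nat.card_zpowers] at this
    omega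
  have hoddD : Odd (D.comap π).index := by
    rw [index_comap_of_surjective D hπ]
    exact hodd _ (by rw [← hDc, mul_comm, card_mul_index])
  have hsup : center H ⊔ A = D.comap π := by
    rw [hD, comap_map_eq, hker, sup_comm]
  haveI : IsMulCommutative (center H) := inferInstance
  exact Cfsg.Lib.SolvStruct.exists_complement_averaging (U := D.comap π) (by rw [← hsup]; exact le_sup_left)
    (by rw [hcard]; exact Nat.coprime_two_left.mpr hoddD) A (by rw [← hsup]; exact le_sup_right)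
    (eq_bot_iff.mpr fun x hx => mem_bot.mpr (hinj x hx.1 (hker ▸ hx.2 : x ∈ π.ker))) hsup

end Cover

/-- Involutions of the alternating group of degree at most seven are double transpositions. -/
theorem conj_double {n : ℕ} (hn : n ≤ 7) (σ τ : alternatingGroup (Fin n)) (hσ : orderOf σ = 2) (hτ : orderOf τ = 2)
    (s : Perm (Fin n)) (hs : Perm.sign s = -1) (hsτ : s * τ = τ * s) : ∃ c, c * σ * c⁻¹ = τ := by
  have key : ∀ x : alternatingGroup (Fin n), orderOf x = 2 → (x : Perm (Fin n)).cycleType = Multiset.replicate 2 2 := by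
    intro x hx
    have ho : orderOf (x : Perm (Fin n)) = 2 := by rw [orderOf_coe, hx]
    obtain ⟨k, hk⟩ := Perm.cycleType_prime_order (σ := (x : Perm (Fin n))) (ho.symm ▸ Nat.prime_two)
    rw [ho] at hk
    have hsum : (x : Perm (Fin n)).cycleType.sum ≤ n := by
      rw [Perm.sum_cycleType]; exact (Finset.card_le_univ _).trans (by simp)
    have hsign : Perm.sign (x : Perm (Fin n)) = 1 := x.2
    rw [Perm.sign_of_cycleType, hk] at hsign
    rw [hk] at hsum ⊢
    simp only [Multiset.sum_replicate, Multiset.card_replicate, smul_eq_mul] at hsum hsign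
    congr 1
    rcases k with _ | _ | _ | k
    · exact absurd hsign (by decide)
    · rfl
    · exact absurd hsign (by decide)
    · omega
  obtain ⟨c, hc⟩ := isConj_iff.mp (Perm.isConj_iff_cycleType_eq.mpr ((key σ hσ).trans (key τ hτ).symm))
  rcases Int.units_eq_one_or (Perm.sign c) with h | h
  · exact ⟨⟨c, h⟩, Subtype.ext hc⟩
  · refine ⟨⟨s * c, ?_⟩, Subtype.ext ?_⟩
    · rw [Perm.mem_alternatingGroup, map_mul, hs, h]; rfl
    · show s * c * (σ : Perm (Fin n)) * (s * c)⁻¹ = τ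
      rw [mul_inv_rev, show s * c * (σ : Perm (Fin n)) * (c⁻¹ * s⁻¹) = s * (c * σ * c⁻¹) * s⁻¹ by group, hc, hsτ,
        mul_inv_cancel_right]

theorem no_involution {n : ℕ} (hn : n ≤ 7) {H : Type*} [Group H] [Finite H]
    (hH : Cfsg.IsNonsplitDoubleCover H (alternatingGroup (Fin n))) (x : H) (hx : orderOf x = 2) : x ∈ center H := by
  obtain ⟨hcard, ⟨e⟩, hns⟩ := hH
  by_contra hxc
  obtain ⟨π, hπdef⟩ : ∃ π : H →* alternatingGroup (Fin n), π = e.toMonoidHom.comp (QuotientGroup.mk' (center H)) :=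
    ⟨_, rfl⟩
  have hker : π.ker = center H := by
    ext y
    rw [MonoidHom.mem_ker, hπdef, MonoidHom.comp_apply, MulEquiv.coe_toMonoidHom, MulEquiv.map_eq_one_iff,
      QuotientGroup.mk'_apply, QuotientGroup.eq_one_iff]
  have hsurj : Function.Surjective π := by
    rw [hπdef]; exact e.surjective.comp (QuotientGroup.mk'_surjective _)
  have hne : π x ≠ 1 := fun h => hxc (by rw [← hker]; exact h)
  have hsq : x * x = 1 := by rw [← pow_two, ← hx]; exact pow_orderOf_eq_one x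
  have ho : orderOf (π x) = 2 := by
    apply orderOf_eq_prime
    · rw [pow_two, ← map_mul, hsq, map_one]
    · exact hne
  -- lifts of involutions with odd commuting partners are involutions
  have lift : ∀ (τ : alternatingGroup (Fin n)) (s : Perm (Fin n)), orderOf τ = 2 → Perm.sign s = -1 →
      s * τ = τ * s → ∀ y, π y = τ → y * y = 1 := by
    intro τ s hτ hs hsτ y hy
    obtain ⟨c, hc⟩ := conj_double hn (π x) τ ho hτ s hs hsτ
    obtain ⟨g, rfl⟩ := hsurj c
    have hz : (g * x * g⁻¹)⁻¹ * y ∈ center H := by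
      rw [← hker, MonoidHom.mem_ker, map_mul, map_inv, map_mul, map_mul, map_inv, hc, hy, inv_mul_cancel]
    have hz2 : ∀ z ∈ center H, z * z = 1 := fun z hz => by
      have := pow_card_eq_one' (x := (⟨z, hz⟩ : center H))
      rw [hcard, pow_two] at this
      exact congrArg Subtype.val this
    have e : y = g * x * g⁻¹ * ((g * x * g⁻¹)⁻¹ * y) := by group
    rw [e, mul_assoc (g * x * g⁻¹), ← mul_assoc _ (g * x * g⁻¹), ← (mem_center_iff.mp hz (g * x * g⁻¹)),
      mul_assoc (g * x * g⁻¹) _ ((g * x * g⁻¹)⁻¹ * y), hz2 _ hz, mul_one,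
      show g * x * g⁻¹ * (g * x * g⁻¹) = g * (x * x) * g⁻¹ by group, hsq, mul_one, mul_inv_cancel]
  -- the dihedral configuration
  have main : ∀ (α β : alternatingGroup (Fin n)) (s s' s'' : Perm (Fin n)) (e : ℕ), α * α = 1 → β * β = 1 → α ≠ 1 →
      β ≠ 1 → Perm.sign s = -1 → s * α = α * s → Perm.sign s' = -1 → s' * β = β * s' → Perm.sign s'' = -1 →
      s'' * ((α * β) ^ e : alternatingGroup (Fin n)) = ((α * β) ^ e : alternatingGroup (Fin n)) * s'' →
      orderOf (α * β) = 2 * e → (α * β) ^ e ≠ 1 → α ∉ zpowers (α * β) →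
      (∀ i : ℕ, Nat.card (alternatingGroup (Fin n)) = i * (2 * (2 * e)) → Odd i) → False := by
    intro α β s s' s'' e hα hβ hα1 hβ1 hs hsα hs' hsβ hs'' hsγ hm hγ hnm hodd
    obtain ⟨a, rfl⟩ := hsurj α
    obtain ⟨b, rfl⟩ := hsurj β
    have o : ∀ τ : alternatingGroup (Fin n), τ * τ = 1 → τ ≠ 1 → orderOf τ = 2 := fun τ h h' =>
      orderOf_eq_prime (by rw [pow_two, h]) h'
    have ha := lift _ s (o _ hα hα1) hs hsα a rfl
    have hb := lift _ s' (o _ hβ hβ1) hs' hsβ b rfl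
    rw [← map_mul] at hm hnm hγ hsγ
    have hγ2 : π (a * b) ^ e * π (a * b) ^ e = 1 := by
      rw [← pow_add, ← two_mul, ← hm, pow_orderOf_eq_one]
    have hpow : (a * b) ^ orderOf (π (a * b)) = 1 := by
      rw [hm, two_mul, pow_add]
      exact lift _ s'' (o _ hγ2 hγ) hs'' hsγ ((a * b) ^ e) (map_pow π _ _)
    obtain ⟨L, hL⟩ := dihedral_lift π hsurj hker hcard a b ha hb hnm hpow (by rw [hm]; exact hodd)
    exact hns L hL
  have hnm : ∀ (α β : alternatingGroup (Fin n)) (m : ℕ), orderOf (α * β) = m → (∀ k < m, (α * β) ^ k ≠ α) →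
      α ∉ zpowers (α * β) := fun α β m hm h hmem => by
    classical
    rw [IsOfFinOrder.mem_zpowers_iff_mem_range_orderOf (isOfFinOrder_of_finite _), Finset.mem_image] at hmem
    obtain ⟨k, hk, e⟩ := hmem
    exact h k (hm ▸ Finset.mem_range.mp hk) e
  rcases (by omega : n ≤ 3 ∨ n = 4 ∨ n = 5 ∨ n = 6 ∨ n = 7) with h | rfl | rfl | rfl | rfl
  · have h2 : 2 ∣ Nat.card (alternatingGroup (Fin n)) := ho ▸ orderOf_dvd_natCard (π x)
    rw [Nat.card_eq_fintype_card] at h2
    interval_cases n <;> revert h2 <;> decide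
  · refine main ⟨swap 0 1 * swap 2 3, Perm.mem_alternatingGroup.mpr (by decide)⟩ ⟨swap 0 2 * swap 1 3, Perm.mem_alternatingGroup.mpr (by decide)⟩ (swap 0 1) (swap 0 2) (swap 0 3) 1
      (by decide) (by decide) (by decide) (by decide) (by decide) (by decide) (by decide) (by decide) (by decide)
      (by decide) (orderOf_eq_prime (p := 2) (hp := ⟨Nat.prime_two⟩) (by decide) (by decide)) (by decide)
      (hnm _ _ _ (orderOf_eq_prime (p := 2) (hp := ⟨Nat.prime_two⟩) (by decide) (by decide)) (by decide)) fun i hi => ?_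
    rw [Nat.card_eq_fintype_card, show Fintype.card (alternatingGroup (Fin 4)) = 12 by decide] at hi
    exact ⟨1, by omega⟩
  · refine main ⟨swap 0 1 * swap 2 3, Perm.mem_alternatingGroup.mpr (by decide)⟩ ⟨swap 0 2 * swap 1 3, Perm.mem_alternatingGroup.mpr (by decide)⟩ (swap 0 1) (swap 0 2) (swap 0 3) 1
      (by decide) (by decide) (by decide) (by decide) (by decide) (by decide) (by decide) (by decide) (by decide)
      (by decide) (orderOf_eq_prime (p := 2) (hp := ⟨Nat.prime_two⟩) (by decide) (by decide)) (by decide)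
      (hnm _ _ _ (orderOf_eq_prime (p := 2) (hp := ⟨Nat.prime_two⟩) (by decide) (by decide)) (by decide)) fun i hi => ?_
    have hc := two_mul_nat_card_alternatingGroup (α := Fin 5)
    rw [Nat.card_perm, Nat.card_fin, show Nat.factorial 5 = 120 from rfl] at hc
    exact ⟨7, by omega⟩
  · refine main ⟨swap 0 2 * swap 4 5, Perm.mem_alternatingGroup.mpr (by decide)⟩ ⟨swap 0 1 * swap 2 3, Perm.mem_alternatingGroup.mpr (by decide)⟩ (swap 0 2) (swap 0 1) (swap 0 2) 2
      (by decide) (by decide) (by decide) (by decide) (by decide) (by decide) (by decide) (by decide) (by decide)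
      (by decide) (orderOf_eq_prime_pow (p := 2) (n := 1) (by decide) (by decide)) (by decide)
      (hnm _ _ _ (orderOf_eq_prime_pow (p := 2) (n := 1) (by decide) (by decide)) (by decide)) fun i hi => ?_
    have hc := two_mul_nat_card_alternatingGroup (α := Fin 6)
    rw [Nat.card_perm, Nat.card_fin, show Nat.factorial 6 = 720 from rfl] at hc
    exact ⟨22, by omega⟩
  · refine main ⟨swap 0 2 * swap 4 5, Perm.mem_alternatingGroup.mpr (by decide)⟩ ⟨swap 0 1 * swap 2 3, Perm.mem_alternatingGroup.mpr (by decide)⟩ (swap 0 2) (swap 0 1) (swap 0 2) 2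
      (by decide) (by decide) (by decide) (by decide) (by decide) (by decide) (by decide) (by decide) (by decide)
      (by decide) (orderOf_eq_prime_pow (p := 2) (n := 1) (by decide) (by decide)) (by decide)
      (hnm _ _ _ (orderOf_eq_prime_pow (p := 2) (n := 1) (by decide) (by decide)) (by decide)) fun i hi => ?_
    have hc := two_mul_nat_card_alternatingGroup (α := Fin 7)
    rw [Nat.card_perm, Nat.card_fin, show Nat.factorial 7 = 5040 from rfl] at hc
    exact ⟨157, by omega⟩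

/-- The double cover of the alternating group of degree eight has a second involution. -/
theorem two_involutions : ∃ (H : Type) (_ : Group H) (_ : Finite H),
    Cfsg.IsNonsplitDoubleCover H (alternatingGroup (Fin 8)) ∧ ∃ x y : H, x ≠ y ∧ orderOf x = 2 ∧ orderOf y = 2 := by
  obtain ⟨Γ, _, _, z, hzc, hz, hzd, _, ⟨e⟩⟩ := Cfsg.Lib.AltCover.double_cover 8 (by norm_num)
  obtain ⟨π, hπdef⟩ : ∃ π : Γ →* alternatingGroup (Fin 8), π = e.toMonoidHom.comp (QuotientGroup.mk' (zpowers z)) :=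
    ⟨_, rfl⟩
  have hker : π.ker = zpowers z := by
    ext y
    rw [MonoidHom.mem_ker, hπdef, MonoidHom.comp_apply, MulEquiv.coe_toMonoidHom, MulEquiv.map_eq_one_iff,
      QuotientGroup.mk'_apply, QuotientGroup.eq_one_iff]
  have hsurj : Function.Surjective π := by
    rw [hπdef]; exact e.surjective.comp (QuotientGroup.mk'_surjective _)
  have hcz : center Γ = zpowers z := by
    refine le_antisymm (fun g hg => ?_) (zpowers_le.mpr hzc)
    have hg' : π g ∈ center (alternatingGroup (Fin 8)) := by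
      refine mem_center_iff.mpr fun c => ?_
      obtain ⟨y, rfl⟩ := hsurj c
      rw [← map_mul, ← map_mul, mem_center_iff.mp hg]
    rw [alternatingGroup.center_eq_bot (by simp), mem_bot] at hg'
    rw [← hker]; exact hg'
  have hz2 : z * z = 1 := by rw [← pow_two, ← hz]; exact pow_orderOf_eq_one z
  have hsq : ∀ c ∈ zpowers z, c * c = 1 := fun c hc => by
    obtain ⟨k, rfl⟩ := mem_zpowers_iff.mp hc
    rw [← (Commute.refl z).mul_zpow, hz2, one_zpow]
  refine ⟨Γ, inferInstance, inferInstance, ⟨?_, ⟨(QuotientGroup.quotientMulEquivOfEq hcz).trans e⟩, fun L hL => ?_⟩, ?_⟩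
  · rw [hcz, Nat.card_zpowers, hz]
  · have hle : commutator Γ ≤ L := by
      rw [commutator_def, commutator_le]
      intro g₁ _ g₂ _
      have hmem : ∀ g : Γ, ∃ c ∈ center Γ, ∃ l ∈ L, g = c * l := fun g => by
        obtain ⟨⟨c, l⟩, h⟩ := hL.2 g
        exact ⟨c, c.2, l, l.2, h.symm⟩
      obtain ⟨c₁, h₁, l₁, k₁, rfl⟩ := hmem g₁
      obtain ⟨c₂, h₂, l₂, k₂, rfl⟩ := hmem g₂
      have : ⁅c₁ * l₁, c₂ * l₂⁆ = ⁅l₁, l₂⁆ := by
        have m₁ := mem_center_iff.mp h₁
        have m₂ := mem_center_iff.mp h₂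
        have conj : ∀ c : Γ, (∀ g, g * c = c * g) → ∀ w, c * w * c⁻¹ = w := fun c hc w => by
          rw [← hc, mul_inv_cancel_right]
        have e1 : ∀ g, ⁅c₁ * l₁, g⁆ = ⁅l₁, g⁆ := fun g => by
          show c₁ * l₁ * g * (c₁ * l₁)⁻¹ * g⁻¹ = l₁ * g * l₁⁻¹ * g⁻¹
          rw [show c₁ * l₁ * g * (c₁ * l₁)⁻¹ = c₁ * (l₁ * g * l₁⁻¹) * c₁⁻¹ by group, conj c₁ m₁]
        have e2 : ⁅l₁, c₂ * l₂⁆ = ⁅l₁, l₂⁆ := by
          show l₁ * (c₂ * l₂) * l₁⁻¹ * (c₂ * l₂)⁻¹ = l₁ * l₂ * l₁⁻¹ * l₂⁻¹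
          rw [← mul_assoc l₁ c₂, m₂ l₁, show c₂ * l₁ * l₂ * l₁⁻¹ * (c₂ * l₂)⁻¹ = c₂ * (l₁ * l₂ * l₁⁻¹ * l₂⁻¹) * c₂⁻¹ by
            group, conj c₂ m₂]
        rw [e1, e2]
      rw [this, commutatorElement_def]
      exact mul_mem (mul_mem (mul_mem k₁ k₂) (inv_mem k₁)) (inv_mem k₂)
    have : z ∈ center Γ ⊓ L := ⟨hzc, hle hzd⟩
    rw [hL.disjoint.eq_bot, mem_bot] at this
    rw [this, orderOf_one] at hz
    omega
  obtain ⟨u, hu⟩ := hsurj ⟨swap 0 1 * swap 2 3, Perm.mem_alternatingGroup.mpr (by decide)⟩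
  obtain ⟨g, hg⟩ := hsurj ⟨swap 0 4 * swap 1 5 * swap 2 6 * swap 3 7, Perm.mem_alternatingGroup.mpr (by decide)⟩
  obtain ⟨p, hp⟩ := hsurj ⟨swap 4 6 * swap 4 5, Perm.mem_alternatingGroup.mpr (by decide)⟩
  obtain ⟨q, hq⟩ := hsurj ⟨swap 4 7 * swap 4 5, Perm.mem_alternatingGroup.mpr (by decide)⟩
  have hu2 : u * u ∈ zpowers z := by
    rw [← hker, MonoidHom.mem_ker, map_mul, hu]; decide
  have hcomm : ∀ y : Γ, π (u * y) = π (y * u) → ∃ c ∈ center Γ, u * y = c * (y * u) := fun y hy => by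
    refine ⟨u * y * (y * u)⁻¹, ?_, by group⟩
    rw [hcz, ← hker, MonoidHom.mem_ker, map_mul, map_inv, hy, mul_inv_cancel]
  obtain ⟨c₁, hc₁, e₁⟩ := hcomm p (by rw [map_mul, map_mul, hu, hp]; decide)
  obtain ⟨c₂, hc₂, e₂⟩ := hcomm q (by rw [map_mul, map_mul, hu, hq]; decide)
  obtain ⟨v, hv⟩ : ∃ v, v = ⁅p, q⁆ := ⟨_, rfl⟩
  have huv : Commute u v := by
    have f : ∀ y c, c ∈ center Γ → u * y = c * (y * u) → u * y * u⁻¹ = c * y := fun y c _ e => by rw [e]; group
    have key : u * v * u⁻¹ = v := by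
      have h1 : u * v * u⁻¹ = ⁅u * p * u⁻¹, u * q * u⁻¹⁆ := by rw [hv, conjugate_commutatorElement]
      rw [h1, f p c₁ hc₁ e₁, f q c₂ hc₂ e₂, hv]
      have m₁ := mem_center_iff.mp hc₁
      have m₂ := mem_center_iff.mp hc₂
      simp only [commutatorElement_def, mul_inv_rev]
      have n₁ : Commute c₁ (p * (c₂ * q) * p⁻¹) := (m₁ _).symm
      calc c₁ * p * (c₂ * q) * (p⁻¹ * c₁⁻¹) * (q⁻¹ * c₂⁻¹) = c₁ * (p * (c₂ * q) * p⁻¹) * c₁⁻¹ * (q⁻¹ * c₂⁻¹) := by group
        _ = p * (c₂ * q) * p⁻¹ * (q⁻¹ * c₂⁻¹) := by rw [n₁.eq, mul_inv_cancel_right]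
        _ = c₂ * (p * q * p⁻¹ * q⁻¹) * c₂⁻¹ := by rw [← mul_assoc p c₂, m₂ p]; group
        _ = p * q * p⁻¹ * q⁻¹ := by rw [← m₂, mul_inv_cancel_right]
    exact mul_inv_eq_iff_eq_mul.mp key
  have hv2 : v * v = u * u := by
    have hd : (g * u * g⁻¹)⁻¹ * v ∈ zpowers z := by
      rw [← hker, MonoidHom.mem_ker, map_mul, map_inv, map_mul, map_mul, map_inv, hv, map_commutatorElement, hu, hg, hp,
        hq]
      decide
    have hm := mem_center_iff.mp (hcz ▸ hd : (g * u * g⁻¹)⁻¹ * v ∈ center Γ)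
    obtain ⟨d, hd'⟩ : ∃ d, d = (g * u * g⁻¹)⁻¹ * v := ⟨_, rfl⟩
    have e : v = g * u * g⁻¹ * d := by rw [hd']; group
    rw [← hd'] at hd hm
    rw [e, mul_assoc (g * u * g⁻¹), ← mul_assoc d, ← hm (g * u * g⁻¹), mul_assoc (g * u * g⁻¹) d, hsq d hd, mul_one,
      show g * u * g⁻¹ * (g * u * g⁻¹) = g * (u * u) * g⁻¹ by group,
      mem_center_iff.mp (hcz ▸ hu2 : u * u ∈ center Γ) g, mul_inv_cancel_right]
  have hx1 : π (u * v) ≠ 1 := by
    rw [map_mul, hv, map_commutatorElement, hu, hp, hq]; decide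
  refine ⟨z, u * v, fun h => hx1 ?_, hz, orderOf_eq_prime ?_ fun h => hx1 (by rw [h, map_one])⟩
  · rw [← h, ← MonoidHom.mem_ker, hker]; exact mem_zpowers z
  · rw [pow_two, mul_assoc, ← mul_assoc v, ← huv.eq, mul_assoc u v v, hv2, ← mul_assoc, hsq _ hu2]

end Cfsg.Lib.AltCoverInvolutions
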