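import Cfsg.Agent.NT2.TwoPrimes
import Cfsg.Agent.Coprime.Hall
import Mathlib.GroupTheory.Sylow
import Mathlib.GroupTheory.SpecificGroups.Alternating
import Mathlib.GroupTheory.Perm.Cycle.Type
import Mathlib.GroupTheory.SpecificGroups.Cyclic
import Mathlib.GroupTheory.Solvable

/-!
# Groups with the order and the element orders of an alternating group

Two primes in the upper half are not joined in the spectrum, so all the primes of the upper half live
in one non-abelian chief factor, which is simple.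
-/

set_option autoImplicit false

namespace Cfsg.Lib.AltOrderSpectrum

open Subgroup

variable {G : Type*} [Group G]

theorem alt_no_mul {n p q : ℕ} (hp : p.Prime) (hq : q.Prime) (hne : p ≠ q) (hsum : n < p + q)
    (σ : alternatingGroup (Fin n)) : orderOf σ ≠ p * q := by
  intro h
  rw [← Subgroup.orderOf_coe] at h
  have hl : (σ : Equiv.Perm (Fin n)).cycleType.lcm = p * q := by rw [Equiv.Perm.lcm_cycleType, h]
  have hsum' : (σ : Equiv.Perm (Fin n)).cycleType.sum ≤ n := by
    have h1 := Equiv.Perm.sum_cycleType (σ : Equiv.Perm (Fin n))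
    have h2 := Finset.card_le_univ (σ : Equiv.Perm (Fin n)).support
    rw [Fintype.card_fin] at h2
    omega
  have key : ∀ r : ℕ, r.Prime → r ∣ p * q → ∃ c ∈ (σ : Equiv.Perm (Fin n)).cycleType, r ∣ c := by
    intro r hr hrd
    rw [← hl] at hrd
    by_contra hcon
    have hall : ∀ s : Multiset ℕ, (∀ c ∈ s, ¬ r ∣ c) → ¬ r ∣ s.lcm := by
      intro s
      induction s using Multiset.induction with
      | empty => intro _; simpa using hr.ne_one
      | cons a s ih =>
        intro hs hd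
        rw [Multiset.lcm_cons] at hd
        rcases (Nat.Prime.dvd_mul hr).mp (hd.trans (Nat.lcm_dvd_mul a s.lcm)) with h | h
        · exact hs a (Multiset.mem_cons_self a s) h
        · exact ih (fun c hc => hs c (Multiset.mem_cons_of_mem hc)) h
    exact hall _ (fun c hc hd => hcon ⟨c, hc, hd⟩) hrd
  obtain ⟨c, hc, hpc⟩ := key p hp (dvd_mul_right p q)
  obtain ⟨d, hd, hqd⟩ := key q hq (dvd_mul_left q p)
  have hc0 : 0 < c := lt_of_lt_of_le (by norm_num) (Equiv.Perm.two_le_of_mem_cycleType hc)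
  have hd0 : 0 < d := lt_of_lt_of_le (by norm_num) (Equiv.Perm.two_le_of_mem_cycleType hd)
  have hcp := Nat.le_of_dvd hc0 hpc
  have hdq := Nat.le_of_dvd hd0 hqd
  by_cases hcd : d = c
  · subst hcd
    have h1 := Nat.le_of_dvd hd0 (((Nat.coprime_primes hp hq).mpr hne).mul_dvd_of_dvd_of_dvd hpc hqd)
    have h2 := Multiset.le_sum_of_mem hd
    have := Nat.add_le_mul hp.two_le hq.two_le
    omega
  · rw [← Multiset.cons_erase hc, Multiset.sum_cons] at hsum'
    have := Multiset.le_sum_of_mem ((Multiset.mem_erase_of_ne hcd).mpr hd)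
    omega

theorem no_mul_of_spectrum {n p q : ℕ} (hp : p.Prime) (hq : q.Prime) (hne : p ≠ q) (hsum : n < p + q)
    (hspec : Set.range (orderOf : G → ℕ) = Set.range (orderOf : ↥(alternatingGroup (Fin n)) → ℕ)) (g : G) :
    orderOf g ≠ p * q := by
  intro h
  obtain ⟨σ, hσ⟩ : p * q ∈ Set.range (orderOf : ↥(alternatingGroup (Fin n)) → ℕ) := hspec ▸ ⟨g, h⟩
  exact alt_no_mul hp hq hne hsum σ hσ

theorem orderOf_mul_of_commute {p q : ℕ} (hp : p.Prime) (hq : q.Prime) (hne : p ≠ q) {x y : G}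
    (hx : orderOf x = p) (hy : orderOf y = q) (hc : Commute x y) : orderOf (x * y) = p * q := by
  rw [hc.orderOf_mul_eq_mul_orderOf_of_coprime (by rw [hx, hy]; exact (Nat.coprime_primes hp hq).mpr hne), hx, hy]

theorem exists_mul_of_normalize [Finite G] {p q : ℕ} (hp : p.Prime) (hq : q.Prime) (hne : p ≠ q)
    (hpq : ¬ q ∣ p - 1) {P : Subgroup G} (hP : Nat.card P = p) {y : G} (hy : orderOf y = q)
    (hyP : y ∈ normalizer (P : Set G)) : ∃ g : G, orderOf g = p * q := by
  haveI := Fact.mk hp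
  haveI : IsCyclic P := isCyclic_of_prime_card hP
  obtain ⟨x, hx⟩ := exists_prime_orderOf_dvd_card' (G := P) p (by rw [hP])
  have hcard : Nat.card (MulAut P) = p - 1 := by rw [IsCyclic.card_mulAut, hP, Nat.totient_prime hp]
  set φ := P.normalizerMonoidHom
  have h1 : orderOf (φ ⟨y, hyP⟩) ∣ q := by
    refine (orderOf_map_dvd φ _).trans ?_
    rw [← Subgroup.orderOf_coe]; simp [hy]
  have h2 : orderOf (φ ⟨y, hyP⟩) ∣ p - 1 := hcard ▸ orderOf_dvd_natCard _
  have hone : φ ⟨y, hyP⟩ = 1 := orderOf_eq_one_iff.mp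
    (Nat.eq_one_of_dvd_coprimes ((Nat.Prime.coprime_iff_not_dvd hq).mpr hpq) h1 h2)
  have hfix : y * (x : G) * y⁻¹ = x := congrArg Subtype.val (MulEquiv.congr_fun hone x)
  exact ⟨_, orderOf_mul_of_commute hp hq hne (by rw [Subgroup.orderOf_coe, hx]) hy
    (mul_inv_eq_iff_eq_mul.mp hfix).symm⟩

theorem exists_mul_of_forced [Finite G] {p q a b : ℕ} (hp : p.Prime) (hq : q.Prime) (hne : p ≠ q)
    (hG : Nat.card G = p ^ a * q ^ b) (ha : a ≠ 0) (hb : b ≠ 0)
    (h1 : ∀ d ∈ (p ^ a * q ^ b).divisors, d % p = 1 → ¬ p ∣ d → d = 1)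
    (h2 : ∀ d ∈ (p ^ a * q ^ b).divisors, d % q = 1 → ¬ q ∣ d → d = 1) :
    ∃ g : G, orderOf g = p * q := by
  haveI := Fact.mk hp
  haveI := Fact.mk hq
  have one : ∀ (r : ℕ) [Fact r.Prime] (_ : ∀ d ∈ (p ^ a * q ^ b).divisors, d % r = 1 → ¬ r ∣ d → d = 1)
      (R : Sylow r G), (R : Subgroup G).Normal := by
    intro r _ h R
    have hd : Nat.card (Sylow r G) ∣ p ^ a * q ^ b := hG ▸ (R.card_dvd_index.trans (Subgroup.index_dvd_card _))
    have hm : Nat.card (Sylow r G) % r = 1 := by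
      rw [card_sylow_modEq_one r G, Nat.mod_eq_of_lt (Fact.out : r.Prime).one_lt]
    have h1 := h _ (Nat.mem_divisors.mpr ⟨hd, hG ▸ Nat.card_pos.ne'⟩) hm
      fun hdvd => by rw [Nat.mod_eq_zero_of_dvd hdvd] at hm; exact zero_ne_one hm
    haveI : Subsingleton (Sylow r G) := (Nat.card_eq_one_iff_unique.mp h1).1
    exact R.normal_of_subsingleton
  obtain ⟨x, hx⟩ := exists_prime_orderOf_dvd_card' (G := G) p (hG ▸ dvd_mul_of_dvd_left (dvd_pow_self p ha) _)
  obtain ⟨y, hy⟩ := exists_prime_orderOf_dvd_card' (G := G) q (hG ▸ dvd_mul_of_dvd_right (dvd_pow_self q hb) _)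
  obtain ⟨P, hP⟩ := (IsPGroup.of_card (n := 1) (by rw [Nat.card_zpowers, hx, pow_one] :
    Nat.card (zpowers x) = p ^ 1)).exists_le_sylow
  obtain ⟨Q, hQ⟩ := (IsPGroup.of_card (n := 1) (by rw [Nat.card_zpowers, hy, pow_one] :
    Nat.card (zpowers y) = q ^ 1)).exists_le_sylow
  exact ⟨_, orderOf_mul_of_commute hp hq hne hx hy (Subgroup.commute_of_normal_of_disjoint _ _ (one p h1 P) (one q h2 Q)
    (IsPGroup.disjoint_of_ne p q hne _ _ P.2 Q.2) x y (hP (mem_zpowers x)) (hQ (mem_zpowers y)))⟩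

theorem card_facts {n p : ℕ} (hp : p.Prime) (hn : n < 2 * p) (hpn : p ≤ n) (h3 : 3 ≤ p)
    (hcard : Nat.card G = Nat.card ↥(alternatingGroup (Fin n))) : p ∣ Nat.card G ∧ ¬ p ^ 2 ∣ Nat.card G := by
  haveI : Nontrivial (Fin n) := Fin.nontrivial_iff_two_le.mpr (by omega)
  have h2 : 2 * Nat.card G = n.factorial := by
    rw [hcard, two_mul_nat_card_alternatingGroup, Nat.card_perm, Nat.card_fin]
  have h1 : p ∣ n.factorial := hp.dvd_factorial.mpr hpn
  have hf : n.factorial.factorization p = 1 := by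
    rw [Nat.factorization_factorial hp (b := 2) (Nat.log_lt_of_lt_pow (by omega) (by nlinarith))]
    rw [Finset.sum_Ico_eq_sum_range]
    simp only [Nat.reduceSub, Finset.sum_range_one, Nat.add_zero, pow_one]
    exact Nat.div_eq_of_lt_le (by omega) (by omega)
  refine ⟨((Nat.Prime.dvd_mul hp).mp (h2 ▸ h1)).resolve_left
    (fun hd => absurd (Nat.le_of_dvd (by norm_num) hd) (by omega)), fun hd => ?_⟩
  have := (hp.pow_dvd_iff_le_factorization n.factorial_ne_zero).mp (h2 ▸ dvd_mul_of_dvd_right hd 2)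
  omega

theorem dvd_card_quotient {N H : Subgroup G} [Finite G] [N.Normal] {r : ℕ} (hr : r.Prime) (hN : ¬ r ∣ Nat.card N)
    (hH : r ∣ Nat.card H) : r ∣ Nat.card (H.map (QuotientGroup.mk' N)) := by
  have h1 := ((QuotientGroup.mk' N).comp H.subtype).ker.card_mul_index
  rw [Subgroup.index_ker, MonoidHom.range_comp, Subgroup.range_subtype, mul_comm] at h1
  refine ((hr.dvd_mul).mp (h1 ▸ hH)).resolve_right fun h => hN (h.trans ?_)
  have h2 : (((QuotientGroup.mk' N).comp H.subtype).ker).map H.subtype ≤ N := by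
    rintro _ ⟨z, hz, rfl⟩
    exact (QuotientGroup.eq_one_iff (z : G)).mp hz
  rw [← Subgroup.card_map_of_injective H.subtype_injective]
  exact Subgroup.card_dvd_of_le h2

theorem not_dvd_sup [Finite G] {A B : Subgroup G} {p : ℕ} (hp : p.Prime) (hAB : B ≤ normalizer (A : Set G))
    (hA : ¬ p ∣ Nat.card A) (hB : ¬ p ∣ Nat.card B) : ¬ p ∣ Nat.card ↑(A ⊔ B) := by
  intro h
  haveI : (A.subgroupOf (A ⊔ B)).Normal := Subgroup.normal_subgroupOf_of_le_normalizer
    (sup_le Subgroup.le_normalizer hAB)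
  have h1 := Subgroup.card_eq_card_quotient_mul_card_subgroup (A.subgroupOf (A ⊔ B))
  rw [Nat.card_congr (Subgroup.subgroupOfEquivOfLe (le_sup_left : A ≤ A ⊔ B)).toEquiv] at h1
  set f := (QuotientGroup.mk' (A.subgroupOf (A ⊔ B))).comp (Subgroup.inclusion (le_sup_right : B ≤ A ⊔ B))
  have hsurj : Function.Surjective f := by
    intro z
    obtain ⟨⟨w, hw⟩, rfl⟩ := QuotientGroup.mk'_surjective _ z
    have hw' : w ∈ B ⊔ A := sup_comm A B ▸ hw
    rw [← SetLike.mem_coe, Subgroup.coe_mul_of_left_le_normalizer_right B A hAB, Set.mem_mul] at hw'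
    obtain ⟨b, hb, a, ha, rfl⟩ := hw'
    refine ⟨⟨b, hb⟩, (QuotientGroup.eq).mpr ?_⟩
    simpa [Subgroup.mem_subgroupOf] using ha
  exact ((hp.dvd_mul).mp (h1 ▸ h)).elim (fun hd => hB (hd.trans (Subgroup.card_dvd_of_surjective f hsurj))) hA

theorem minimal_normal_simple [Finite G] {K : Subgroup G} [K.Normal] (hne : K ≠ ⊥)
    (hmin : ∀ X : Subgroup G, X.Normal → X ≤ K → X = ⊥ ∨ X = K) {p : ℕ} (hp : p.Prime)
    (hdvd : p ∣ Nat.card K) (hsq : ¬ p ^ 2 ∣ Nat.card G) : IsSimpleGroup K := by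
  haveI := Fact.mk hp
  haveI : Nontrivial K := (Subgroup.nontrivial_iff_ne_bot K).mpr hne
  refine ⟨fun M hM => ?_⟩
  haveI := hM
  by_cases hpM : p ∣ Nat.card M
  · right
    have hin : ∀ z : K, orderOf z = p → z ∈ M := by
      intro z hz
      obtain ⟨w, hw⟩ := exists_prime_orderOf_dvd_card' (G := M) p hpM
      have hf : (Nat.card K).factorization p = 1 := by
        refine le_antisymm ?_ (hp.factorization_pos_of_dvd Nat.card_pos.ne' hdvd)
        by_contra hlt
        exact hsq ((pow_dvd_pow p (not_le.mp hlt)).trans ((Nat.ordProj_dvd _ p).trans K.card_subgroup_dvd_card))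
      let S := Sylow.ofCard (p := p) (zpowers (w : K)) (by rw [Nat.card_zpowers, Subgroup.orderOf_coe, hw, hf, pow_one])
      let T := Sylow.ofCard (p := p) (zpowers z) (by rw [Nat.card_zpowers, hz, hf, pow_one])
      obtain ⟨g, hg⟩ := MulAction.exists_smul_eq K S T
      have hzT : z ∈ (T : Subgroup K) := mem_zpowers z
      rw [← hg, Sylow.coe_subgroup_smul] at hzT
      obtain ⟨u, hu, rfl⟩ := hzT
      exact hM.conj_mem u ((zpowers_le.mpr w.2) hu) g
    set X : Subgroup G := Subgroup.closure {z : G | z ∈ K ∧ orderOf z = p} with hX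
    have hXn : X.Normal := by
      rw [← Subgroup.normalizer_eq_top_iff, eq_top_iff]
      refine fun g _ => Subgroup.mem_normalizer_iff.mpr ?_
      have hconj : ∀ g z : G, z ∈ X → g * z * g⁻¹ ∈ X := by
        intro g z hz
        refine (Subgroup.closure_le (K := X.comap (MulAut.conj g).toMonoidHom)).mpr ?_ hz
        rintro u ⟨hu1, hu2⟩
        refine Subgroup.subset_closure ⟨(inferInstance : K.Normal).conj_mem u hu1 g, ?_⟩
        exact (orderOf_injective (MulAut.conj g).toMonoidHom (MulAut.conj g).injective u).trans hu2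
      exact fun z => ⟨hconj g z, fun h => by simpa [mul_assoc] using hconj g⁻¹ _ h⟩
    have hXK : X ≤ K := (Subgroup.closure_le K).mpr fun z hz => hz.1
    have hXM : X ≤ M.map K.subtype := by
      refine (Subgroup.closure_le _).mpr fun z hz => ?_
      exact ⟨⟨z, hz.1⟩, hin _ (by rw [← Subgroup.orderOf_coe]; exact hz.2), rfl⟩
    obtain ⟨z, hz⟩ := exists_prime_orderOf_dvd_card' (G := K) p hdvd
    have hzX : (z : G) ∈ X := Subgroup.subset_closure ⟨z.2, by rw [Subgroup.orderOf_coe, hz]⟩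
    have hXe : X = K := (hmin X hXn hXK).resolve_left fun h => by
      rw [h, Subgroup.mem_bot] at hzX
      rw [show z = 1 from Subtype.ext hzX, orderOf_one] at hz
      exact hp.ne_one hz.symm
    rw [Subgroup.eq_top_iff']
    intro u
    obtain ⟨v, hv, he⟩ := hXM (show (u : G) ∈ X by rw [hXe]; exact u.2)
    exact (Subtype.ext he : v = u) ▸ hv
  · left
    let 𝒮 : Set (Subgroup G) := {W | W ≤ K ∧ K ≤ normalizer (W : Set G) ∧ ¬ p ∣ Nat.card W}
    have hMS : M.map K.subtype ∈ 𝒮 := by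
      refine ⟨Subgroup.map_subtype_le M, ?_, by rwa [Subgroup.card_map_of_injective K.subtype_injective]⟩
      intro g hg
      refine Subgroup.mem_normalizer_iff.mpr fun z => ⟨?_, fun h => ?_⟩
      · rintro ⟨u, hu, rfl⟩
        exact ⟨_, hM.conj_mem u hu ⟨g, hg⟩, rfl⟩
      · obtain ⟨u, hu, he⟩ := h
        refine ⟨_, hM.conj_mem u hu ⟨g, hg⟩⁻¹, ?_⟩
        show g⁻¹ * (u : G) * (g⁻¹)⁻¹ = z
        rw [show (u : G) = g * z * g⁻¹ from he]; group
    obtain ⟨W, hMW, hW⟩ := Set.Finite.exists_le_maximal (Set.toFinite 𝒮) hMS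
    have hWn : W.Normal := by
      refine ⟨fun w hw g => ?_⟩
      set W' := W.map (MulAut.conj g).toMonoidHom
      have hW'K : W' ≤ K := by
        rintro _ ⟨u, hu, rfl⟩
        exact (inferInstance : K.Normal).conj_mem u (hW.1.1 hu) g
      have hconj : ∀ k ∈ K, ∀ z ∈ W', k * z * k⁻¹ ∈ W' := by
        rintro k hk _ ⟨u, hu, rfl⟩
        have hk' : g⁻¹ * k * g ∈ K := by simpa using (inferInstance : K.Normal).conj_mem k hk g⁻¹
        exact ⟨_, (Subgroup.mem_normalizer_iff.mp (hW.1.2.1 hk') u).mp hu, by simp [mul_assoc]⟩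
      have hW'N : K ≤ normalizer (W' : Set G) := fun k hk => Subgroup.mem_normalizer_iff.mpr fun z =>
        ⟨hconj k hk z, fun h => by simpa [mul_assoc] using hconj k⁻¹ (inv_mem hk) _ h⟩
      have hmem : W ⊔ W' ∈ 𝒮 := by
        refine ⟨sup_le hW.1.1 hW'K, ?_, not_dvd_sup hp (hW'K.trans hW.1.2.1) hW.1.2.2 ?_⟩
        · exact fun k hk => Subgroup.normalizer_inf_normalizer_le_normalizer_sup W W' ⟨hW.1.2.1 hk, hW'N hk⟩
        · rw [Subgroup.card_map_of_injective (MulAut.conj g).injective]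
          exact hW.1.2.2
      exact (hW.2 hmem le_sup_left) (Subgroup.mem_sup_right ⟨w, hw, rfl⟩)
    rcases hmin W hWn hW.1.1 with h | h
    · rw [h, le_bot_iff, Subgroup.map_eq_bot_iff_of_injective M K.subtype_injective] at hMW
      exact hMW
    · exact absurd (h ▸ hdvd) hW.1.2.2

theorem section_of_upper_primes [Finite G] (n : ℕ) (hn : 11 ≤ n)
    (hcard : Nat.card G = Nat.card ↥(alternatingGroup (Fin n)))
    (hspec : Set.range (orderOf : G → ℕ) = Set.range (orderOf : ↥(alternatingGroup (Fin n)) → ℕ)) :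
    ∃ (N H : Subgroup G) (_ : N.Normal), H.Normal ∧ N < H ∧
      IsSimpleGroup (↥H ⧸ N.subgroupOf H) ∧ ¬ IsMulCommutative (↥H ⧸ N.subgroupOf H) ∧
      ∀ p : ℕ, p.Prime → n < 2 * p → p ≤ n → p ∣ Nat.card (↥H ⧸ N.subgroupOf H) := by
  obtain ⟨p₀, q₀, hp₀, hq₀, hn₀, hlt₀, hq₀n⟩ := TwoPrimes.two_primes_upper_half n hn
  have facts : ∀ {p : ℕ}, p.Prime → n < 2 * p → p ≤ n → p ∣ Nat.card G ∧ ¬ p ^ 2 ∣ Nat.card G :=
    fun hp h1 h2 => card_facts hp h1 h2 (by omega) hcard
  let 𝒩 : Set (Subgroup G) := {N | N.Normal ∧ ∀ p : ℕ, p.Prime → n < 2 * p → p ≤ n → ¬ p ∣ Nat.card N}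
  have hbot : (⊥ : Subgroup G) ∈ 𝒩 :=
    ⟨inferInstance, fun p hp _ _ h => hp.ne_one (Nat.dvd_one.mp (by simpa using h))⟩
  obtain ⟨N, -, hN⟩ := Set.Finite.exists_le_maximal (Set.toFinite 𝒩) hbot
  haveI := hN.1.1
  have hNtop : (⊤ : Subgroup (G ⧸ N)) ≠ ⊥ := by
    intro h
    have h1 := Subgroup.card_eq_card_quotient_mul_card_subgroup N
    have h2 : Nat.card (G ⧸ N) = 1 := by rw [← Subgroup.card_top, h, Subgroup.card_bot]
    rw [h2, one_mul] at h1
    exact hN.1.2 q₀ hq₀ (by omega) hq₀n (h1 ▸ (facts hq₀ (by omega) hq₀n).1)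
  obtain ⟨K, -, hKn, hKne, hKmin⟩ := Coprime.exists_minimal_normal (inferInstance : (⊤ : Subgroup (G ⧸ N)).Normal) hNtop
  haveI := hKn
  set H := K.comap (QuotientGroup.mk' N) with hH
  have hKH : H.map (QuotientGroup.mk' N) = K := Subgroup.map_comap_eq_self_of_surjective (QuotientGroup.mk'_surjective N) K
  have hNH : N ≤ H := fun z hz => by
    rw [hH, Subgroup.mem_comap, QuotientGroup.mk'_apply, (QuotientGroup.eq_one_iff z).mpr hz]; exact one_mem _
  have hlt : N < H := lt_of_le_of_ne hNH fun h => hKne (by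
    rw [← hKH, ← h, QuotientGroup.map_mk'_self])
  have hHn : H.Normal := hKn.comap _
  obtain ⟨p, hp, hp1, hp2, hpH⟩ : ∃ p : ℕ, p.Prime ∧ n < 2 * p ∧ p ≤ n ∧ p ∣ Nat.card H := by
    by_contra hcon
    exact hlt.not_ge (hN.2 ⟨hHn, fun p hp h1 h2 hd => hcon ⟨p, hp, h1, h2, hd⟩⟩ hNH)
  have hallH : ∀ r : ℕ, r.Prime → n < 2 * r → r ≤ n → r ∣ Nat.card H := by
    intro r hr hr1 hr2
    by_contra hrH
    haveI := Fact.mk hp
    let P : Sylow p H := default
    have hP : Nat.card ((P : Subgroup H).map H.subtype) = p := by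
      rw [Subgroup.card_map_of_injective H.subtype_injective, P.card_eq_multiplicity]
      have : (Nat.card H).factorization p = 1 := by
        refine le_antisymm ?_ (hp.factorization_pos_of_dvd Nat.card_pos.ne' hpH)
        by_contra hlt'
        exact (facts hp hp1 hp2).2 ((pow_dvd_pow p (not_le.mp hlt')).trans
          ((Nat.ordProj_dvd _ p).trans H.card_subgroup_dvd_card))
      rw [this, pow_one]
    set M := normalizer (((P : Subgroup H).map H.subtype : Subgroup G) : Set G)
    have hMH : M ⊔ H = ⊤ := Sylow.normalizer_sup_eq_top P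
    have hsurj : Function.Surjective ((QuotientGroup.mk' H).comp M.subtype) := by
      rw [← MonoidHom.range_eq_top, MonoidHom.range_comp, Subgroup.range_subtype]
      refine top_le_iff.mp ?_
      rw [← Subgroup.map_top_of_surjective (QuotientGroup.mk' H) (QuotientGroup.mk'_surjective H), ← hMH,
        Subgroup.map_sup]
      simp
    have hrM : r ∣ Nat.card M := by
      refine dvd_trans ?_ (Subgroup.card_dvd_of_surjective _ hsurj)
      have h1 := Subgroup.card_eq_card_quotient_mul_card_subgroup H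
      exact ((hr.dvd_mul).mp (h1 ▸ (facts hr hr1 hr2).1)).resolve_right hrH
    haveI := Fact.mk hr
    obtain ⟨y, hy⟩ := exists_prime_orderOf_dvd_card' (G := M) r hrM
    have hne : p ≠ r := fun h => hrH (h ▸ hpH)
    have hp3 : 6 ≤ p := by omega
    have hr3 : 6 ≤ r := by omega
    have hpr : ¬ r ∣ p - 1 := by
      intro hd
      obtain ⟨c, hc⟩ := hd
      have hpo := hp.odd_of_ne_two (by omega)
      have hro := hr.odd_of_ne_two (by omega)
      rcases (show c = 0 ∨ c = 1 ∨ 2 ≤ c by omega) with rfl | rfl | h2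
      · omega
      · rw [Nat.odd_iff] at hpo hro; omega
      · have := Nat.mul_le_mul_left r h2; omega
    obtain ⟨g, hg⟩ := exists_mul_of_normalize hp hr hne hpr hP (y := (y : G)) (by rw [Subgroup.orderOf_coe, hy]) y.2
    exact no_mul_of_spectrum hp hr hne (by omega) hspec g hg
  have hallK : ∀ r : ℕ, r.Prime → n < 2 * r → r ≤ n → r ∣ Nat.card K := fun r hr h1 h2 =>
    hKH ▸ dvd_card_quotient hr (hN.1.2 r hr h1 h2) (hallH r hr h1 h2)
  have hsq : ¬ p ^ 2 ∣ Nat.card (G ⧸ N) := fun h =>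
    (facts hp hp1 hp2).2 (h.trans (Subgroup.card_quotient_dvd_card N))
  haveI hKs : IsSimpleGroup K := minimal_normal_simple hKne
    hKmin hp (hallK p hp hp1 hp2) hsq
  let f : H →* K := ((QuotientGroup.mk' N).comp H.subtype).codRestrict K fun z => z.2
  have hf : Function.Surjective f := by
    rintro ⟨w, hw⟩
    obtain ⟨z, rfl⟩ := QuotientGroup.mk'_surjective N w
    exact ⟨⟨z, hw⟩, rfl⟩
  have hker : f.ker = N.subgroupOf H := by
    ext z
    rw [MonoidHom.mem_ker, Subgroup.mem_subgroupOf]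
    exact Subtype.ext_iff.trans (QuotientGroup.eq_one_iff (z : G))
  let e : ↥H ⧸ N.subgroupOf H ≃* K :=
    (QuotientGroup.quotientMulEquivOfEq hker.symm).trans (QuotientGroup.quotientKerEquivOfSurjective f hf)
  haveI : Nontrivial (↥H ⧸ N.subgroupOf H) := e.toEquiv.nontrivial
  refine ⟨N, H, hN.1.1, hHn, hlt, e.symm.isSimpleGroup_congr.mp hKs, fun hc => ?_, fun r hr h1 h2 => ?_⟩
  · haveI : IsMulCommutative K := ⟨⟨fun a b => by
      exact e.symm.injective (by rw [map_mul, map_mul, hc.is_comm.comm])⟩⟩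
    letI : CommGroup K := { (inferInstance : Group K) with mul_comm := fun a b => (this : IsMulCommutative K).is_comm.comm a b }
    have hpr := IsSimpleGroup.prime_card (α := K)
    have e1 := (Nat.prime_dvd_prime_iff_eq hp₀ hpr).mp (hallK p₀ hp₀ hn₀ (by omega))
    have e2 := (Nat.prime_dvd_prime_iff_eq hq₀ hpr).mp (hallK q₀ hq₀ (by omega) hq₀n)
    omega
  · rw [Nat.card_congr e.toEquiv]; exact hallK r hr h1 h2

theorem not_solvable [Finite G] (n : ℕ) (hn : 5 ≤ n)
    (hcard : Nat.card G = Nat.card ↥(alternatingGroup (Fin n)))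
    (hspec : Set.range (orderOf : G → ℕ) = Set.range (orderOf : ↥(alternatingGroup (Fin n)) → ℕ)) :
    ¬ Group.IsSolvable G := by
  intro hsol
  haveI := hsol
  rcases le_or_gt 11 n with h11 | h11
  · obtain ⟨N, H, hNn, -, -, hs, hnc, -⟩ := section_of_upper_primes n h11 hcard hspec
    haveI := hs
    haveI : Group.IsSolvable (↥H ⧸ N.subgroupOf H) := inferInstance
    exact hnc ⟨⟨IsSimpleGroup.comm_iff_isSolvable.mpr inferInstance⟩⟩
  · haveI : Nontrivial (Fin n) := Fin.nontrivial_iff_two_le.mpr (by omega)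
    have hG : Nat.card G = n.factorial / 2 := by rw [hcard, nat_card_alternatingGroup, Nat.card_fin]
    have key : ∀ p q a b m : ℕ, p.Prime → q.Prime → p ≠ q → n < p + q → a ≠ 0 → b ≠ 0 →
        n.factorial / 2 = (p ^ a * q ^ b) * m → (p ^ a * q ^ b).Coprime m →
        (∀ d ∈ (p ^ a * q ^ b).divisors, d % p = 1 → ¬ p ∣ d → d = 1) →
        (∀ d ∈ (p ^ a * q ^ b).divisors, d % q = 1 → ¬ q ∣ d → d = 1) → False := by
      intro p q a b m hp hq hne hsum ha hb hm hco h1 h2
      obtain ⟨H, hH⟩ := Coprime.exists_piHall (G := G) {r | r ∣ p ^ a * q ^ b}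
      have hc := Coprime.card_eq_of_isPiHall (hG.trans hm) hco hH
      obtain ⟨g, hg⟩ := exists_mul_of_forced hp hq hne hc ha hb h1 h2
      exact no_mul_of_spectrum hp hq hne hsum hspec (g : G) (by rw [Subgroup.orderOf_coe, hg])
    interval_cases n
    · exact key 3 5 1 1 4 (by norm_num) (by norm_num) (by norm_num) (by norm_num) one_ne_zero one_ne_zero
        (by decide) (by decide) (by decide +kernel) (by decide +kernel)
    · exact key 3 5 2 1 8 (by norm_num) (by norm_num) (by norm_num) (by norm_num) two_ne_zero one_ne_zero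
        (by decide) (by decide) (by decide +kernel) (by decide +kernel)
    · exact key 5 7 1 1 72 (by norm_num) (by norm_num) (by norm_num) (by norm_num) one_ne_zero one_ne_zero
        (by decide +kernel) (by decide +kernel) (by decide +kernel) (by decide +kernel)
    · exact key 5 7 1 1 576 (by norm_num) (by norm_num) (by norm_num) (by norm_num) one_ne_zero one_ne_zero
        (by decide +kernel) (by decide +kernel) (by decide +kernel) (by decide +kernel)
    · exact key 5 7 1 1 5184 (by norm_num) (by norm_num) (by norm_num) (by norm_num) one_ne_zero one_ne_zero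
        (by decide +kernel) (by decide +kernel) (by decide +kernel) (by decide +kernel)
    · exact key 5 7 2 1 10368 (by norm_num) (by norm_num) (by norm_num) (by norm_num) two_ne_zero one_ne_zero
        (by decide +kernel) (by decide +kernel) (by decide +kernel) (by decide +kernel)

end Cfsg.Lib.AltOrderSpectrum
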