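import Mathlib.GroupTheory.Sylow
import Mathlib.GroupTheory.GroupAction.Basic
import Mathlib.GroupTheory.PGroup
import Cfsg.Agent.PGroups.CyclicIndexOdd

/-!
# Closed groups of degree twice a prime square have a derangement of prime order

A Sylow subgroup has two orbits of size p²; a central element on one orbit is glued to a central element
of the action on the other.
-/

set_option autoImplicit false

namespace Cfsg.Lib.DerangementTwoPSquare

open MulAction Subgroup

variable {G Ω : Type*} [Group G] [MulAction G Ω] [FaithfulSMul G Ω] [Finite G] [Finite Ω]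

theorem exists_central {P : Type*} [Group P] [Finite P] {p : ℕ} [Fact p.Prime] (hP : IsPGroup p P)
    {N : Subgroup P} [N.Normal] (hN : N ≠ ⊥) : ∃ x ∈ N, orderOf x = p ∧ x ∈ center P := by
  letI : MulAction P N := MulAction.compHom N (MulAut.conjNormal (H := N))
  have hdvd : p ∣ Nat.card N := by
    obtain ⟨k, hk⟩ := IsPGroup.iff_card.mp (hP.to_subgroup N)
    rw [hk]
    exact dvd_pow_self p fun h => hN (Subgroup.card_eq_one.mp (by rw [hk, h, pow_zero]))
  have h1 : (1 : N) ∈ MulAction.fixedPoints P N := fun g => map_one (MulAut.conjNormal (H := N) g)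
  obtain ⟨b, hb, hb1⟩ := hP.exists_fixed_point_of_prime_dvd_card_of_fixed_point N hdvd h1
  set C := N ⊓ center P
  have hC : C ≠ ⊥ := fun h => hb1 (Subtype.ext (by
    have hm : (b : P) ∈ C := ⟨b.2, mem_center_iff.mpr fun g => mul_inv_eq_iff_eq_mul.mp (congrArg Subtype.val (hb g))⟩
    rw [h, mem_bot] at hm
    exact hm.symm))
  have hdC : p ∣ Nat.card C := by
    obtain ⟨k, hk⟩ := IsPGroup.iff_card.mp (hP.to_subgroup C)
    rw [hk]
    exact dvd_pow_self p fun h => hC (Subgroup.card_eq_one.mp (by rw [hk, h, pow_zero]))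
  obtain ⟨x, hx⟩ := exists_prime_orderOf_dvd_card' (G := C) p hdC
  exact ⟨x, x.2.1, by rw [Subgroup.orderOf_coe, hx], x.2.2⟩

theorem main (htrans : IsPretransitive G Ω) (p : ℕ) (hp : p.Prime) (hcard : Nat.card Ω = 2 * p ^ 2)
    (hcl : ∀ σ : Equiv.Perm Ω, (∀ a b : Ω, ∃ g : G, σ a = g • a ∧ σ b = g • b) → ∃ g : G, ∀ a : Ω, σ a = g • a) :
    ∃ g : G, (orderOf g).Prime ∧ ∀ ω : Ω, g • ω ≠ ω := by
  classical
  haveI := Fact.mk hp
  haveI hΩ : Nonempty Ω := (Nat.card_pos_iff.mp (by rw [hcard]; exact Nat.mul_pos two_pos (pow_pos hp.pos 2))).1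
  let P : Sylow p G := default
  -- every orbit of P has size divisible by the p-part of the degree
  have horb : ∀ ω : Ω, ∀ j : ℕ, p ^ j ∣ Nat.card Ω → p ^ j ∣ Nat.card (orbit P ω) := by
    intro ω j hj
    have hG : (stabilizer G ω).index = Nat.card Ω := index_stabilizer_of_transitive G ω
    have hPp : ¬ p ∣ (P : Subgroup G).index := P.not_dvd_index
    have e : Nat.card (orbit P ω) = ((stabilizer G ω).subgroupOf (P : Subgroup G)).index := by
      have e' : stabilizer P ω = (stabilizer G ω).subgroupOf (P : Subgroup G) := rfl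
      rw [← e', Subgroup.index, ← Nat.card_congr (orbitEquivQuotientStabilizer P ω)]
    rw [e]
    have h2 : ((stabilizer G ω) ⊓ (P : Subgroup G)).index =
        ((stabilizer G ω).subgroupOf (P : Subgroup G)).index * (P : Subgroup G).index := by
      rw [← inf_subgroupOf_right, ← Subgroup.relIndex, Subgroup.relIndex_mul_index inf_le_right]
    have h3 : p ^ j ∣ ((stabilizer G ω).subgroupOf (P : Subgroup G)).index * (P : Subgroup G).index := by
      rw [← h2]
      exact (hG ▸ hj).trans (index_dvd_of_le inf_le_left)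
    exact (Nat.Coprime.pow_left j ((Nat.Prime.coprime_iff_not_dvd hp).mpr hPp)).dvd_of_dvd_mul_right h3
  have hPne : (P : Subgroup G) ≠ ⊥ := by
    intro h
    have h1 := horb (Classical.arbitrary Ω) 1 (by rw [pow_one, hcard]; exact dvd_mul_of_dvd_right (dvd_pow_self p two_ne_zero) 2)
    have hone : orbit P (Classical.arbitrary Ω) = {Classical.arbitrary Ω} := by
      refine Set.eq_singleton_iff_unique_mem.mpr ⟨mem_orbit_self _, ?_⟩
      rintro _ ⟨g, rfl⟩
      have : (g : G) = 1 := mem_bot.mp (h ▸ g.2)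
      show (g : G) • Classical.arbitrary Ω = Classical.arbitrary Ω
      rw [this, one_smul]
    rw [hone] at h1
    simp at h1
    exact hp.ne_one h1
  haveI : Nontrivial (P : Subgroup G) := (nontrivial_iff_ne_bot _).mpr hPne
  -- a central element moving one point of an orbit moves all of it
  have hmove : ∀ {π : P} {ω ω' : Ω}, ω' ∈ orbit P ω → (∀ g : P, ∀ x ∈ orbit P ω, g • π • x = π • g • x) →
      π • ω = ω → π • ω' = ω' := by
    rintro π ω _ ⟨g, rfl⟩ hc hfix
    show π • g • ω = g • ω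
    rw [← hc g ω (mem_orbit_self ω), hfix]
  obtain ⟨z, -, hzo, hz⟩ := exists_central P.2 (N := (⊤ : Subgroup P)) top_ne_bot
  have hzc : ∀ (g : P) (ω : Ω), g • z • ω = z • g • ω := fun g ω => by
    rw [← mul_smul, ← mul_smul, mem_center_iff.mp hz g]
  have hzp : z ^ p = 1 := orderOf_dvd_iff_pow_eq_one.mp (by rw [hzo])
  have hzG : orderOf ((z : P) : G) = p := by rw [Subgroup.orderOf_coe]; exact hzo
  by_cases hfpf : ∀ ω : Ω, z • ω ≠ ω
  · exact ⟨((z : P) : G), by rw [hzG]; exact hp, hfpf⟩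
  simp only [not_forall, not_not] at hfpf
  obtain ⟨b₀, hb₀⟩ := hfpf
  have hzB : ∀ ω ∈ orbit P b₀, z • ω = ω := fun ω hω => hmove hω (fun g x _ => hzc g x) hb₀
  obtain ⟨a₀, ha₀⟩ : ∃ a, z • a ≠ a := by
    refine Classical.byContradiction fun hall => ?_
    simp only [not_exists, not_not] at hall
    have : ((z : P) : G) = 1 := FaithfulSMul.eq_of_smul_eq_smul (α := Ω) fun ω => by rw [one_smul]; exact hall ω
    rw [this, orderOf_one] at hzG
    exact hp.ne_one hzG.symm
  have ha₀B : a₀ ∉ orbit P b₀ := fun h => ha₀ (hzB _ h)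
  set A := orbit P a₀ with hA
  set B := orbit P b₀ with hB
  have hdisj : Disjoint A B := by
    rw [Set.disjoint_left]
    intro ω h1 h2
    refine ha₀B ?_
    rw [hB, ← orbit_eq_iff.mpr h2, orbit_eq_iff.mpr h1]
    exact mem_orbit_self a₀
  have hpd : p ^ 2 ∣ Nat.card Ω := by rw [hcard]; exact dvd_mul_left _ _
  have hsize : ∀ ω : Ω, p ^ 2 ≤ Nat.card (orbit P ω) := fun ω =>
    Nat.le_of_dvd (Nat.card_pos_iff.mpr ⟨⟨⟨ω, mem_orbit_self ω⟩⟩, inferInstance⟩) (horb ω 2 hpd)
  have hcover : A ∪ B = Set.univ := by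
    refine Set.eq_univ_of_univ_subset ?_
    refine (Set.eq_of_subset_of_ncard_le (Set.subset_univ (A ∪ B)) ?_ Set.finite_univ).ge
    rw [Set.ncard_univ, Set.ncard_union_eq hdisj, hcard, ← Nat.card_coe_set_eq, ← Nat.card_coe_set_eq]
    have := hsize a₀; have := hsize b₀
    simp only [← hA, ← hB] at *
    omega
  have hcases : ∀ ω : Ω, ω ∈ A ∨ ω ∈ B := fun ω => (hcover ▸ Set.mem_univ ω : ω ∈ A ∪ B)
  have hzA : ∀ ω ∈ A, z • ω ≠ ω := fun ω hω h => by
    refine ha₀ (hmove ?_ (fun g x _ => hzc g x) h)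
    rw [orbit_eq_iff.mpr hω]; exact mem_orbit_self a₀
  -- the kernel on A
  let KB : Subgroup P :=
    { carrier := {g | ∀ ω ∈ A, g • ω = ω}
      one_mem' := fun ω _ => one_smul _ ω
      mul_mem' := fun {x y} hx hy ω hω => by rw [mul_smul, hy ω hω, hx ω hω]
      inv_mem' := fun {x} hx ω hω => inv_smul_eq_iff.mpr (hx ω hω).symm }
  by_cases hKB : KB = ⊥
  swap
  · haveI : KB.Normal := ⟨fun x hx g ω hω => by
      rw [mul_smul, mul_smul, hx _ (mem_orbit_of_mem_orbit g⁻¹ hω), smul_inv_smul]⟩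
    obtain ⟨z', hz', hz'o, hz'c⟩ := exists_central P.2 hKB
    have hz'B : ∀ ω ∈ B, z' • ω ≠ ω := by
      intro ω hω h
      have h1 : z' = 1 := Subtype.ext (FaithfulSMul.eq_of_smul_eq_smul (α := Ω) fun x => by
        rw [Subgroup.coe_one, one_smul]
        rcases hcases x with hx | hx
        · exact hz' x hx
        · refine hmove (ω := ω) ?_ (fun g y _ => by rw [← mul_smul, ← mul_smul, mem_center_iff.mp hz'c g]) h
          rwa [orbit_eq_iff.mpr hω])
      rw [h1, orderOf_one] at hz'o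
      exact hp.ne_one hz'o.symm
    refine ⟨((z * z' : P) : G), ?_, fun ω h => ?_⟩
    · have h1 : orderOf (z * z') ∣ p := by
        refine orderOf_dvd_of_pow_eq_one ?_
        rw [(show Commute z z' from (mem_center_iff.mp hz z').symm).mul_pow, hzp,
          orderOf_dvd_iff_pow_eq_one.mp (by rw [hz'o] : orderOf z' ∣ p), one_mul]
      rw [Subgroup.orderOf_coe]
      rcases (Nat.dvd_prime hp).mp h1 with h2 | h2
      · exfalso
        refine hzA a₀ (mem_orbit_self a₀) ?_
        calc z • a₀ = z • z' • a₀ := by rw [hz' a₀ (mem_orbit_self a₀)]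
          _ = (z * z') • a₀ := (mul_smul _ _ _).symm
          _ = a₀ := by rw [orderOf_eq_one_iff.mp h2, one_smul]
      · rw [h2]; exact hp
    · have h' : z • z' • ω = ω := by rw [← mul_smul]; exact h
      rcases hcases ω with hω | hω
      · rw [hz' ω hω] at h'; exact hzA ω hω h'
      · have : z' • ω ∈ B := by
          rw [hB, ← orbit_eq_iff.mpr hω]; exact ⟨z', rfl⟩
        rw [hzB _ this] at h'
        exact hz'B ω hω h'
  -- the kernel on B
  let KA : Subgroup P :=
    { carrier := {g | ∀ ω ∈ B, g • ω = ω}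
      one_mem' := fun ω _ => one_smul _ ω
      mul_mem' := fun {x y} hx hy ω hω => by rw [mul_smul, hy ω hω, hx ω hω]
      inv_mem' := fun {x} hx ω hω => inv_smul_eq_iff.mpr (hx ω hω).symm }
  haveI hKAn : KA.Normal := ⟨fun x hx g ω hω => by
    rw [mul_smul, mul_smul, hx _ (mem_orbit_of_mem_orbit g⁻¹ hω), smul_inv_smul]⟩
  have hzKA : z ∈ KA := hzB
  set M := stabilizer P a₀ ⊔ KA with hM
  -- M is normal
  have hindex : (stabilizer P a₀).index = Nat.card A := by
    rw [Subgroup.index]; exact (Nat.card_congr (orbitEquivQuotientStabilizer P a₀)).symm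
  have hMdvd : M.index ∣ p := by
    have hzn : z ∉ stabilizer P a₀ := ha₀
    have hlt : stabilizer P a₀ < M := lt_of_le_of_ne le_sup_left fun h => hzn (h ▸ mem_sup_right hzKA)
    have hAcard : Nat.card A = p ^ 2 := by
      refine le_antisymm ?_ (hsize a₀)
      have h1 := hsize b₀
      have h2 : A.ncard + B.ncard = 2 * p ^ 2 := by
        rw [← Set.ncard_union_eq hdisj, hcover, Set.ncard_univ, hcard]
      rw [← Nat.card_coe_set_eq, ← Nat.card_coe_set_eq] at h2
      simp only [← hB] at h1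
      omega
    have h1 := relIndex_mul_index hlt.le
    rw [hindex, hAcard] at h1
    obtain ⟨k, hk, hk'⟩ := (Nat.dvd_prime_pow hp).mp (Dvd.intro _ h1 : (stabilizer P a₀).relIndex M ∣ p ^ 2)
    rcases (show k = 0 ∨ k = 1 ∨ k = 2 by omega) with rfl | rfl | rfl
    · exact absurd (relIndex_eq_one.mp (by rw [hk', pow_zero])) hlt.not_ge
    · rw [hk', pow_one, pow_two] at h1
      exact dvd_of_eq (Nat.eq_of_mul_eq_mul_left hp.pos h1)
    · rw [hk'] at h1
      have : M.index = 1 := Nat.eq_of_mul_eq_mul_left (pow_pos hp.pos 2) (by rw [h1, mul_one])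
      rw [this]; exact one_dvd p
  haveI hMn : M.Normal := by
    rcases (Nat.dvd_prime hp).mp hMdvd with h | h
    · rw [index_eq_one.mp h]; infer_instance
    · exact Cfsg.Lib.PGroups.CyclicIndexOdd.normal_of_index P.2 h
  -- M is the same for all points of A
  have hMall : ∀ a ∈ A, ∀ m ∈ M, ∃ k : P, k • a = a ∧ ∀ b ∈ B, k • b = m • b := by
    rintro _ ⟨g, rfl⟩ m hm
    have hm' : g⁻¹ * m * g ∈ M := by simpa using hMn.conj_mem m hm g⁻¹
    rw [hM, ← SetLike.mem_coe, Subgroup.mul_normal] at hm'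
    obtain ⟨k, hk, c, hc, he⟩ := hm'
    refine ⟨g * k * g⁻¹, ?_, fun b hb => ?_⟩
    · show (g * k * g⁻¹) • g • a₀ = g • a₀
      rw [← mul_smul, inv_mul_cancel_right, mul_smul, (hk : k • a₀ = a₀)]
    · have hmeq : m = g * k * g⁻¹ * (g * c * g⁻¹) := by
        have e : k * c = g⁻¹ * m * g := he
        calc m = g * (g⁻¹ * m * g) * g⁻¹ := by group
          _ = g * (k * c) * g⁻¹ := by rw [e]
          _ = _ := by group
      rw [hmeq]
      exact (congrArg (fun x => (g * k * g⁻¹) • x) (hKAn.conj_mem c hc g b hb)).symm.trans (mul_smul _ _ _).symm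
  -- a central element of the action on B inside M
  have hMK : M.map (QuotientGroup.mk' KA) ≠ ⊥ := by
    intro h
    have hle : stabilizer P a₀ ≤ KA := fun x hx => by
      have := mem_map_of_mem (QuotientGroup.mk' KA) (mem_sup_left hx : x ∈ M)
      rw [h, mem_bot] at this
      exact (QuotientGroup.eq_one_iff x).mp this
    have hle' : stabilizer P a₀ ≤ stabilizer P b₀ := fun x hx => hle hx b₀ (mem_orbit_self b₀)
    have heq : stabilizer P a₀ = stabilizer P b₀ := by
      refine eq_of_le_of_card_ge hle' ?_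
      have e1 := (stabilizer P a₀).card_mul_index
      have e2 := (stabilizer P b₀).card_mul_index
      rw [hindex] at e1
      rw [show (stabilizer P b₀).index = Nat.card B from (Nat.card_congr (orbitEquivQuotientStabilizer P b₀)).symm] at e2
      have h1 := hsize a₀; have h2 := hsize b₀
      have h3 : A.ncard + B.ncard = 2 * p ^ 2 := by
        rw [← Set.ncard_union_eq hdisj, hcover, Set.ncard_univ, hcard]
      rw [← Nat.card_coe_set_eq, ← Nat.card_coe_set_eq] at h3
      simp only [← hA, ← hB] at h1 h2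
      rw [show Nat.card A = p ^ 2 by omega] at e1
      rw [show Nat.card B = p ^ 2 by omega, ← e1] at e2
      exact (Nat.eq_of_mul_eq_mul_right (pow_pos hp.pos 2) e2).le
    exact ha₀ (show z ∈ stabilizer P a₀ from heq ▸ hb₀)
  haveI : (M.map (QuotientGroup.mk' KA)).Normal := hMn.map _ (QuotientGroup.mk'_surjective KA)
  obtain ⟨w, hw, hwo, hwc⟩ := exists_central (P.2.to_quotient KA) hMK
  obtain ⟨π, hπ, rfl⟩ := hw
  have hπc : ∀ (g : P), ∀ x ∈ B, g • π • x = π • g • x := by
    intro g x hx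
    have h1 : (π * g)⁻¹ * (g * π) ∈ KA :=
      QuotientGroup.eq.mp (show QuotientGroup.mk' KA (π * g) = QuotientGroup.mk' KA (g * π) by
        rw [map_mul, map_mul, mem_center_iff.mp hwc])
    have := h1 x hx
    rw [mul_smul, inv_smul_eq_iff, mul_smul, mul_smul] at this
    exact this
  have hBinv : ∀ (g : P), ∀ x ∈ B, g • x ∈ B := fun g x hx => mem_orbit_of_mem_orbit g hx
  have hAinv : ∀ (g : P), ∀ x ∈ A, g • x ∈ A := fun g x hx => mem_orbit_of_mem_orbit g hx
  have hπB : ∀ b ∈ B, π • b ≠ b := by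
    intro b hb h
    have hπK : π ∈ KA := fun x hx => hmove (ω := b) (by rw [orbit_eq_iff.mpr hb]; exact hx)
      (fun g y hy => hπc g y (by rwa [orbit_eq_iff.mpr hb] at hy)) h
    have h1 : QuotientGroup.mk' KA π = 1 := (QuotientGroup.eq_one_iff π).mpr hπK
    rw [h1, orderOf_one] at hwo
    exact hp.ne_one hwo.symm
  have hπp : π ^ p ∈ KA := by
    rw [← QuotientGroup.eq_one_iff (N := KA)]
    show QuotientGroup.mk' KA (π ^ p) = 1
    rw [map_pow]
    exact orderOf_dvd_iff_pow_eq_one.mp (by rw [hwo])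
  -- glue
  let f : Ω → Ω := fun ω => if ω ∈ A then z • ω else π • ω
  have fA : ∀ ω ∈ A, f ω = z • ω := fun ω h => if_pos h
  have fB : ∀ ω ∈ B, f ω = π • ω := fun ω h => if_neg (Set.disjoint_right.mp hdisj h)
  have hf : Function.Injective f := by
    intro x y hxy
    rcases hcases x with hx | hx <;> rcases hcases y with hy | hy
    · rw [fA x hx, fA y hy] at hxy; exact MulAction.injective z hxy
    · rw [fA x hx, fB y hy] at hxy
      exact absurd (hxy ▸ hAinv z x hx) (Set.disjoint_right.mp hdisj (hBinv π y hy))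
    · rw [fB x hx, fA y hy] at hxy
      exact absurd (hxy.symm ▸ hAinv z y hy) (Set.disjoint_right.mp hdisj (hBinv π x hx))
    · rw [fB x hx, fB y hy] at hxy; exact MulAction.injective π hxy
  let σ : Equiv.Perm Ω := Equiv.ofBijective f ⟨hf, Finite.surjective_of_injective hf⟩
  have hsmul : ∀ (g : P) (ω : Ω), ((g : G)) • ω = g • ω := fun _ _ => rfl
  have hmixed : ∀ a ∈ A, ∀ b ∈ B, ∃ g : G, f a = g • a ∧ f b = g • b := by
    intro a ha b hb
    obtain ⟨k, hka, hkb⟩ := hMall a ha π hπ
    refine ⟨((z * k : P) : G), ?_, ?_⟩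
    · rw [hsmul, mul_smul, hka, fA a ha]
    · rw [hsmul, mul_smul, hkb b hb, hzB _ (hBinv π b hb), fB b hb]
  obtain ⟨g, hg⟩ := hcl σ (fun a b => by
    show ∃ g : G, f a = g • a ∧ f b = g • b
    rcases hcases a with ha | ha <;> rcases hcases b with hb | hb
    · exact ⟨(z : G), fA a ha, fA b hb⟩
    · exact hmixed a ha b hb
    · obtain ⟨g, h1, h2⟩ := hmixed b hb a ha
      exact ⟨g, h2, h1⟩
    · exact ⟨(π : G), fB a ha, fB b hb⟩)
  have hgA : ∀ (n : ℕ) (ω : Ω), ω ∈ A → g ^ n • ω = z ^ n • ω := by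
    intro n
    induction n with
    | zero => intro ω _; simp
    | succ n ih =>
      intro ω hω
      rw [pow_succ, mul_smul, pow_succ, mul_smul, ← hg ω, show σ ω = z • ω from fA ω hω, ih _ (hAinv z ω hω)]
  have hgB : ∀ (n : ℕ) (ω : Ω), ω ∈ B → g ^ n • ω = π ^ n • ω := by
    intro n
    induction n with
    | zero => intro ω _; simp
    | succ n ih =>
      intro ω hω
      rw [pow_succ, mul_smul, pow_succ, mul_smul, ← hg ω, show σ ω = π • ω from fB ω hω, ih _ (hBinv π ω hω)]
  refine ⟨g, ?_, fun ω h => ?_⟩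
  · have hgp : g ^ p = 1 := FaithfulSMul.eq_of_smul_eq_smul (α := Ω) fun ω => by
      rw [one_smul]
      rcases hcases ω with hω | hω
      · rw [hgA p ω hω, hzp, one_smul]
      · rw [hgB p ω hω]; exact hπp ω hω
    have hg1 : g ≠ 1 := fun h => hzA a₀ (mem_orbit_self a₀) (by
      rw [← fA a₀ (mem_orbit_self a₀), show f a₀ = g • a₀ from hg a₀, h, one_smul])
    rw [orderOf_eq_prime hgp hg1]; exact hp
  · rw [← hg ω] at h
    rcases hcases ω with hω | hω
    · exact hzA ω hω (by rw [← fA ω hω]; exact h)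
    · exact hπB ω hω (by rw [← fB ω hω]; exact h)

end Cfsg.Lib.DerangementTwoPSquare
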