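import Cfsg.Agent.Golay.Steiner3622
import Cfsg.Prelude.Def_Sporadic_a

/-!
# Uniqueness of the strongly regular graph with parameters (100, 22, 0, 6)

For nonadjacent vertices `a`, `b` every vertex adjacent to neither sees exactly two of their six common neighbours, so
the non-neighbours of a vertex give a Steiner system S(3, 6, 22) on its neighbours.
-/

set_option autoImplicit false

namespace Cfsg.Lib.HSGraphUnique

open Cfsg Finset SimpleGraph

universe u

variable {V : Type u} [Fintype V] [DecidableEq V] {G : SimpleGraph V} [DecidableRel G.Adj]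

theorem card_inter_nbhd (h : G.IsSRGWith 100 22 0 6) {a b : V} (hab : a ≠ b) (hn : ¬ G.Adj a b) :
    (G.neighborFinset a ∩ G.neighborFinset b).card = 6 := by
  rw [← h.of_not_adj hab hn, ← Set.toFinset_card]
  congr 1
  ext x
  simp [mem_commonNeighbors]

theorem no_triangle (h : G.IsSRGWith 100 22 0 6) {a b c : V} (hab : G.Adj a b) (hac : G.Adj a c) :
    ¬ G.Adj b c := by
  intro hbc
  have h0 := h.of_adj a b hab
  rw [Fintype.card_eq_zero_iff] at h0
  exact h0.false ⟨c, mem_commonNeighbors (G := G) |>.mpr ⟨hac, hbc⟩⟩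

/-- Every vertex adjacent to neither of two nonadjacent vertices sees two of their common neighbours. -/
theorem two_common (h : G.IsSRGWith 100 22 0 6) {a b x : V} (hab : a ≠ b) (hn : ¬ G.Adj a b) (hxa : x ≠ a)
    (hxb : x ≠ b) (hna : ¬ G.Adj a x) (hnb : ¬ G.Adj b x) :
    (G.neighborFinset x ∩ (G.neighborFinset a ∩ G.neighborFinset b)).card = 2 := by
  classical
  obtain ⟨M, hM⟩ : ∃ M, M = G.neighborFinset a ∩ G.neighborFinset b := ⟨_, rfl⟩
  have hMc : M.card = 6 := hM ▸ card_inter_nbhd h hab hn
  obtain ⟨R, hR⟩ : ∃ R, R = univ \ (({a, b} : Finset V) ∪ (G.neighborFinset a ∪ G.neighborFinset b)) := ⟨_, rfl⟩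
  have hdeg : ∀ y, (G.neighborFinset y).card = 22 := fun y => h.regular y
  have hRc : R.card = 60 := by
    have h1 := card_union_add_card_inter (G.neighborFinset a) (G.neighborFinset b)
    rw [← hM, hMc, hdeg, hdeg] at h1
    have hdis : Disjoint ({a, b} : Finset V) (G.neighborFinset a ∪ G.neighborFinset b) := by
      have hn' : ¬ G.Adj b a := fun h' => hn h'.symm
      simp [Finset.disjoint_left, hn, hn']
    rw [hR, card_sdiff, inter_univ, card_union_of_disjoint hdis, card_univ, h.card, card_pair hab]
    omega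
  have hmR : ∀ m ∈ M, G.neighborFinset m ∩ R = G.neighborFinset m \ {a, b} := by
    intro m hm
    rw [hM, mem_inter, mem_neighborFinset, mem_neighborFinset] at hm
    ext y
    simp only [hR, mem_inter, mem_sdiff, mem_univ, true_and, mem_union, mem_neighborFinset]
    refine ⟨fun hy => ⟨hy.1, fun h' => hy.2 (Or.inl h')⟩, fun hy => ⟨hy.1, ?_⟩⟩
    rintro (h' | h' | h')
    · exact hy.2 h'
    · exact no_triangle h hm.1.symm hy.1 h'
    · exact no_triangle h hm.2.symm hy.1 h'
  have hsub : ∀ m ∈ M, ({a, b} : Finset V) ⊆ G.neighborFinset m := by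
    intro m hm
    rw [hM, mem_inter, mem_neighborFinset, mem_neighborFinset] at hm
    simp [insert_subset_iff, hm.1.symm, hm.2.symm]
  obtain ⟨f, hf⟩ : ∃ f : V → ℕ, f = fun y => (M.filter (G.Adj y)).card := ⟨_, rfl⟩
  have hf' : ∀ y, (f y : ℤ) = ∑ m ∈ M, if G.Adj y m then 1 else 0 := fun y => by
    rw [hf]; simp
  have hcount : ∀ s : Finset V, ∀ m, (∑ y ∈ R, if G.Adj y m then (1 : ℤ) else 0) = ((G.neighborFinset m ∩ R).card : ℤ) := by
    intro _ m
    rw [Finset.sum_boole, inter_comm]
    congr 2
    ext y
    simp [adj_comm]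
  have hS1 : ∑ y ∈ R, (f y : ℤ) = 120 := by
    simp only [hf']
    rw [sum_comm, sum_congr rfl (g := fun _ => (20 : ℤ)) fun m hm => by
      rw [hcount ∅ m, hmR m hm, card_sdiff_of_subset (hsub m hm), hdeg, card_pair hab]; norm_num]
    simp [hMc]
  have hS2 : ∑ y ∈ R, (f y : ℤ) * f y = 240 := by
    have key : ∀ m ∈ M, ∀ m' ∈ M, (∑ y ∈ R, (if G.Adj y m then (1 : ℤ) else 0) * (if G.Adj y m' then 1 else 0))
        = if m = m' then 20 else 4 := by
      intro m hm m' hm'
      by_cases e : m = m'
      · subst e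
        rw [if_pos rfl, ← show ((G.neighborFinset m ∩ R).card : ℤ) = 20 by
          rw [hmR m hm, card_sdiff_of_subset (hsub m hm), hdeg, card_pair hab]; norm_num, ← hcount ∅ m]
        exact sum_congr rfl fun y _ => by split_ifs <;> simp
      · rw [if_neg e]
        have hmm : ¬ G.Adj m m' := by
          rw [hM, mem_inter, mem_neighborFinset] at hm hm'
          exact no_triangle h hm.1 hm'.1
        have e4 : ((G.neighborFinset m ∩ R) ∩ (G.neighborFinset m' ∩ R)).card = 4 := by
          rw [hmR m hm, hmR m' hm']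
          have : (G.neighborFinset m \ {a, b}) ∩ (G.neighborFinset m' \ {a, b}) =
              (G.neighborFinset m ∩ G.neighborFinset m') \ {a, b} := by
            ext y; simp only [mem_inter, mem_sdiff]; tauto
          rw [this, card_sdiff_of_subset (subset_inter (hsub m hm) (hsub m' hm')), card_inter_nbhd h e hmm, card_pair hab]
        rw [← show (((G.neighborFinset m ∩ R) ∩ (G.neighborFinset m' ∩ R)).card : ℤ) = 4 by rw [e4]; norm_num]
        simp only [ite_mul, one_mul, zero_mul, ← ite_and]
        rw [Finset.sum_boole]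
        congr 2
        ext y
        simp only [mem_filter, mem_inter, mem_neighborFinset, adj_comm _ y]
        tauto
    simp only [hf', sum_mul_sum]
    rw [sum_comm, sum_congr rfl fun m hm => (sum_comm.trans (sum_congr rfl (key m hm)))]
    rw [sum_congr rfl (g := fun _ => (40 : ℤ)) fun m hm => by
      rw [← add_sum_erase M _ hm, if_pos rfl, sum_congr rfl (g := fun _ => (4 : ℤ))
        fun m' hm' => if_neg (ne_of_mem_erase hm').symm, sum_const, card_erase_of_mem hm, hMc]
      norm_num]
    simp [hMc]
  have hzero : ∑ y ∈ R, ((f y : ℤ) - 2) * ((f y : ℤ) - 2) = 0 := by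
    have : ∀ y, ((f y : ℤ) - 2) * ((f y : ℤ) - 2) = (f y : ℤ) * f y - 4 * f y + 4 := fun y => by ring
    simp only [this, sum_add_distrib, sum_sub_distrib, ← mul_sum, hS1, hS2, sum_const, hRc]
    norm_num
  have hxR : x ∈ R := by simp [hR, hxa, hxb, hna, hnb]
  have hx := (sum_eq_zero_iff_of_nonneg fun y _ => mul_self_nonneg _).mp hzero x hxR
  have hx2 : f x = 2 := by
    have := mul_self_eq_zero.mp hx
    omega
  rw [hf] at hx2
  rw [← hM, ← hx2, inter_comm]
  congr 1
  ext y
  simp

/-- The graph is the point-block graph of a Steiner system. -/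
theorem exists_steiner (h : G.IsSRGWith 100 22 0 6) :
    ∃ (P : Type u) (_ : Fintype P) (_ : DecidableEq P) (B : Set (Finset P)), Fintype.card P = 22 ∧
      IsSteinerSystem 3 6 B ∧ Nonempty (pointBlockGraph B ≃g G) := by
  classical
  haveI : Nonempty V := Fintype.card_pos_iff.mp (by rw [h.card]; norm_num)
  obtain ⟨v⟩ := ‹Nonempty V›
  let P := {p : V // G.Adj v p}
  let U := {u : V // u ≠ v ∧ ¬ G.Adj v u}
  let blk : U → Finset P := fun u => univ.filter fun p : P => G.Adj u.1 p.1
  have hP : Fintype.card P = 22 := by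
    rw [Fintype.card_subtype, ← h.regular v]
    rw [← card_neighborFinset_eq_degree]
    congr 1
    ext p
    simp
  have hmap : ∀ u : U, (blk u).map (Function.Embedding.subtype _) = G.neighborFinset v ∩ G.neighborFinset u.1 :=
    fun u => by
      ext p
      simp only [blk, mem_map, mem_filter, mem_univ, true_and, mem_inter, mem_neighborFinset,
        Function.Embedding.subtype_apply]
      exact ⟨fun ⟨q, hq, e⟩ => e ▸ ⟨q.2, hq⟩, fun hp => ⟨⟨p, hp.1⟩, hp.2, rfl⟩⟩
  have hblk : ∀ u : U, (blk u).card = 6 := fun u => by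
    rw [← card_map (Function.Embedding.subtype fun p => G.Adj v p), hmap]
    exact card_inter_nbhd h u.2.1.symm u.2.2
  have hinter : ∀ u w : U, u ≠ w → (G.Adj u.1 w.1 → Disjoint (blk u) (blk w)) ∧
      (¬ G.Adj u.1 w.1 → (blk u ∩ blk w).card = 2) := by
    intro u w huw
    refine ⟨fun ha => Finset.disjoint_left.mpr fun p hp hp' => ?_, fun ha => ?_⟩
    · simp only [blk, mem_filter, mem_univ, true_and] at hp hp'
      exact no_triangle h ha hp hp'
    · rw [← card_map (Function.Embedding.subtype fun p => G.Adj v p), map_inter, hmap, hmap]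
      have e : G.neighborFinset v ∩ G.neighborFinset u.1 ∩ (G.neighborFinset v ∩ G.neighborFinset w.1) =
          G.neighborFinset v ∩ (G.neighborFinset u.1 ∩ G.neighborFinset w.1) := by
        ext y; simp only [mem_inter]; tauto
      rw [e]
      exact two_common h (fun e => huw (Subtype.ext e)) ha u.2.1.symm w.2.1.symm (fun e => u.2.2 e.symm)
        (fun e => w.2.2 e.symm)
  have hsmall : ∀ u w : U, u ≠ w → (blk u ∩ blk w).card ≤ 2 := fun u w huw => by
    by_cases ha : G.Adj u.1 w.1
    · rw [disjoint_iff_inter_eq_empty.mp ((hinter u w huw).1 ha)]; simp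
    · rw [(hinter u w huw).2 ha]
  have hinj : Function.Injective blk := fun u w e => by
    by_contra huw
    have := hsmall u w huw
    rw [e, inter_self, hblk] at this
    omega
  have hU : Fintype.card U = 77 := by
    rw [Fintype.card_subtype]
    have : (univ.filter fun u => u ≠ v ∧ ¬ G.Adj v u) = univ \ insert v (G.neighborFinset v) := by
      ext u; simp [and_comm]
    rw [this, card_sdiff, inter_univ, card_univ, h.card, card_insert_of_notMem (by simp), card_neighborFinset_eq_degree,
      h.regular v]
  -- every three points lie in a block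
  obtain ⟨S, hS⟩ : ∃ S : Finset (Σ _ : U, Finset P), S = univ.sigma fun u => (blk u).powersetCard 3 := ⟨_, rfl⟩
  have hScard : S.card = 1540 := by
    rw [hS, card_sigma, sum_congr rfl (g := fun _ => 20) fun u _ => by rw [card_powersetCard, hblk]; rfl, sum_const,
      card_univ, hU]
    rfl
  have hTcard : ((univ : Finset P).powersetCard 3).card = 1540 := by
    rw [card_powersetCard, card_univ, hP]; rfl
  have himg : S.image Sigma.snd = (univ : Finset P).powersetCard 3 := by
    refine eq_of_subset_of_card_le (fun s hs => ?_) ?_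
    · obtain ⟨⟨u, s'⟩, hu, rfl⟩ := mem_image.mp hs
      rw [hS, mem_sigma, mem_powersetCard] at hu
      exact mem_powersetCard.mpr ⟨subset_univ _, hu.2.2⟩
    · rw [hTcard, card_image_of_injOn, hScard]
      rintro ⟨u, s⟩ hu ⟨w, s'⟩ hw (rfl : s = s')
      rw [hS, mem_coe, mem_sigma, mem_powersetCard] at hu hw
      by_cases huw : u = w
      · rw [huw]
      · have h1 : 3 ≤ (blk u ∩ blk w).card := hu.2.2 ▸ card_le_card (subset_inter hu.2.1 hw.2.1)
        have := hsmall u w huw
        omega
  have hB : IsSteinerSystem 3 6 (Set.range blk) := by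
    refine ⟨by rintro _ ⟨u, rfl⟩; exact hblk u, fun s hs => ?_⟩
    have hm : s ∈ S.image Sigma.snd := by rw [himg]; exact mem_powersetCard.mpr ⟨subset_univ _, hs⟩
    obtain ⟨⟨u, s'⟩, hu, rfl⟩ := mem_image.mp hm
    rw [hS, mem_sigma, mem_powersetCard] at hu
    refine ⟨blk u, ⟨⟨u, rfl⟩, hu.2.1⟩, ?_⟩
    rintro _ ⟨⟨w, rfl⟩, hw⟩
    by_contra hne
    have h1 : 3 ≤ (blk u ∩ blk w).card := hu.2.2 ▸ card_le_card (subset_inter hu.2.1 hw)
    have := hsmall u w fun e => hne (by rw [e])
    omega
  refine ⟨P, inferInstance, inferInstance, Set.range blk, hP, hB, ?_⟩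
  let e' : Set.range blk → U := fun b => (Equiv.ofInjective blk hinj).symm b
  let φ : Option (P ⊕ Set.range blk) → V
    | none => v
    | some (Sum.inl p) => p.1
    | some (Sum.inr b) => (e' b).1
  have he : ∀ b, blk (e' b) = b.1 := fun b => Equiv.apply_ofInjective_symm hinj b
  have he' : Function.Injective e' := (Equiv.ofInjective blk hinj).symm.injective
  have hφ : Function.Bijective φ := by
    constructor
    · rintro (_ | p | b) (_ | p' | b') hh <;> simp only [φ] at hh
      · rfl
      · have := p'.2; rw [← hh] at this; exact absurd this G.irrefl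
      · exact absurd hh.symm (e' b').2.1
      · have := p.2; rw [hh] at this; exact absurd this G.irrefl
      · rw [Subtype.ext hh]
      · have := p.2; rw [hh] at this; exact absurd this (e' b').2.2
      · exact absurd hh (e' b).2.1
      · have := p'.2; rw [← hh] at this; exact absurd this (e' b).2.2
      · rw [he' (Subtype.ext hh)]
    · intro u
      by_cases hu : u = v
      · exact ⟨none, hu.symm⟩
      by_cases ha : G.Adj v u
      · exact ⟨some (Sum.inl ⟨u, ha⟩), rfl⟩
      · exact ⟨some (Sum.inr (Equiv.ofInjective blk hinj ⟨u, hu, ha⟩)), by simp [φ, e']⟩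
  refine ⟨Equiv.ofBijective φ hφ, ?_⟩
  intro x y
  rw [Equiv.ofBijective_apply, Equiv.ofBijective_apply, pointBlockGraph, fromRel_adj]
  rcases x with _ | p | b <;> rcases y with _ | p' | b' <;>
    simp only [φ, pointBlockRel, ne_eq, reduceCtorEq, not_false_eq_true, true_and, or_false, false_or, or_true,
      true_or, not_true_eq_false, false_and, iff_false, iff_true, G.irrefl]
  · exact p'.2
  · exact (e' b').2.2
  · exact p.2.symm
  · simpa using no_triangle h p.2 p'.2
  · rw [← he b', mem_filter]
    simp [adj_comm]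
  · exact fun ha => (e' b).2.2 ha.symm
  · rw [← he b, mem_filter]
    simp
  · by_cases hbb : b = b'
    · subst hbb; simp
    · have hne := fun e => hbb (he' e)
      simp only [Option.some.injEq, Sum.inr.injEq, hbb, not_false_eq_true, true_and, ← he b, ← he b']
      refine ⟨fun ha => Or.inl ((hinter _ _ hne).1 ha), fun hd' => ?_⟩
      have hd := hd'.elim id (fun h => Disjoint.symm h)
      by_contra ha
      have := (hinter _ _ hne).2 ha
      rw [disjoint_iff_inter_eq_empty.mp hd] at this
      simp at this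

/-- The point-block graphs of isomorphic systems are isomorphic. -/
theorem pointBlockGraph_congr {α β : Type*} [DecidableEq α] [DecidableEq β] {B : Set (Finset α)} {B' : Set (Finset β)}
    (f : α ≃ β) (hf : ∀ b, b.image f ∈ B' ↔ b ∈ B) : Nonempty (pointBlockGraph B ≃g pointBlockGraph B') := by
  have hsymm : ∀ b : Finset β, b ∈ B' → b.image f.symm ∈ B := fun b hb => (hf _).mp (by
    rwa [Finset.image_image, Equiv.self_comp_symm, Finset.image_id])
  let g : B ≃ B' :=
    { toFun := fun b => ⟨b.1.image f, (hf _).mpr b.2⟩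
      invFun := fun b => ⟨b.1.image f.symm, hsymm _ b.2⟩
      left_inv := fun b => Subtype.ext (by simp [Finset.image_image])
      right_inv := fun b => Subtype.ext (by simp [Finset.image_image]) }
  refine ⟨Equiv.optionCongr (Equiv.sumCongr f g), ?_⟩
  have hg : ∀ b : B, ((g b : B') : Finset β) = b.1.image f := fun b => rfl
  intro x y
  simp only [pointBlockGraph, fromRel_adj, ne_eq, EmbeddingLike.apply_eq_iff_eq]
  rcases x with _ | p | b <;> rcases y with _ | p' | b' <;>
    simp [pointBlockRel, hg, Finset.disjoint_image f.injective]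

theorem unique {W : Type*} [Fintype W] [DecidableEq W] {H : SimpleGraph W} [DecidableRel H.Adj]
    (hG : G.IsSRGWith 100 22 0 6) (hH : H.IsSRGWith 100 22 0 6) : Nonempty (G ≃g H) := by
  obtain ⟨P, _, _, B, hP, hB, ⟨eG⟩⟩ := exists_steiner hG
  obtain ⟨Q, _, _, B', hQ, hB', ⟨eH⟩⟩ := exists_steiner hH
  obtain ⟨f, hf⟩ := Cfsg.Lib.Golay.setSystemIso_3622 hP hQ hB hB'
  obtain ⟨e⟩ : Nonempty (pointBlockGraph B ≃g pointBlockGraph B') :=
    pointBlockGraph_congr f fun b => by
      rw [← hf]
      exact ⟨fun ⟨c, hc, e⟩ => Finset.image_injective f.injective e ▸ hc, fun hb => ⟨b, hb, rfl⟩⟩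
  exact ⟨eG.symm.trans (e.trans eH)⟩

end Cfsg.Lib.HSGraphUnique
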