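import Cfsg.Agent.Recognition.HSGraphUnique
import Cfsg.Agent.Leech.HSGraph
import Cfsg.Agent.Golay.Subgroups
import Cfsg.Prelude.Def_Spor_Conway

/-!
# The Higman–Sims group as a rank three permutation group of degree 100

The orbital graph of the suborbit of size 22 has `22 (21 - λ) = 77 μ`, and the number of ordered triangles
`2200 λ` is a multiple of three, so it is the strongly regular graph with parameters (100, 22, 0, 6).
-/

set_option autoImplicit false

namespace Cfsg.Lib.HSRankThree

open MulAction Finset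

/-- The group of the pair of vectors is the Higman–Sims group. -/
theorem hs_equiv : Nonempty (↥Cfsg.Spor.HS ≃* ↥Cfsg.Lib.Leech.HSGraph.hsGrp) := by
  obtain ⟨v, hv⟩ : ∃ v, v = Cfsg.Spor.leechV := ⟨_, rfl⟩
  obtain ⟨u, hu⟩ : ∃ u, u = Cfsg.Spor.leechU' := ⟨_, rfl⟩
  obtain ⟨w, hw⟩ : ∃ w, w = -(v + u) := ⟨_, rfl⟩
  have hcoe : (w : GolayPt → ℤ) = fun p => -(Cfsg.Spor.vecV p + Cfsg.Spor.vecU' p) := by
    rw [hw, hv, hu]; rfl
  have hn1 : Cfsg.sqNorm (v : GolayPt → ℤ) = 48 := by rw [hv]; decide +kernel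
  have hn2 : Cfsg.sqNorm (w : GolayPt → ℤ) = 48 := by rw [hcoe]; decide +kernel
  have hd : dotInt (v : GolayPt → ℤ) w = -32 := by rw [hcoe, hv]; decide +kernel
  obtain ⟨m1, n1, m2, n2, hd'⟩ := Leech.base_HS
  obtain ⟨r, hr⟩ := Leech.transitive48 v Leech.HSGraph.baseV hn1 n1
  obtain ⟨s, hs1, hs2⟩ := Leech.Stab.pair48_transitive Leech.HSGraph.baseV (r • w) Leech.HSGraph.baseW n1
    (((r : Co0).2.2 w).trans hn2) (by rw [← hr, Leech.dot_smul, hd]) n2 hd'
  have key : ∀ g : Co0, g • v = v → (g • u = u ↔ g • w = w) := fun g hg => by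
    rw [hw, Leech.smul_neg', Leech.smul_add', hg, neg_inj, add_right_inj]
  let e : ↥Cfsg.Spor.HS ≃* ↥(stabilizer Co0 v ⊓ stabilizer Co0 w) :=
    { toFun := fun g => ⟨⟨g.1, g.2.1.1⟩, hv ▸ g.2.1.2,
        (key ⟨g.1, g.2.1.1⟩ (hv ▸ g.2.1.2)).1 (hu ▸ g.2.2)⟩
      invFun := fun g => ⟨g.1.1, ⟨g.1.2, hv ▸ g.2.1⟩, hu ▸ (key g.1 g.2.1).2 g.2.2⟩
      left_inv := fun _ => rfl
      right_inv := fun _ => rfl
      map_mul' := fun _ _ => rfl }
  exact ⟨e.trans (Leech.pairConj (s * r) (by rw [mul_smul, hr, hs1]) (by rw [mul_smul, hs2]))⟩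

universe u

variable {Ω : Type u} [Fintype Ω] [DecidableEq Ω]

/-- A point stabiliser acts on the others with orbits of sizes 22 and 77. -/
structure Data (G : Subgroup (Equiv.Perm Ω)) (a b c : Ω) : Prop where
  card : Fintype.card Ω = 100
  trans : IsPretransitive G Ω
  hb : (orbit (stabilizer G a) b).ncard = 22
  hc : (orbit (stabilizer G a) c).ncard = 77

variable {G : Subgroup (Equiv.Perm Ω)} {a b c : Ω}

theorem Data.orbit_self (_h : Data G a b c) : orbit (stabilizer G a) a = {a} := by
  ext x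
  simp only [mem_orbit_iff, Set.mem_singleton_iff]
  exact ⟨fun ⟨g, hg⟩ => by rw [← hg]; exact g.2, fun hx => ⟨1, by rw [hx, one_smul]⟩⟩

theorem Data.cases (h : Data G a b c) (x : Ω) :
    x = a ∨ x ∈ orbit (stabilizer G a) b ∨ x ∈ orbit (stabilizer G a) c := by
  by_contra hx
  push_neg at hx
  obtain ⟨hxa, hxb, hxc⟩ := hx
  have hab : a ∉ orbit (stabilizer G a) b := fun ha => by
    have := h.hb
    rw [← orbit_eq_iff.2 ha, h.orbit_self, Set.ncard_singleton] at this
    omega
  have hac : a ∉ orbit (stabilizer G a) c := fun ha => by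
    have := h.hc
    rw [← orbit_eq_iff.2 ha, h.orbit_self, Set.ncard_singleton] at this
    omega
  have hbc : Disjoint (orbit (stabilizer G a) b) (orbit (stabilizer G a) c) := Set.disjoint_left.2 fun y hy hy' => by
    have := h.hb
    rw [← orbit_eq_iff.2 hy, orbit_eq_iff.2 hy', h.hc] at this
    omega
  have hsub : insert x (insert a (orbit (stabilizer G a) b ∪ orbit (stabilizer G a) c)) ⊆ Set.univ := Set.subset_univ _
  have := Set.ncard_le_ncard hsub (Set.toFinite _)
  rw [Set.ncard_univ, Nat.card_eq_fintype_card, h.card, Set.ncard_insert_of_notMem (by simp [hxa, hxb, hxc]),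
    Set.ncard_insert_of_notMem (by simp [hab, hac]), Set.ncard_union_eq hbc, h.hb, h.hc] at this
  omega

theorem ncard_pair_orbit (htr : IsPretransitive G Ω) (hcard : Fintype.card Ω = 100) (x y : Ω) :
    (orbit G (x, y)).ncard = 100 * (orbit (stabilizer G x) y).ncard := by
  haveI := htr
  rw [← index_stabilizer G (x, y), ← index_stabilizer (stabilizer G x) y]
  have e1 : stabilizer G (x, y) = stabilizer G x ⊓ stabilizer G y := by
    ext g; simp [Prod.smul_mk, Prod.ext_iff]
  have e2 : stabilizer (stabilizer G x) y = (stabilizer G y).subgroupOf (stabilizer G x) := by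
    ext g; simp [Subgroup.mem_subgroupOf, Subgroup.smul_def]
  rw [e1, e2, ← Subgroup.relIndex_mul_index (inf_le_left : stabilizer G x ⊓ stabilizer G y ≤ stabilizer G x),
    Subgroup.inf_relIndex_left, index_stabilizer_of_transitive, Nat.card_eq_fintype_card, hcard, mul_comm]
  rfl

/-- The two directions of the orbital agree. -/
theorem Data.swap (h : Data G a b c) : (b, a) ∈ orbit G (a, b) := by
  haveI := h.trans
  obtain ⟨g, hg⟩ := exists_smul_eq G b a
  have hba : b ≠ a := fun e => by
    have := h.hb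
    rw [e, h.orbit_self, Set.ncard_singleton] at this
    omega
  have hmem : (a, g • a) ∈ orbit G (b, a) := ⟨g, by simp [hg]⟩
  have e : (orbit G (b, a)).ncard = (orbit G (a, b)).ncard := by
    have : orbit G (b, a) = Prod.swap '' orbit G (a, b) := by
      ext ⟨p, q⟩
      simp only [mem_orbit_iff, Set.mem_image, Prod.exists, Prod.swap_prod_mk, Prod.smul_mk, Prod.mk.injEq]
      exact ⟨fun ⟨k, h1, h2⟩ => ⟨q, p, ⟨k, h2, h1⟩, rfl, rfl⟩, fun ⟨q', p', ⟨k, h1, h2⟩, e1, e2⟩ =>
        ⟨k, h2.trans e1, h1.trans e2⟩⟩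
    rw [this, Set.ncard_image_of_injective _ Prod.swap_injective]
  rw [← orbit_eq_iff.2 hmem, ncard_pair_orbit h.trans h.card, ncard_pair_orbit h.trans h.card, h.hb] at e
  rcases h.cases (g • a) with hx | hx | hx
  · exact absurd (MulAction.injective g (hg.trans hx.symm)) hba
  · obtain ⟨k, hk⟩ := hx
    have hk' : k.1 • b = g • a := hk
    refine ⟨g⁻¹ * k.1, ?_⟩
    show (g⁻¹ * k.1) • (a, b) = (b, a)
    rw [Prod.smul_mk, mul_smul, mul_smul, k.2, hk', inv_smul_smul, Prod.mk.injEq]
    exact ⟨inv_smul_eq_iff.2 hg.symm, rfl⟩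
  · rw [orbit_eq_iff.2 hx, h.hc] at e
    omega

/-- The orbital graph. -/
def graph (G : Subgroup (Equiv.Perm Ω)) (a b : Ω) : SimpleGraph Ω :=
  SimpleGraph.fromRel fun x y => (x, y) ∈ orbit G (a, b)

theorem Data.adj_iff (h : Data G a b c) {x y : Ω} : (graph G a b).Adj x y ↔ (x, y) ∈ orbit G (a, b) := by
  rw [graph, SimpleGraph.fromRel_adj]
  constructor
  · rintro ⟨-, hxy | ⟨g, hg⟩⟩
    · exact hxy
    · obtain ⟨k, hk⟩ := h.swap
      refine ⟨g * k, ?_⟩
      show (g * k) • (a, b) = (x, y)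
      have hk' : k • (a, b) = (b, a) := hk
      have hg' : g • (a, b) = (y, x) := hg
      rw [mul_smul, hk', Prod.smul_mk]
      simp only [Prod.smul_mk, Prod.mk.injEq] at hg'
      rw [hg'.1, hg'.2]
  · intro hxy
    refine ⟨?_, Or.inl hxy⟩
    rintro rfl
    obtain ⟨g, hg⟩ := hxy
    simp only [Prod.smul_mk, Prod.mk.injEq] at hg
    have := h.hb
    rw [← MulAction.injective g (hg.1.trans hg.2.symm), h.orbit_self, Set.ncard_singleton] at this
    omega

theorem Data.smul_adj (h : Data G a b c) (g : G) {x y : Ω} :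
    (graph G a b).Adj (g • x) (g • y) ↔ (graph G a b).Adj x y := by
  rw [h.adj_iff, h.adj_iff, ← Prod.smul_mk]
  exact ⟨fun hh => by simpa using mem_orbit_of_mem_orbit g⁻¹ hh, fun hh => mem_orbit_of_mem_orbit g hh⟩

theorem Data.adj_base (h : Data G a b c) {x : Ω} :
    (graph G a b).Adj a x ↔ x ∈ orbit (stabilizer G a) b := by
  rw [h.adj_iff, mem_orbit_iff, mem_orbit_iff]
  constructor
  · rintro ⟨g, hg⟩
    simp only [Prod.smul_mk, Prod.mk.injEq] at hg
    exact ⟨⟨g, hg.1⟩, hg.2⟩
  · rintro ⟨g, hg⟩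
    exact ⟨g.1, by rw [Prod.smul_mk, g.2]; exact congrArg (Prod.mk a) hg⟩

/-- The automorphism of the graph induced by a group element. -/
def toAut (h : Data G a b c) : G →* (graph G a b ≃g graph G a b) where
  toFun g := ⟨MulAction.toPerm g, fun {x y} => h.smul_adj g⟩
  map_one' := RelIso.ext fun x => one_smul G x
  map_mul' g k := RelIso.ext fun x => mul_smul g k x

theorem card_commonNeighbors_map {V : Type*} [Fintype V] {Γ : SimpleGraph V} [DecidableRel Γ.Adj] (φ : Γ ≃g Γ)
    (x y : V) [Fintype (Γ.commonNeighbors x y)] [Fintype (Γ.commonNeighbors (φ x) (φ y))] :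
    Fintype.card (Γ.commonNeighbors (φ x) (φ y)) = Fintype.card (Γ.commonNeighbors x y) := by
  refine (Fintype.card_congr ?_).symm
  refine Equiv.subtypeEquiv φ.toEquiv fun z => ?_
  rw [SimpleGraph.mem_commonNeighbors, SimpleGraph.mem_commonNeighbors]
  exact and_congr φ.map_rel_iff.symm φ.map_rel_iff.symm

/-- The ordered triangles come in threes. -/
theorem three_dvd_triangles {V : Type*} [Fintype V] (Γ : SimpleGraph V) [DecidableRel Γ.Adj] :
    3 ∣ Fintype.card {t : V × V × V // Γ.Adj t.1 t.2.1 ∧ Γ.Adj t.2.1 t.2.2 ∧ Γ.Adj t.2.2 t.1} := by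
  classical
  let T := {t : V × V × V // Γ.Adj t.1 t.2.1 ∧ Γ.Adj t.2.1 t.2.2 ∧ Γ.Adj t.2.2 t.1}
  let f : Function.End T := fun t => ⟨(t.1.2.1, t.1.2.2, t.1.1), t.2.2.1, t.2.2.2, t.2.1⟩
  haveI : Fact (Nat.Prime 3) := ⟨Nat.prime_three⟩
  have hf : f ^ 3 ^ 1 = 1 := by
    rw [pow_one, pow_succ, pow_two]
    funext t
    exact Subtype.ext rfl
  have := Equiv.Perm.card_fixedPoints_modEq (α := T) hf
  rw [show Fintype.card f.fixedPoints = 0 by
    rw [Fintype.card_eq_zero_iff]
    refine ⟨fun t => ?_⟩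
    have e : f t.1 = t.1 := t.2
    have := congrArg (fun s : T => s.1.1) e
    exact Γ.irrefl (this ▸ t.1.2.1 : Γ.Adj t.1.1.1 t.1.1.1)] at this
  exact Nat.modEq_zero_iff_dvd.1 this

theorem Data.srg (h : Data G a b c) [DecidableRel (graph G a b).Adj] : (graph G a b).IsSRGWith 100 22 0 6 := by
  classical
  haveI := h.trans
  set Γ := graph G a b with hΓ
  have hdeg : ∀ x, Γ.degree x = 22 := fun x => by
    obtain ⟨g, hg⟩ := exists_smul_eq G a x
    have hx : Γ.degree x = Γ.degree a := by
      rw [← hg]; exact SimpleGraph.Iso.degree_eq (toAut h g) a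
    rw [hx, ← h.hb, ← SimpleGraph.card_neighborFinset_eq_degree, ← Set.ncard_coe_finset]
    congr 1
    ext z
    simpa using h.adj_base
  have hmap : ∀ (g : G) x y, Fintype.card (Γ.commonNeighbors (g • x) (g • y)) = Fintype.card (Γ.commonNeighbors x y) :=
    fun g x y => card_commonNeighbors_map (toAut h g) x y
  have hl : ∀ x y, Γ.Adj x y → Fintype.card (Γ.commonNeighbors x y) = Fintype.card (Γ.commonNeighbors a b) := by
    intro x y hxy
    obtain ⟨g, hg⟩ := h.adj_iff.1 hxy
    simp only [Prod.smul_mk, Prod.mk.injEq] at hg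
    rw [← hmap g a b]
    congr! <;> [exact hg.1.symm; exact hg.2.symm]
  have hm : ∀ x y, x ≠ y → ¬ Γ.Adj x y → Fintype.card (Γ.commonNeighbors x y) = Fintype.card (Γ.commonNeighbors a c) := by
    intro x y hne hxy
    obtain ⟨g, hg⟩ := exists_smul_eq G a x
    rcases h.cases (g⁻¹ • y) with hy | hy | hy
    · exact absurd (hg.symm.trans (inv_smul_eq_iff.1 hy).symm) hne
    · refine absurd ?_ hxy
      have := (h.smul_adj g).2 (h.adj_base.2 hy)
      rwa [hg, smul_inv_smul] at this
    · obtain ⟨k, hk⟩ := hy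
      have hk' : k.1 • c = g⁻¹ • y := hk
      rw [← hmap (g * k.1) a c]
      congr! <;> [rw [mul_smul, k.2, hg]; rw [mul_smul, hk', smul_inv_smul]]
  set l := Fintype.card (Γ.commonNeighbors a b)
  set m := Fintype.card (Γ.commonNeighbors a c)
  have hS : Γ.IsSRGWith 100 22 l m := ⟨h.card, hdeg, hl, fun x y hne hxy => hm x y hne hxy⟩
  have heq := SimpleGraph.IsSRGWith.param_eq Γ hS (by norm_num)
  have hlt : l < 22 := by
    have hab : Γ.Adj a b := h.adj_base.2 (mem_orbit_self b)
    exact hdeg a ▸ hab.card_commonNeighbors_lt_degree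
  have htri : 3 ∣ 2200 * l := by
    have hc' : Fintype.card {t : Ω × Ω × Ω // Γ.Adj t.1 t.2.1 ∧ Γ.Adj t.2.1 t.2.2 ∧ Γ.Adj t.2.2 t.1} = 2200 * l := by
      let e : {t : Ω × Ω × Ω // Γ.Adj t.1 t.2.1 ∧ Γ.Adj t.2.1 t.2.2 ∧ Γ.Adj t.2.2 t.1} ≃
          Σ x : Ω, Σ y : Γ.neighborSet x, Γ.commonNeighbors x y.1 :=
        { toFun := fun t => ⟨t.1.1, ⟨t.1.2.1, t.2.1⟩, ⟨t.1.2.2, t.2.2.2.symm, t.2.2.1⟩⟩
          invFun := fun s => ⟨(s.1, s.2.1.1, s.2.2.1), s.2.1.2, s.2.2.2.2, s.2.2.2.1.symm⟩
          left_inv := fun _ => rfl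
          right_inv := fun _ => rfl }
      rw [Fintype.card_congr e, Fintype.card_sigma]
      rw [Finset.sum_congr rfl (g := fun _ => 22 * l) fun x _ => by
        rw [Fintype.card_sigma, Finset.sum_congr rfl (g := fun _ => l) fun y _ => hl x y.1 y.2, Finset.sum_const,
          Finset.card_univ, SimpleGraph.card_neighborSet_eq_degree, hdeg, smul_eq_mul]]
      rw [Finset.sum_const, Finset.card_univ, h.card, smul_eq_mul]
      ring
    exact hc' ▸ three_dvd_triangles Γ
  have hne21 : l ≠ 21 := by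
    intro hl21
    let N : Ω → Finset Ω := fun x => insert x (Γ.neighborFinset x)
    have hN : ∀ x, (N x).card = 23 := fun x => by
      rw [Finset.card_insert_of_notMem (by simp), SimpleGraph.card_neighborFinset_eq_degree, hdeg]
    have hsame : ∀ x y, Γ.Adj x y → N x = N y := by
      intro x y hxy
      refine Finset.eq_of_subset_of_card_le (fun z hz => ?_) (by rw [hN, hN])
      simp only [N, Finset.mem_insert, SimpleGraph.mem_neighborFinset] at hz ⊢
      rcases hz with rfl | hz
      · exact Or.inr hxy.symm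
      by_cases hzy : z = y
      · exact Or.inl hzy
      right
      have hsub : (Γ.commonNeighbors x y).toFinset ⊆ (Γ.neighborFinset x).erase y := by
        intro w hw
        rw [Set.mem_toFinset, SimpleGraph.mem_commonNeighbors] at hw
        simp [hw.1, (hw.2.ne).symm]
      have hc' : ((Γ.neighborFinset x).erase y).card ≤ (Γ.commonNeighbors x y).toFinset.card := by
        rw [Set.toFinset_card, hl x y hxy, Finset.card_erase_of_mem (by simpa using hxy),
          SimpleGraph.card_neighborFinset_eq_degree, hdeg, hl21]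
      have hmem : z ∈ (Γ.commonNeighbors x y).toFinset := by
        rw [Finset.eq_of_subset_of_card_le hsub hc']
        simp [hzy, hz]
      rw [Set.mem_toFinset, SimpleGraph.mem_commonNeighbors] at hmem
      exact hmem.2
    have hfib : ∀ s ∈ (Finset.univ : Finset Ω).image N, (Finset.univ.filter fun x => N x = s).card = 23 := by
      intro s hs
      obtain ⟨x, -, rfl⟩ := Finset.mem_image.1 hs
      rw [← hN x]
      congr 1
      ext y
      simp only [Finset.mem_filter, Finset.mem_univ, true_and]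
      constructor
      · intro e; rw [← e]; exact Finset.mem_insert_self _ _
      · intro hy
        rcases Finset.mem_insert.1 hy with rfl | hy
        · rfl
        · exact (hsame x y (by simpa using hy)).symm
    have := Finset.card_eq_sum_card_image N (Finset.univ : Finset Ω)
    rw [Finset.sum_congr rfl hfib, Finset.sum_const, Finset.card_univ, h.card, smul_eq_mul] at this
    omega
  have hl0 : l = 0 := by
    have h3 : 3 ∣ l := (Nat.Coprime.dvd_mul_left (by norm_num)).1 htri
    omega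
  have hm6 : m = 6 := by omega
  rw [hl0, hm6] at hS
  convert hS

theorem Data.no_index_two (h : Data G a b c) [IsSimpleGroup (stabilizer G a)]
    (hbig : 2 < Nat.card (stabilizer G a)) (N : Subgroup G) (hN : N.index = 2) : False := by
  haveI := h.trans
  haveI := Subgroup.normal_of_index_eq_two hN
  have hle : stabilizer G a ≤ N := by
    rcases (inferInstance : (N.subgroupOf (stabilizer G a)).Normal).eq_bot_or_eq_top with e | e
    · have h1 : (N.subgroupOf (stabilizer G a)).index ≤ 2 := by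
        refine Nat.le_of_dvd (by norm_num) (hN ▸ ?_)
        exact Subgroup.relIndex_dvd_index_of_normal N (stabilizer G a)
      rw [e, Subgroup.index_bot] at h1
      omega
    · exact Subgroup.subgroupOf_eq_top.1 e
  have hS : (orbit N a).ncard = 50 := by
    rw [← index_stabilizer]
    have e : stabilizer N a = (stabilizer G a).subgroupOf N := by
      ext g; simp [Subgroup.mem_subgroupOf, Subgroup.smul_def]
    rw [e]
    have := Subgroup.relIndex_mul_index hle
    rw [index_stabilizer_of_transitive, Nat.card_eq_fintype_card, h.card, hN] at this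
    show Subgroup.relIndex (stabilizer G a) N = 50
    omega
  have hinv : ∀ x, x ∈ orbit N a → orbit (stabilizer G a) x ⊆ orbit N a := by
    rintro x hx _ ⟨g, rfl⟩
    exact mem_orbit_of_mem_orbit (⟨g.1, hle g.2⟩ : N) hx
  have hcompl : ∀ x, x ∉ orbit N a → orbit (stabilizer G a) x ⊆ (orbit N a)ᶜ := by
    rintro x hx _ ⟨g, rfl⟩ hmem
    exact hx (by
      have := mem_orbit_of_mem_orbit (⟨g.1, hle g.2⟩ : N)⁻¹ hmem
      exact (inv_smul_smul (g.1 : G) x) ▸ this)
  have hcc : (orbit N a)ᶜ.ncard = 50 := by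
    have := Set.ncard_add_ncard_compl (orbit N a)
    rw [hS, Nat.card_eq_fintype_card, h.card] at this
    omega
  by_cases hcm : c ∈ orbit N a
  · have := Set.ncard_le_ncard (hinv c hcm) (Set.toFinite _)
    rw [h.hc, hS] at this
    omega
  · have := Set.ncard_le_ncard (hcompl c hcm) (Set.toFinite _)
    rw [h.hc, hcc] at this
    omega

/-- The recognition theorem. -/
theorem recognition (hΩ : Fintype.card Ω = 100) (htr : IsPretransitive G Ω) (e : stabilizer G a ≃* Cfsg.Spor.M22)
    (hb : (orbit (stabilizer G a) b).ncard = 22) (hc : (orbit (stabilizer G a) c).ncard = 77) :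
    Cfsg.Spor.IsoHS G := by
  classical
  haveI := htr
  have h : Data G a b c := ⟨hΩ, htr, hb, hc⟩
  haveI : IsSimpleGroup Cfsg.Spor.M22 := Cfsg.Lib.Golay.isSimple_M22
  haveI : IsSimpleGroup (stabilizer G a) := e.isSimpleGroup
  have hsc : Nat.card (stabilizer G a) = 443520 := by
    rw [Nat.card_congr e.toEquiv, Cfsg.Lib.Golay.card_M22]
  have hG : Nat.card G = 44352000 := by
    rw [← Subgroup.card_mul_index (stabilizer G a), index_stabilizer_of_transitive, Nat.card_eq_fintype_card (α := Ω),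
      hΩ, hsc]
  obtain ⟨P, _, _, B, hP, hB, ⟨iso⟩⟩ := Cfsg.Lib.HSGraphUnique.exists_steiner h.srg
  obtain ⟨φ, hφ, -⟩ := Cfsg.Lib.Leech.HSGraph.exists_action hP hB
  haveI : Finite (Cfsg.Lib.Leech.HSGraph.GraphAut B) := Cfsg.Lib.Leech.HSGraph.finite_graphAut
  let ρ : G →* Cfsg.Lib.Leech.HSGraph.GraphAut B :=
    { toFun := fun g => (iso.trans (toAut h g)).trans iso.symm
      map_one' := RelIso.ext fun x => by
        show iso.symm ((1 : G) • iso x) = x
        rw [one_smul, RelIso.symm_apply_apply]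
      map_mul' := fun g k => RelIso.ext fun x => by
        show iso.symm ((g * k) • iso x) = iso.symm (g • iso (iso.symm (k • iso x)))
        rw [RelIso.apply_symm_apply, mul_smul] }
  have hρ : Function.Injective ρ := fun g k hgk => by
    refine Subtype.ext (Equiv.ext fun z => ?_)
    obtain ⟨x, rfl⟩ := iso.surjective z
    exact iso.symm.injective (RelIso.ext_iff.1 hgk x)
  have hR : Nat.card φ.range = 44352000 := by
    rw [← Nat.card_congr (MonoidHom.ofInjective hφ).toEquiv]
    exact Cfsg.Lib.Leech.HSGraph.hsGrp_isHS.2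
  have hRi : φ.range.index = 2 := by
    have := φ.range.card_mul_index
    rw [hR, Cfsg.Lib.Leech.HSGraph.card_graphAut hP hB] at this
    omega
  haveI := Subgroup.normal_of_index_eq_two hRi
  have hle : ρ.range ≤ φ.range := by
    rw [MonoidHom.range_eq_map, Subgroup.map_le_iff_le_comap, top_le_iff]
    by_contra hne
    refine h.no_index_two (by omega) (φ.range.comap ρ) ?_
    have h1 : (φ.range.comap ρ).index ≠ 1 := fun e1 => hne (Subgroup.index_eq_one.1 e1)
    have h2 : (φ.range.comap ρ).index ∣ 2 := by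
      rw [Subgroup.index_comap, ← hRi]
      exact Subgroup.relIndex_dvd_index_of_normal _ _
    exact ((Nat.prime_two.eq_one_or_self_of_dvd _ h2).resolve_left h1)
  have heq : ρ.range = φ.range := by
    refine Subgroup.eq_of_le_of_card_ge hle ?_
    rw [hR, ← Nat.card_congr (MonoidHom.ofInjective hρ).toEquiv, hG]
  obtain ⟨eh⟩ := hs_equiv
  exact ⟨(MonoidHom.ofInjective hρ).trans ((MulEquiv.subgroupCongr heq).trans
    ((MonoidHom.ofInjective hφ).symm.trans eh.symm))⟩

end Cfsg.Lib.HSRankThree
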