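import Mathlib.GroupTheory.GroupAction.Basic
import Mathlib.GroupTheory.Perm.Cycle.Type
import Mathlib.GroupTheory.GroupAction.SubMulAction
import Mathlib.GroupTheory.GroupAction.ConjAct

/-!
# Half-transitive groups with a regular normal subgroup that are not Frobenius groups

The common orbit length is prime to the degree, so the stabiliser of a coset or of a class of the regular
normal subgroup fixes it pointwise; this gives a partition of the subgroup into normal subgroups.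
-/

set_option autoImplicit false

namespace Cfsg.Lib.HalfTransitive

open MulAction

variable {G Ω : Type*} [Group G] [MulAction G Ω]

theorem orbit_len_dvd [Finite G] [Finite Ω] (S : Subgroup G) (Y : Set Ω) (hY : ∀ g ∈ S, ∀ y ∈ Y, g • y ∈ Y)
    (m t : ℕ) (hcard : Nat.card S = m * t) (hm : 0 < m)
    (hst : ∀ y ∈ Y, Nat.card ↥(S ⊓ stabilizer G y) = m) : t ∣ Nat.card Y := by
  classical
  let A : SubMulAction S Ω := ⟨Y, fun g y hy => hY g g.2 y hy⟩
  show t ∣ Nat.card A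
  haveI : Finite A := Subtype.finite
  haveI : Fintype (orbitRel.Quotient S A) := Fintype.ofFinite _
  rw [Nat.card_congr (selfEquivSigmaOrbits S A), Nat.card_sigma]
  refine Finset.dvd_sum fun q _ => dvd_of_eq ?_
  set y : A := Quotient.out q
  have h1 : Nat.card (orbit S y) * Nat.card (stabilizer S y) = Nat.card S := by
    rw [← Nat.card_prod, Nat.card_congr (orbitProdStabilizerEquivGroup S y)]
  have h2 : Nat.card (stabilizer S y) = m := by
    have e : (stabilizer S y).map S.subtype = S ⊓ stabilizer G (y : Ω) := by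
      ext g
      constructor
      · rintro ⟨s, hs, rfl⟩
        exact ⟨s.2, congrArg Subtype.val hs⟩
      · rintro ⟨hg, hgy⟩
        exact ⟨⟨g, hg⟩, Subtype.ext hgy, rfl⟩
    rw [← Subgroup.card_map_of_injective S.subtype_injective, e, hst _ y.2]
  rw [h2, hcard, mul_comm m] at h1
  exact (Nat.eq_of_mul_eq_mul_right hm h1).symm

variable [Finite G] [Finite Ω] [FaithfulSMul G Ω]

theorem main (htrans : IsPretransitive G Ω)
    (hne : ∀ a : Ω, stabilizer G a ≠ ⊥)
    (hhalf : ∀ a b c : Ω, b ≠ a → c ≠ a →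
      Nat.card (orbit (stabilizer G a) b) = Nat.card (orbit (stabilizer G a) c))
    (N : Subgroup G) [hN : N.Normal] (hNt : IsPretransitive N Ω) (hNr : ∀ a : Ω, stabilizer N a = ⊥)
    (hnotF : ∃ a b : Ω, a ≠ b ∧ stabilizer G a ⊓ stabilizer G b ≠ ⊥) :
    (∃ p : ℕ, p.Prime ∧ IsMulCommutative N ∧ ∀ x ∈ N, x ^ p = 1) ∧
    (∀ M : Subgroup G, M.Normal → M ≠ ⊥ → N ≤ M) := by
  classical
  obtain ⟨a, b₀, hab₀, hK₀⟩ := hnotF
  have hinj : ∀ {x y : G}, x ∈ N → y ∈ N → x • a = y • a → x = y := by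
    intro x y hx hy h
    have : (⟨y⁻¹ * x, mul_mem (inv_mem hy) hx⟩ : N) ∈ stabilizer N a := by
      show (y⁻¹ * x) • a = a
      rw [mul_smul, h, inv_smul_smul]
    rw [hNr a, Subgroup.mem_bot] at this
    exact (inv_mul_eq_one.mp (congrArg Subtype.val this)).symm
  have hsurj : ∀ ω : Ω, ∃ x ∈ N, x • a = ω := fun ω => by
    obtain ⟨x, hx⟩ := hNt.exists_smul_eq a ω
    exact ⟨x, x.2, hx⟩
  have hmove : ∀ {x}, x ∈ N → x ≠ 1 → x • a ≠ a := fun hx h e => h (hinj hx (one_mem N) (by rw [e, one_smul]))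
  set H := stabilizer G a
  have hconj : ∀ {g x : G}, g ∈ H → g • (x • a) = (g * x * g⁻¹) • a := by
    intro g x hg
    rw [mul_smul (g * x), show g⁻¹ • a = a from inv_mem hg, mul_smul]
  have hfix : ∀ {g x : G}, g ∈ H → x ∈ N → (g • (x • a) = x • a ↔ Commute g x) := by
    intro g x hg hx
    rw [hconj hg]
    exact ⟨fun h => mul_inv_eq_iff_eq_mul.mp (hinj (hN.conj_mem x hx g) hx h), fun h => by rw [h.eq, mul_inv_cancel_right]⟩
  -- the common orbit length and stabiliser order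
  let K : G → Subgroup G := fun x => H ⊓ stabilizer G (x • a)
  obtain ⟨x₀, hx₀N, hx₀⟩ := hsurj b₀
  set m := Nat.card (K x₀) with hm
  set t := Nat.card (orbit H b₀) with ht
  have hm0 : 0 < m := Nat.card_pos
  have hm1 : 1 < m := by
    rcases Nat.eq_or_lt_of_le hm0 with h | h
    · exact absurd (Subgroup.card_eq_one.mp h.symm) (by show H ⊓ stabilizer G (x₀ • a) ≠ ⊥; rw [hx₀]; exact hK₀)
    · exact h
  have hprod : ∀ ω : Ω, Nat.card (orbit H ω) * Nat.card ↥(H ⊓ stabilizer G ω) = Nat.card H := by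
    intro ω
    rw [← Nat.card_congr (orbitProdStabilizerEquivGroup H ω), Nat.card_prod]
    congr 1
    have e : (stabilizer H ω).map H.subtype = H ⊓ stabilizer G ω := by
      ext g
      constructor
      · rintro ⟨s, hs, rfl⟩; exact ⟨s.2, hs⟩
      · rintro ⟨hg, hgw⟩; exact ⟨⟨g, hg⟩, hgw, rfl⟩
    rw [← e, Subgroup.card_map_of_injective H.subtype_injective]
  have hHcard : Nat.card H = m * t := by rw [← hprod b₀, mul_comm m, hm]; simp only [K, hx₀]; rw [ht]
  have hpos : 0 < t := Nat.card_pos_iff.mpr ⟨⟨⟨b₀, mem_orbit_self b₀⟩⟩, inferInstance⟩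
  have hKcard : ∀ ω, ω ≠ a → Nat.card ↥(H ⊓ stabilizer G ω) = m := by
    intro ω hω
    have h := hprod ω
    rw [hhalf a ω b₀ hω (Ne.symm hab₀), ← ht, hHcard, mul_comm m] at h
    exact Nat.eq_of_mul_eq_mul_left hpos h
  -- the orbit length is prime to the order of N
  have hcop : Nat.Coprime t (Nat.card N) := by
    have h1 := orbit_len_dvd H {ω | ω ≠ a} (fun g hg y hy h => hy (smul_left_cancel g (h.trans hg.symm))) m t hHcard hm0
      fun y hy => hKcard y hy
    have h2 : Nat.card N = Nat.card {ω : Ω | ω ≠ a} + 1 := by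
      have e : Nat.card N = Nat.card Ω :=
        Nat.card_congr (Equiv.ofBijective (fun x : N => (x : G) • a)
          ⟨fun x y h => Subtype.ext (hinj x.2 y.2 h), fun ω => by obtain ⟨x, hx, h⟩ := hsurj ω; exact ⟨⟨x, hx⟩, h⟩⟩)
      rw [e, Nat.card_coe_set_eq, show {ω : Ω | ω ≠ a} = Set.univ \ {a} by ext; simp,
        Set.ncard_diff_singleton_add_one (Set.mem_univ a), Set.ncard_univ]
    refine Nat.coprime_of_dvd fun q hq h h' => hq.ne_one (Nat.dvd_one.mp ?_)
    rw [h2] at h'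
    exact (Nat.dvd_add_right (h.trans h1)).mp h'
  -- the stabiliser of a small invariant piece fixes it pointwise
  have piece : ∀ Y : Set G, Y ⊆ {x | x ∈ N ∧ x ≠ 1} → Nat.card Y ∣ Nat.card N →
      (∀ y ∈ Y, ∀ g ∈ H, Commute g y → ∀ z ∈ Y, g * z * g⁻¹ ∈ Y) →
      ∀ y ∈ Y, ∀ g ∈ H, Commute g y → ∀ z ∈ Y, Commute g z := by
    intro Y hYN hYc hYs y hy g hg hgy z hz
    set S := H ⊓ Subgroup.normalizer Y
    have hKS : ∀ y ∈ Y, H ⊓ stabilizer G (y • a) ≤ S := fun y hy g hg =>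
      ⟨hg.1, Subgroup.mem_normalizer_fintype fun n hn => hYs y hy g hg.1 ((hfix hg.1 (hYN hy).1).mp hg.2) n hn⟩
    have hst : ∀ y ∈ Y, S ⊓ stabilizer G (y • a) = H ⊓ stabilizer G (y • a) := fun y hy =>
      le_antisymm (inf_le_inf_right _ inf_le_left) (le_inf (hKS y hy) inf_le_right)
    have hdS : m ∣ Nat.card S := hKcard _ (hmove (hYN hy).1 (hYN hy).2) ▸ Subgroup.card_dvd_of_le (hKS y hy)
    obtain ⟨s, hs⟩ := hdS
    have hst' : s ∣ t := by
      have h := Subgroup.card_dvd_of_le (inf_le_left : S ≤ H)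
      rw [hs, hHcard] at h
      exact Nat.dvd_of_mul_dvd_mul_left hm0 h
    have hsd : s ∣ Nat.card N := by
      refine dvd_trans ?_ hYc
      have h := orbit_len_dvd S ((fun x : G => x • a) '' Y) (by
        rintro g hg _ ⟨w, hw, rfl⟩
        exact ⟨g * w * g⁻¹, (hg.2 w).mp hw, (hconj hg.1).symm⟩) m s hs hm0 (by
        rintro _ ⟨w, hw, rfl⟩
        rw [hst w hw]; exact hKcard _ (hmove (hYN hw).1 (hYN hw).2))
      rwa [Nat.card_image_of_injOn fun u hu v hv => hinj (hYN hu).1 (hYN hv).1] at h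
    obtain rfl : s = 1 := Nat.eq_one_of_dvd_coprimes hcop hst' hsd
    have heq : H ⊓ stabilizer G (z • a) = S :=
      Subgroup.eq_of_le_of_card_ge (hKS z hz) (by rw [hKcard _ (hmove (hYN hz).1 (hYN hz).2), hs, mul_one])
    have hgS : g ∈ S := hKS y hy ⟨hg, (hfix hg (hYN hy).1).mpr hgy⟩
    rw [← heq] at hgS
    exact (hfix hg (hYN hz).1).mp hgS.2
  -- elements with the same stabiliser
  have hsame : ∀ {x y : G}, x ∈ N → x ≠ 1 → y ∈ N → y ≠ 1 → (∀ g ∈ H, Commute g x → Commute g y) →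
      ∀ g ∈ H, Commute g y → Commute g x := by
    intro x y hx hx1 hy hy1 h g hg hgy
    have hle : H ⊓ stabilizer G (x • a) ≤ H ⊓ stabilizer G (y • a) := fun k hk =>
      ⟨hk.1, (hfix hk.1 hy).mpr (h k hk.1 ((hfix hk.1 hx).mp hk.2))⟩
    have e := Subgroup.eq_of_le_of_card_ge hle (by rw [hKcard _ (hmove hy hy1), hKcard _ (hmove hx hx1)])
    have : g ∈ H ⊓ stabilizer G (y • a) := ⟨hg, (hfix hg hy).mpr hgy⟩
    rw [← e] at this
    exact (hfix hg hx).mp this.2
  -- no element of H other than 1 centralises N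
  have hfaith : ∀ g ∈ H, (∀ x ∈ N, Commute g x) → g = 1 := by
    intro g hg h
    refine FaithfulSMul.eq_of_smul_eq_smul (α := Ω) fun ω => ?_
    obtain ⟨x, hx, rfl⟩ := hsurj ω
    rw [one_smul, (hfix hg hx).mpr (h x hx)]
  have hnontriv : ∀ {x}, x ∈ N → x ≠ 1 → ∃ g ∈ H, g ≠ 1 ∧ Commute g x := by
    intro x hx hx1
    have : H ⊓ stabilizer G (x • a) ≠ ⊥ := fun h => by
      have := hKcard _ (hmove hx hx1); rw [h, Subgroup.card_bot] at this; omega
    obtain ⟨g, hg⟩ := Subgroup.ne_bot_iff_exists_ne_one.mp this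
    exact ⟨g, g.2.1, fun h => hg (Subtype.ext h), (hfix g.2.1 hx).mp g.2.2⟩
  -- invariant subgroups are trivial
  have hinv : ∀ M : Subgroup G, M ≤ N → M ≠ ⊥ → (∀ g ∈ H, ∀ x ∈ M, g * x * g⁻¹ ∈ M) → N ≤ M := by
    intro M hMN hM1 hMi
    by_contra hnot
    obtain ⟨x, hxN, hxM⟩ := SetLike.not_le_iff_exists.mp hnot
    obtain ⟨u, hu⟩ := Subgroup.ne_bot_iff_exists_ne_one.mp hM1
    have huN : (u : G) ∈ N := hMN u.2
    have hu1 : (u : G) ≠ 1 := fun h => hu (Subtype.ext h)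
    have hcoset : ∀ y ∈ N, y ∉ M → ∀ g ∈ H, Commute g y → ∀ w ∈ M, Commute g w := by
      intro y hyN hyM g hg hgy w hw
      have hne' : ∀ w ∈ M, y * w ≠ 1 := fun w hw h => hyM ((mul_eq_one_iff_eq_inv.mp h).symm ▸ inv_mem hw)
      have hcard : Nat.card ((fun w => y * w) '' (M : Set G)) ∣ Nat.card N := by
        rw [Nat.card_image_of_injective (mul_right_injective y)]
        exact Subgroup.card_dvd_of_le hMN
      have h := piece ((fun w => y * w) '' (M : Set G))
        (by rintro _ ⟨w, hw, rfl⟩; exact ⟨mul_mem hyN (hMN hw), hne' w hw⟩) hcard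
        (by
          rintro _ ⟨v, hv, rfl⟩ g hg hgv _ ⟨z, hz, rfl⟩
          refine ⟨v * (g * (v⁻¹ * z) * g⁻¹), mul_mem hv (hMi g hg _ (mul_mem (inv_mem hv) hz)), ?_⟩
          show y * (v * (g * (v⁻¹ * z) * g⁻¹)) = g * (y * z) * g⁻¹
          calc y * (v * (g * (v⁻¹ * z) * g⁻¹)) = (y * v) * g * (v⁻¹ * z) * g⁻¹ := by group
            _ = g * (y * v) * (v⁻¹ * z) * g⁻¹ := by rw [← hgv.eq]
            _ = g * (y * z) * g⁻¹ := by group)
        y ⟨1, one_mem _, mul_one y⟩ g hg hgy (y * w) ⟨w, hw, rfl⟩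
      have := (hgy.inv_right).mul_right h
      rwa [inv_mul_cancel_left] at this
    obtain ⟨g, hg, hg1, hgx⟩ := hnontriv hxN (fun h => hxM (h ▸ one_mem M))
    have hgu : Commute g u := hcoset x hxN hxM g hg hgx u u.2
    refine hg1 (hfaith g hg fun y hy => ?_)
    by_cases hyM : y ∈ M
    · exact hcoset x hxN hxM g hg hgx y hyM
    · exact hsame hy (fun h => hyM (h ▸ one_mem M)) huN hu1 (fun k hk hky => hcoset y hy hyM k hk hky u u.2) g hg hgu
  -- stabilisers are constant on classes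
  have hclass : ∀ {x n g : G}, x ∈ N → x ≠ 1 → n ∈ N → g ∈ H → Commute g x → Commute g (n * x * n⁻¹) := by
    intro x n g hx hx1 hn hg hgx
    set Y : Set G := Set.range fun k : N => (k : G) * x * (k : G)⁻¹
    refine piece Y ?_ ?_ ?_ x ⟨1, by simp⟩ g hg hgx _ ⟨⟨n, hn⟩, rfl⟩
    · rintro _ ⟨k, rfl⟩
      exact ⟨mul_mem (mul_mem k.2 hx) (inv_mem k.2), fun h => hx1 (conj_eq_one_iff.mp h)⟩
    · have e : Y = Subtype.val '' orbit (ConjAct N) (⟨x, hx⟩ : N) := by
        ext z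
        constructor
        · rintro ⟨k, rfl⟩; exact ⟨_, ⟨ConjAct.toConjAct k, rfl⟩, rfl⟩
        · rintro ⟨_, ⟨k, rfl⟩, rfl⟩; exact ⟨ConjAct.ofConjAct k, rfl⟩
      rw [e, Nat.card_image_of_injective Subtype.val_injective]
      exact ⟨_, (Nat.card_congr (ConjAct.toConjAct (G := N)).toEquiv).trans
        (by rw [← Nat.card_prod, Nat.card_congr (orbitProdStabilizerEquivGroup (ConjAct N) _)])⟩
    · rintro _ ⟨k, rfl⟩ g hg hgk _ ⟨l, rfl⟩
      refine ⟨⟨g * (l : G) * (k : G)⁻¹ * g⁻¹ * (k : G), mul_mem ?_ k.2⟩, ?_⟩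
      · simpa [mul_assoc] using hN.conj_mem _ (mul_mem l.2 (inv_mem k.2)) g
      · show g * (l : G) * (k : G)⁻¹ * g⁻¹ * (k : G) * x * (g * (l : G) * (k : G)⁻¹ * g⁻¹ * (k : G))⁻¹
          = g * ((l : G) * x * (l : G)⁻¹) * g⁻¹
        calc _ = g * (l : G) * (k : G)⁻¹ * g⁻¹ * (((k : G) * x * (k : G)⁻¹) * g) * (k : G) * (l : G)⁻¹ * g⁻¹ := by group
          _ = g * (l : G) * (k : G)⁻¹ * g⁻¹ * (g * ((k : G) * x * (k : G)⁻¹)) * (k : G) * (l : G)⁻¹ * g⁻¹ := by rw [hgk.eq]
          _ = _ := by group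
  -- elements with different stabilisers commute
  have hdiff : ∀ {x y}, x ∈ N → x ≠ 1 → y ∈ N → y ≠ 1 → ¬ (∀ g ∈ H, Commute g x → Commute g y) → Commute x y := by
    intro x y hx hx1 hy hy1 h
    set c := x * y * x⁻¹ * y⁻¹
    have hcN : c ∈ N := mul_mem (mul_mem (mul_mem hx hy) (inv_mem hx)) (inv_mem hy)
    by_contra hnc
    have hc1 : c ≠ 1 := fun e => hnc (mul_inv_eq_iff_eq_mul.mp (mul_inv_eq_one.mp e))
    have hx' : ∀ g ∈ H, Commute g x → Commute g c := fun g hg hgx => by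
      rw [show c = x * (y * x * y⁻¹)⁻¹ by simp only [c]; group]
      exact hgx.mul_right (hclass hx hx1 hy hg hgx).inv_right
    have hy' : ∀ g ∈ H, Commute g y → Commute g c := fun g hg hgy =>
      (hclass hy hy1 hx hg hgy).mul_right hgy.inv_right
    exact h fun g hg hgx => hsame hy hy1 hcN hc1 hy' g hg (hx' g hg hgx)
  have habel : ∀ x ∈ N, ∀ y ∈ N, Commute x y := by
    intro x hx y hy
    by_cases hx1 : x = 1
    · exact hx1 ▸ Commute.one_left y
    by_cases hy1 : y = 1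
    · exact hy1 ▸ Commute.one_right x
    by_cases h : ∀ g ∈ H, Commute g x → Commute g y
    · obtain ⟨g, hg, hg1, hgx⟩ := hnontriv hx hx1
      obtain ⟨z, hz, hgz⟩ : ∃ z ∈ N, ¬ Commute g z := by
        by_contra hall
        exact hg1 (hfaith g hg fun z hz => by_contra fun hh => hall ⟨z, hz, hh⟩)
      have hz1 : z ≠ 1 := fun e => hgz (e ▸ Commute.one_right g)
      have hxz : x * z ≠ 1 := fun e => hgz (by
        rw [eq_inv_of_mul_eq_one_right e]; exact hgx.inv_right)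
      have hgxz : ¬ Commute g (x * z) := fun e => hgz (by simpa using hgx.inv_right.mul_right e)
      have c1 : Commute y z := hdiff hy hy1 hz hz1 fun hh => hgz (hh g hg (h g hg hgx))
      have c2 : Commute y (x * z) := hdiff hy hy1 (mul_mem hx hz) hxz fun hh => hgxz (hh g hg (h g hg hgx))
      have := c2.mul_right c1.inv_right
      rw [mul_inv_cancel_right] at this
      exact this.symm
    · exact hdiff hx hx1 hy hy1 h
  have hNne : N ≠ ⊥ := fun e => by
    have : x₀ = 1 := by simpa [e] using hx₀N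
    exact hab₀ (by rw [← hx₀, this, one_smul])
  obtain ⟨p, hp, hpN⟩ := Nat.exists_prime_and_dvd (show Nat.card N ≠ 1 from fun h => hNne (Subgroup.card_eq_one.mp h))
  haveI := Fact.mk hp
  refine ⟨⟨p, hp, ⟨⟨fun u v => Subtype.ext (habel u u.2 v v.2)⟩⟩, ?_⟩, fun M hM hM1 => ?_⟩
  · let T : Subgroup G :=
      { carrier := {x | x ∈ N ∧ x ^ p = 1}
        one_mem' := ⟨one_mem N, one_pow p⟩
        mul_mem' := fun {u v} hu hv => ⟨mul_mem hu.1 hv.1, by rw [(habel u hu.1 v hv.1).mul_pow, hu.2, hv.2, one_mul]⟩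
        inv_mem' := fun {u} hu => ⟨inv_mem hu.1, by rw [inv_pow, hu.2, inv_one]⟩ }
    obtain ⟨w, hw⟩ := exists_prime_orderOf_dvd_card' (G := N) p hpN
    have hT : N ≤ T := hinv T (fun x hx => hx.1) (fun e => by
      have hwT : (w : G) ∈ T := ⟨w.2, by rw [← Subgroup.coe_pow, ← hw, pow_orderOf_eq_one, Subgroup.coe_one]⟩
      rw [e, Subgroup.mem_bot] at hwT
      rw [show w = 1 from Subtype.ext hwT, orderOf_one] at hw
      exact hp.ne_one hw.symm) fun g _ x hx => ⟨hN.conj_mem x hx.1 g, by rw [conj_pow, hx.2, mul_one, mul_inv_cancel]⟩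
    exact fun x hx => (hT hx).2
  · have hMN : M ⊓ N ≠ ⊥ := by
      intro e
      obtain ⟨⟨u, hu⟩, hu1⟩ := Subgroup.ne_bot_iff_exists_ne_one.mp hM1
      have hcomm : ∀ x ∈ N, Commute u x := fun x hx =>
        Subgroup.commute_of_normal_of_disjoint M N hM hN (disjoint_iff.mpr e) u x hu hx
      obtain ⟨x, hx, hxu⟩ := hsurj (u • a)
      have hfix' : x⁻¹ * u ∈ H := by show (x⁻¹ * u) • a = a; rw [mul_smul, ← hxu, inv_smul_smul]
      have h1 := hfaith _ hfix' fun y hy => (habel x hx y hy).inv_left.mul_left (hcomm y hy)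
      have huN : u ∈ M ⊓ N := ⟨hu, (inv_mul_eq_one.mp h1) ▸ hx⟩
      rw [e, Subgroup.mem_bot] at huN
      exact hu1 (Subtype.ext huN)
    exact (hinv (M ⊓ N) inf_le_right hMN fun g _ x hx => ⟨hM.conj_mem x hx.1 g, hN.conj_mem x hx.2 g⟩).trans inf_le_left

end Cfsg.Lib.HalfTransitive
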