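import Cfsg.Agent.Golay.Action
import Cfsg.Agent.Golay.Weights

/-!
Elements of order two or three of the code group that fix a point fix at least six points.

Both facts follow by counting the invariant octads through an invariant set of five points.
-/

set_option autoImplicit false

namespace Cfsg.Lib.M23Fixed

open Cfsg Cfsg.Lib.Golay Finset
open scoped Pointwise

variable {σ : Equiv.Perm GolayPt}

/-- The fixed points. -/
def fixSet (σ : Equiv.Perm GolayPt) : Finset GolayPt := univ.filter fun x => σ x = x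

theorem mem_fixSet {x : GolayPt} : x ∈ fixSet σ ↔ σ x = x := by simp [fixSet]

theorem card_univ_pt : (univ : Finset GolayPt).card = 24 := by
  rw [card_univ, Fintype.card_option, ZMod.card]

theorem fix_mod {p : ℕ} [Fact p.Prime] (hσ : σ ^ p = 1) : (fixSet σ).card ≡ 24 [MOD p] := by
  have h := Equiv.Perm.card_compl_support_modEq (n := 1) (by rwa [pow_one])
  rw [Fintype.card_option, ZMod.card] at h
  have e : fixSet σ = σ.supportᶜ := by ext x; simp [fixSet]
  rw [e]; exact h

/-- The octad through five points. -/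
theorem exists_octad (s : Finset GolayPt) (hs : s.card = 5) : ∃ o ∈ octads, s ⊆ o := by
  obtain ⟨o, ⟨ho, hso⟩, -⟩ := octads_steiner.2 s hs
  exact ⟨o, ho, hso⟩

/-- An octad containing an invariant five-set is invariant. -/
theorem invariant_octad (hσ : σ ∈ M24) {o s : Finset GolayPt} (ho : o ∈ octads) (hs : s.card = 5) (hso : s ⊆ o)
    (hinv : ∀ x ∈ s, σ x ∈ s) {x : GolayPt} (hx : x ∈ o) : σ x ∈ o := by
  obtain ⟨o', -, huniq⟩ := octads_steiner.2 s hs
  have h1 : o = o' := huniq o ⟨ho, hso⟩
  have himg : s.image σ = s := eq_of_subset_of_card_le (image_subset_iff.mpr hinv)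
    (by rw [card_image_of_injective _ σ.injective])
  have h2 : σ • o = o' := huniq _ ⟨smul_mem_octads hσ ho, fun y hy => by
    rw [← himg] at hy
    obtain ⟨z, hz, rfl⟩ := mem_image.mp hy
    exact smul_mem_smul_finset (a := σ) (hso hz)⟩
  rw [h1, ← h2]
  exact smul_mem_smul_finset (a := σ) (h1 ▸ hx)

theorem octad_fix_mod (hσ : σ ∈ M24) {p : ℕ} [Fact p.Prime] (hσp : σ ^ p = 1) {o s : Finset GolayPt}
    (ho : o ∈ octads) (hs : s.card = 5) (hso : s ⊆ o) (hinv : ∀ x ∈ s, σ x ∈ s) :
    (o.filter fun x => σ x = x).card ≡ 8 [MOD p] := by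
  classical
  have hfin : ∀ x, σ x ∈ o ↔ x ∈ o := by
    have himg : o.image σ = o := eq_of_subset_of_card_le
      (image_subset_iff.mpr fun x hx => invariant_octad hσ ho hs hso hinv hx)
      (by rw [card_image_of_injective _ σ.injective])
    intro x
    conv_lhs => rw [← himg]
    exact ⟨fun h => by obtain ⟨y, hy, e⟩ := mem_image.mp h; exact σ.injective e ▸ hy, fun h => mem_image_of_mem _ h⟩
  obtain ⟨τ, hτ⟩ : ∃ τ, τ = σ.subtypePerm hfin := ⟨_, rfl⟩
  have hτp : τ ^ p ^ 1 = 1 := by
    rw [pow_one, hτ, Equiv.Perm.subtypePerm_pow]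
    exact Equiv.ext fun i => Subtype.ext (by simp [hσp])
  have h := Equiv.Perm.card_compl_support_modEq (n := 1) hτp
  rw [Fintype.card_coe, ho.2] at h
  refine Nat.ModEq.trans ?_ h
  rw [← card_map (Function.Embedding.subtype _)]
  refine congrArg (· % p) (congrArg Finset.card ?_)
  ext i
  simp only [mem_map, mem_compl, Equiv.Perm.mem_support, not_not, Function.Embedding.subtype_apply, mem_filter, hτ]
  constructor
  · rintro ⟨hi, he⟩
    exact ⟨⟨i, hi⟩, Subtype.ext he, rfl⟩
  · rintro ⟨⟨j, hj⟩, he, rfl⟩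
    exact ⟨hj, congrArg Subtype.val he⟩

theorem six_le_fix_three (hσ : σ ∈ M24) (h3 : orderOf σ = 3) {p : GolayPt} (hp : σ p = p) :
    6 ≤ (fixSet σ).card := by
  classical
  haveI : Fact (Nat.Prime 3) := ⟨Nat.prime_three⟩
  have hσ3 : σ ^ 3 = 1 := h3 ▸ pow_orderOf_eq_one σ
  have hmod : (fixSet σ).card % 3 = 24 % 3 := fix_mod hσ3
  have hpos : 0 < (fixSet σ).card := card_pos.mpr ⟨p, mem_fixSet.mpr hp⟩
  by_contra hlt
  have hF : (fixSet σ).card = 3 := by omega
  obtain ⟨q, hq, hqp⟩ := exists_mem_ne (by rw [hF]; norm_num : 1 < (fixSet σ).card) p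
  rw [mem_fixSet] at hq
  have hcyc : ∀ a, σ (σ (σ a)) = a := fun a => by
    simpa [pow_succ] using Equiv.Perm.ext_iff.mp hσ3 a
  obtain ⟨Mv, hMv⟩ : ∃ Mv, Mv = univ \ fixSet σ := ⟨_, rfl⟩
  have hMc : Mv.card = 21 := by
    rw [hMv, card_sdiff, inter_univ, card_univ_pt, hF]
  have hnf : ∀ a ∈ Mv, σ a ≠ a := fun a ha e => (mem_sdiff.mp (hMv ▸ ha)).2 (mem_fixSet.mpr e)
  have hs5 : ∀ a ∈ Mv, ({p, q, a, σ a, σ (σ a)} : Finset GolayPt).card = 5 := by
    intro a ha
    have h1 := hnf a ha
    have h2 : σ (σ a) ≠ a := fun e => h1 (by have := hcyc a; rw [e] at this; exact this)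
    have h4 : σ (σ a) ≠ σ a := fun e => h1 (σ.injective e)
    have hfix : ∀ y, σ y = y → y ≠ a ∧ y ≠ σ a ∧ y ≠ σ (σ a) := fun y hy =>
      ⟨fun e => h1 (e ▸ hy), fun e => h4 (e ▸ hy), fun e => by
        rw [e, hcyc] at hy; exact h2 hy.symm⟩
    obtain ⟨a1, a2, a3⟩ := hfix p hp
    obtain ⟨b1, b2, b3⟩ := hfix q hq
    rw [card_insert_of_notMem (by simp [hqp.symm, a1, a2, a3]), card_insert_of_notMem (by simp [b1, b2, b3]),
      card_insert_of_notMem (by simp [h1.symm, h2.symm]), card_pair h4.symm]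
  have hex : ∀ a, ∃ o : Finset GolayPt, a ∈ Mv → o ∈ octads ∧ ({p, q, a, σ a, σ (σ a)} : Finset GolayPt) ⊆ o := by
    intro a
    by_cases ha : a ∈ Mv
    · obtain ⟨o, ho, hso⟩ := exists_octad _ (hs5 a ha)
      exact ⟨o, fun _ => ⟨ho, hso⟩⟩
    · exact ⟨∅, fun h => absurd h ha⟩
  choose O hO using hex
  have hinv : ∀ a ∈ Mv, ∀ x ∈ ({p, q, a, σ a, σ (σ a)} : Finset GolayPt), σ x ∈ ({p, q, a, σ a, σ (σ a)} : Finset GolayPt) := by
    intro a _ x hx
    simp only [mem_insert, mem_singleton] at hx ⊢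
    rcases hx with rfl | rfl | rfl | rfl | rfl <;> simp [hp, hq, hcyc]
  have hfixo : ∀ a ∈ Mv, (O a).filter (fun x => σ x = x) = {p, q} := by
    intro a ha
    obtain ⟨ho, hso⟩ := hO a ha
    have hm : _ % 3 = 8 % 3 := octad_fix_mod hσ hσ3 ho (hs5 a ha) hso (hinv a ha)
    have hsub : ({p, q} : Finset GolayPt) ⊆ (O a).filter fun x => σ x = x := by
      simp only [insert_subset_iff, singleton_subset_iff, mem_filter]
      exact ⟨⟨hso (by simp), hp⟩, hso (by simp), hq⟩
    have hle : ((O a).filter fun x => σ x = x).card ≤ 3 := by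
      rw [← hF]; exact card_le_card fun x hx => mem_fixSet.mpr (mem_filter.mp hx).2
    have h2 := card_le_card hsub
    rw [card_pair hqp.symm] at h2
    exact (eq_of_subset_of_card_le hsub (by rw [card_pair hqp.symm]; omega)).symm
  have hfib : ∀ o ∈ Mv.image O, (Mv.filter fun a => O a = o).card = 6 := by
    intro o ho
    obtain ⟨a, ha, rfl⟩ := mem_image.mp ho
    have e : Mv.filter (fun b => O b = O a) = O a \ {p, q} := by
      ext b
      rw [mem_filter, mem_sdiff, ← hfixo a ha, mem_filter]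
      constructor
      · rintro ⟨hb, e⟩
        exact ⟨e ▸ (hO b hb).2 (by simp), fun h => hnf b hb h.2⟩
      · rintro ⟨hb, hnb⟩
        have hbM : b ∈ Mv := by
          rw [hMv, mem_sdiff, mem_fixSet]
          exact ⟨mem_univ b, fun h => hnb ⟨hb, h⟩⟩
        refine ⟨hbM, ?_⟩
        obtain ⟨o', -, huniq⟩ := octads_steiner.2 _ (hs5 b hbM)
        rw [huniq _ ⟨(hO b hbM).1, (hO b hbM).2⟩]
        refine (huniq _ ⟨(hO a ha).1, fun x hx => ?_⟩).symm
        have hi : ∀ y ∈ O a, σ y ∈ O a := fun y hy => invariant_octad hσ (hO a ha).1 (hs5 a ha) (hO a ha).2 (hinv a ha) hy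
        simp only [mem_insert, mem_singleton] at hx
        rcases hx with rfl | rfl | rfl | rfl | rfl
        · exact (hO a ha).2 (by simp)
        · exact (hO a ha).2 (by simp)
        · exact hb
        · exact hi _ hb
        · exact hi _ (hi _ hb)
    rw [e, card_sdiff_of_subset, (hO a ha).1.2, card_pair hqp.symm]
    simp only [insert_subset_iff, singleton_subset_iff]
    exact ⟨(hO a ha).2 (by simp), (hO a ha).2 (by simp)⟩
  have := card_eq_sum_card_image O Mv
  rw [sum_congr rfl hfib, sum_const, smul_eq_mul, hMc] at this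
  omega

theorem six_le_fix_two (hσ : σ ∈ M24) (h2 : orderOf σ = 2) {p : GolayPt} (hp : σ p = p) :
    6 ≤ (fixSet σ).card := by
  classical
  haveI : Fact (Nat.Prime 2) := ⟨Nat.prime_two⟩
  have hσ2 : σ ^ 2 = 1 := h2 ▸ pow_orderOf_eq_one σ
  have hmod : (fixSet σ).card % 2 = 24 % 2 := fix_mod hσ2
  have hinvol : ∀ a, σ (σ a) = a := fun a => by simpa [pow_succ] using Equiv.Perm.ext_iff.mp hσ2 a
  have hpos : 0 < (fixSet σ).card := card_pos.mpr ⟨p, mem_fixSet.mpr hp⟩
  by_contra hlt
  have hF : (fixSet σ).card = 2 ∨ (fixSet σ).card = 4 := by omega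
  obtain ⟨Mv, hMv⟩ : ∃ Mv, Mv = univ \ fixSet σ := ⟨_, rfl⟩
  have hMc : Mv.card = 24 - (fixSet σ).card := by rw [hMv, card_sdiff, inter_univ, card_univ_pt]
  have hnf : ∀ a ∈ Mv, σ a ≠ a := fun a ha e => (mem_sdiff.mp (hMv ▸ ha)).2 (mem_fixSet.mpr e)
  have hmv : ∀ a, σ a ≠ a → a ∈ Mv := fun a ha => by
    rw [hMv, mem_sdiff, mem_fixSet]; exact ⟨mem_univ a, ha⟩
  obtain ⟨Pr, hPr⟩ : ∃ Pr, Pr = (Mv ×ˢ Mv).filter fun t => t.2 ≠ t.1 ∧ t.2 ≠ σ t.1 := ⟨_, rfl⟩
  let five : GolayPt × GolayPt → Finset GolayPt := fun t => {p, t.1, σ t.1, t.2, σ t.2}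
  have hs5 : ∀ t ∈ Pr, (five t).card = 5 := by
    rintro ⟨a, c⟩ ht
    rw [hPr, mem_filter, mem_product] at ht
    obtain ⟨⟨ha, hc⟩, hca, hcσ⟩ := ht
    simp only at ha hc hca hcσ
    have n1 := hnf a ha
    have n2 := hnf c hc
    have hpne : ∀ y, σ y ≠ y → p ≠ y ∧ p ≠ σ y := fun y hy =>
      ⟨fun e => hy (e ▸ hp), fun e => hy (σ.injective (by rw [← e, hp]))⟩
    obtain ⟨a1, a2⟩ := hpne a n1
    obtain ⟨b1, b2⟩ := hpne c n2
    have e1 : a ≠ σ c := fun e => hcσ (by rw [e, hinvol])
    have e2 : σ a ≠ σ c := fun e => hca (σ.injective e).symm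
    show ({p, a, σ a, c, σ c} : Finset GolayPt).card = 5
    rw [card_insert_of_notMem (by simp [a1, a2, b1, b2]), card_insert_of_notMem (by simp [n1.symm, hca.symm, e1]),
      card_insert_of_notMem (by simp [hcσ.symm, e2]), card_pair n2.symm]
  have hex : ∀ t, ∃ o : Finset GolayPt, t ∈ Pr → o ∈ octads ∧ five t ⊆ o := by
    intro t
    by_cases ht : t ∈ Pr
    · obtain ⟨o, ho, hso⟩ := exists_octad _ (hs5 t ht)
      exact ⟨o, fun _ => ⟨ho, hso⟩⟩
    · exact ⟨∅, fun h => absurd h ht⟩
  choose O hO using hex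
  have hinv : ∀ t, ∀ x ∈ five t, σ x ∈ five t := by
    intro t x hx
    simp only [five, mem_insert, mem_singleton] at hx ⊢
    rcases hx with rfl | rfl | rfl | rfl | rfl <;> simp [hp, hinvol]
  obtain ⟨f, hf⟩ : ∃ f : Finset GolayPt → ℕ, f = fun o => (o.filter fun x => σ x = x).card := ⟨_, rfl⟩
  have hfo : ∀ t ∈ Pr, f (O t) = 2 ∨ f (O t) = 4 := by
    intro t ht
    obtain ⟨ho, hso⟩ := hO t ht
    have hm : f (O t) % 2 = 8 % 2 := hf ▸ octad_fix_mod hσ hσ2 ho (hs5 t ht) hso (hinv t)
    have h1 : 0 < f (O t) := by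
      rw [hf]; exact card_pos.mpr ⟨p, mem_filter.mpr ⟨hso (by simp [five]), hp⟩⟩
    have h4 : f (O t) ≤ (fixSet σ).card := by
      rw [hf]; exact card_le_card fun x hx => mem_fixSet.mpr (mem_filter.mp hx).2
    omega
  -- the fibres over the octads with two fixed points
  obtain ⟨B, hB⟩ : ∃ B, B = Pr.filter fun t => f (O t) = 2 := ⟨_, rfl⟩
  have hdvd : 24 ∣ B.card := by
    rw [card_eq_sum_card_image O B]
    refine dvd_sum fun o ho => ?_
    obtain ⟨t, ht, rfl⟩ := mem_image.mp ho
    rw [hB, mem_filter] at ht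
    obtain ⟨ho8, hso⟩ := hO t ht.1
    obtain ⟨m, hm⟩ : ∃ m, m = (O t).filter fun x => ¬ σ x = x := ⟨_, rfl⟩
    have hm6 : m.card = 6 := by
      have := card_filter_add_card_filter_not (s := O t) fun x => σ x = x
      rw [← hm, ho8.2] at this
      have := ht.2
      simp only [hf] at this
      omega
    have hi : ∀ x ∈ O t, σ x ∈ O t := fun x hx => invariant_octad hσ ho8 (hs5 t ht.1) hso (hinv t) hx
    have e : B.filter (fun s => O s = O t) = (m ×ˢ m).filter fun s => s.2 ≠ s.1 ∧ s.2 ≠ σ s.1 := by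
      ext s
      simp only [hB, hPr, mem_filter, mem_product, hm]
      constructor
      · rintro ⟨⟨⟨⟨h1, h2⟩, h3⟩, -⟩, e⟩
        have hs : s ∈ Pr := by rw [hPr, mem_filter, mem_product]; exact ⟨⟨h1, h2⟩, h3⟩
        exact ⟨⟨⟨e ▸ (hO s hs).2 (by simp [five]), hnf _ h1⟩, e ▸ (hO s hs).2 (by simp [five]), hnf _ h2⟩, h3⟩
      · rintro ⟨⟨⟨h1, n1⟩, h2, n2⟩, h3⟩
        have hs : s ∈ Pr := by rw [hPr, mem_filter, mem_product]; exact ⟨⟨hmv _ n1, hmv _ n2⟩, h3⟩
        have heq : O s = O t := by
          obtain ⟨o', -, huniq⟩ := octads_steiner.2 _ (hs5 s hs)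
          rw [huniq _ ⟨(hO s hs).1, (hO s hs).2⟩]
          refine (huniq _ ⟨ho8, fun x hx => ?_⟩).symm
          simp only [five, mem_insert, mem_singleton] at hx
          rcases hx with rfl | rfl | rfl | rfl | rfl
          · exact hso (by simp [five])
          · exact h1
          · exact hi _ h1
          · exact h2
          · exact hi _ h2
        exact ⟨⟨⟨⟨hmv _ n1, hmv _ n2⟩, h3⟩, heq ▸ ht.2⟩, heq⟩
    rw [e]
    have hrow : ∀ a ∈ m, (m.filter fun c => c ≠ a ∧ c ≠ σ a).card = 4 := by
      intro a ha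
      have hσa : σ a ∈ m := by
        rw [hm, mem_filter] at ha ⊢
        exact ⟨hi a ha.1, fun e => ha.2 (σ.injective e)⟩
      have e : m.filter (fun c => c ≠ a ∧ c ≠ σ a) = m \ {a, σ a} := by ext c; simp
      rw [e, card_sdiff_of_subset (by simp [insert_subset_iff, ha, hσa]), hm6,
        card_pair (fun e => (mem_filter.mp (show a ∈ (O t).filter fun x => ¬ σ x = x from hm ▸ ha)).2 e.symm)]
    rw [card_filter, sum_product, sum_congr rfl (g := fun _ => 4) fun a ha => by rw [← card_filter]; exact hrow a ha,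
      sum_const, hm6]
    norm_num
  -- the size of the set of pairs
  have hrowB : ∀ a ∈ Mv, (Mv.filter fun c => c ≠ a ∧ c ≠ σ a).card = Mv.card - 2 := by
    intro a ha
    have hσa : σ a ∈ Mv := hmv _ fun e => hnf a ha (σ.injective e)
    have e : Mv.filter (fun c => c ≠ a ∧ c ≠ σ a) = Mv \ {a, σ a} := by ext c; simp
    rw [e, card_sdiff_of_subset (by simp [insert_subset_iff, ha, hσa]), card_pair (hnf a ha).symm]
  have hPc : Pr.card = Mv.card * (Mv.card - 2) := by
    rw [hPr, card_filter, sum_product, sum_congr rfl (g := fun _ => Mv.card - 2) fun a ha => by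
      rw [← card_filter]; exact hrowB a ha, sum_const, smul_eq_mul]
  rcases hF with hF | hF
  · have hBP : B = Pr := by
      rw [hB]
      refine filter_true_of_mem fun t ht => ?_
      have : f (O t) ≤ 2 := by
        rw [hf, ← hF]; exact card_le_card fun x hx => mem_fixSet.mpr (mem_filter.mp hx).2
      rcases hfo t ht with h | h <;> omega
    rw [hBP, hPc, hMc, hF] at hdvd
    norm_num at hdvd
  · -- the octads through all four fixed points
    obtain ⟨T, hT, hT3⟩ := exists_subset_card_eq (s := fixSet σ) (n := 3) (by omega)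
    have hA : ∀ a ∈ Mv, ((Pr \ B).filter fun t => t.1 = a).card = 2 := by
      intro a ha
      have hσa : σ a ∈ Mv := hmv _ fun e => hnf a ha (σ.injective e)
      have hdis : Disjoint T {a, σ a} := by
        rw [Finset.disjoint_left]
        intro x hx hx'
        have hx2 := mem_fixSet.mp (hT hx)
        simp only [mem_insert, mem_singleton] at hx'
        rcases hx' with rfl | rfl
        · exact hnf _ ha hx2
        · exact hnf _ hσa hx2
      have hs : (T ∪ {a, σ a}).card = 5 := by rw [card_union_of_disjoint hdis, hT3, card_pair (hnf a ha).symm]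
      have hsi : ∀ x ∈ T ∪ {a, σ a}, σ x ∈ T ∪ {a, σ a} := by
        intro x hx
        simp only [mem_union, mem_insert, mem_singleton] at hx ⊢
        rcases hx with hx | rfl | rfl
        · left; rw [mem_fixSet.mp (hT hx)]; exact hx
        · simp
        · simp [hinvol]
      obtain ⟨o, ho, hso⟩ := exists_octad _ hs
      have hm : _ % 2 = 8 % 2 := octad_fix_mod hσ hσ2 ho hs hso hsi
      have hfix4 : o.filter (fun x => σ x = x) = fixSet σ := by
        refine eq_of_subset_of_card_le (fun x hx => mem_fixSet.mpr (mem_filter.mp hx).2) ?_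
        have h3 := card_le_card (fun x hx => mem_filter.mpr ⟨hso (mem_union_left _ hx), mem_fixSet.mp (hT hx)⟩ :
          T ⊆ o.filter fun x => σ x = x)
        have h4 := card_le_card (fun x hx => mem_fixSet.mpr (mem_filter.mp hx).2 :
          (o.filter fun x => σ x = x) ⊆ fixSet σ)
        omega
      have hFo : fixSet σ ⊆ o := hfix4 ▸ filter_subset _ _
      have e : ((Pr \ B).filter fun t => t.1 = a) = ({a} : Finset GolayPt) ×ˢ (o \ (fixSet σ ∪ {a, σ a})) := by
        ext ⟨b, c⟩
        simp only [mem_filter, mem_sdiff, mem_product, mem_singleton, mem_union, not_or, mem_fixSet, mem_insert, hB]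
        constructor
        · rintro ⟨⟨ht, hnB⟩, rfl⟩
          obtain ⟨ho', hso'⟩ := hO (b, c) ht
          have h4 : f (O (b, c)) = 4 := (hfo _ ht).resolve_left fun h => hnB ⟨ht, h⟩
          have hfull : (O (b, c)).filter (fun x => σ x = x) = fixSet σ :=
            eq_of_subset_of_card_le (fun x hx => mem_fixSet.mpr (mem_filter.mp hx).2)
              (by rw [hF]; simp only [hf] at h4; omega)
          have heq : O (b, c) = o := by
            refine octad_eq_of_five_le ho' ho (hs ▸ card_le_card (subset_inter (union_subset ?_ ?_) hso))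
            · exact hT.trans (hfull ▸ filter_subset _ _)
            · simp only [insert_subset_iff, singleton_subset_iff]
              exact ⟨hso' (by simp [five]), hso' (by simp [five])⟩
          rw [hPr, mem_filter, mem_product] at ht
          exact ⟨rfl, heq ▸ hso' (by simp [five]), hnf c ht.1.2, ht.2.1, ht.2.2⟩
        · rintro ⟨rfl, hc, nc, hcb, hcσ⟩
          have ht : (b, c) ∈ Pr := by rw [hPr, mem_filter, mem_product]; exact ⟨⟨ha, hmv c nc⟩, hcb, hcσ⟩
          obtain ⟨ho', hso'⟩ := hO (b, c) ht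
          have heq : O (b, c) = o := by
            refine octad_eq_of_five_le ho' ho (hs5 _ ht ▸ card_le_card (subset_inter hso' ?_))
            intro x hx
            simp only [five, mem_insert, mem_singleton] at hx
            rcases hx with rfl | rfl | rfl | rfl | rfl
            · exact hFo (mem_fixSet.mpr hp)
            · exact hso (by simp)
            · exact hso (by simp)
            · exact hc
            · exact invariant_octad hσ ho hs hso hsi hc
          refine ⟨⟨ht, fun h => ?_⟩, rfl⟩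
          have h2' := h.2
          rw [heq] at h2'
          simp only [hf, hfix4] at h2'
          omega
      rw [e, card_product, card_singleton, one_mul, card_sdiff_of_subset, ho.2, card_union_of_disjoint, hF,
        card_pair (hnf a ha).symm]
      · rw [Finset.disjoint_left]
        intro x hx hx'
        simp only [mem_insert, mem_singleton] at hx'
        rcases hx' with rfl | rfl
        · exact hnf _ ha (mem_fixSet.mp hx)
        · exact hnf _ hσa (mem_fixSet.mp hx)
      · exact union_subset hFo (subset_union_right.trans hso)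
    have hcount : (Pr \ B).card = Mv.card * 2 := by
      rw [card_eq_sum_card_fiberwise (f := Prod.fst) (t := Mv) fun t ht => by
        have := (mem_sdiff.mp ht).1
        rw [hPr, mem_filter, mem_product] at this
        exact this.1.1, sum_congr rfl hA, sum_const, smul_eq_mul]
    have hBsub : B ⊆ Pr := hB ▸ filter_subset _ _
    rw [card_sdiff_of_subset hBsub, hPc, hMc, hF] at hcount
    have := card_le_card hBsub
    rw [hPc, hMc, hF] at this
    have : B.card = 320 := by omega
    rw [this] at hdvd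
    norm_num at hdvd

end Cfsg.Lib.M23Fixed
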