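import Mathlib

/-!
# Ree's theorem for three permutations with product one

If `x * y * z = 1` and `x`, `y` generate a transitive group on `n` points, then the numbers of orbits of `x`, `y`, `z`
add up to at most `n + 2`. The proof is Scott's: count dimensions in the permutation module.
-/

set_option autoImplicit false

namespace Cfsg.Lib.Ree

open Module MulAction

variable {α : Type*} [Fintype α] [DecidableEq α]

/-- The permutation module, contravariantly. -/
noncomputable def act (x : Equiv.Perm α) : (α → ℚ) →ₗ[ℚ] (α → ℚ) := LinearMap.funLeft ℚ ℚ x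

theorem act_apply (x : Equiv.Perm α) (v : α → ℚ) (a : α) : act x v a = v (x a) := rfl

/-- The number of orbits of a cyclic group. -/
noncomputable def numOrbits (x : Equiv.Perm α) : ℕ :=
  Nat.card (Quotient (orbitRel (Subgroup.zpowers x) α))

theorem numOrbits_le_ker (x : Equiv.Perm α) :
    numOrbits x ≤ finrank ℚ (LinearMap.ker (1 - act x)) := by
  classical
  let π : α → Quotient (orbitRel (Subgroup.zpowers x) α) := Quotient.mk''
  have hπ : ∀ a, π (x a) = π a := fun a => Quotient.sound'
    ⟨⟨x, Subgroup.mem_zpowers x⟩, rfl⟩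
  let φ : (Quotient (orbitRel (Subgroup.zpowers x) α) → ℚ) →ₗ[ℚ] LinearMap.ker (1 - act x) :=
    (LinearMap.funLeft ℚ ℚ π).codRestrict _ fun f => by
      rw [LinearMap.mem_ker, LinearMap.sub_apply, Module.End.one_apply, sub_eq_zero]
      funext a
      rw [act_apply]
      show f (π a) = f (π (x a))
      rw [hπ]
  have hinj : Function.Injective φ := fun f g h => by
    funext c
    obtain ⟨a, rfl⟩ := Quotient.exists_rep c
    exact congrFun (congrArg Subtype.val h) a
  have := LinearMap.finrank_le_finrank_of_injective hinj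
  rwa [finrank_fintype_fun_eq_card, ← Nat.card_eq_fintype_card] at this

theorem ree [Nonempty α] (x y z : Equiv.Perm α) (hxyz : x * y * z = 1)
    (htr : ∀ a b : α, ∃ g ∈ Subgroup.closure ({x, y} : Set (Equiv.Perm α)), g a = b) :
    numOrbits x + numOrbits y + numOrbits z ≤ Fintype.card α + 2 := by
  classical
  obtain ⟨A, hA⟩ : ∃ A, A = act z := ⟨_, rfl⟩
  obtain ⟨B, hB⟩ : ∃ B, B = act y := ⟨_, rfl⟩
  obtain ⟨C, hC⟩ : ∃ C, C = act x := ⟨_, rfl⟩
  have hABC : ∀ v, A (B (C v)) = v := fun v => funext fun a => by
    subst hA hB hC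
    rw [act_apply, act_apply, act_apply]
    exact congrArg v (Equiv.Perm.ext_iff.mp hxyz a)
  let RA := LinearMap.range (1 - A)
  let RB := LinearMap.range (1 - B)
  let RC := LinearMap.range (1 - C)
  let β : (α → ℚ) →ₗ[ℚ] RA × RB × RC :=
    ((1 - A).rangeRestrict).prod (((1 - B).rangeRestrict).prod ((1 - C).rangeRestrict))
  let f : RA × RB × RC →ₗ[ℚ] (α → ℚ) :=
    RA.subtype.coprod ((A.comp RB.subtype).coprod ((A.comp B).comp RC.subtype))
  have hf : ∀ a b c, f (a, b, c) = (a : α → ℚ) + (A b + A (B c)) := fun a b c => rfl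
  have hfβ : LinearMap.range β ≤ LinearMap.ker f := by
    rintro _ ⟨v, rfl⟩
    rw [LinearMap.mem_ker]
    show (1 - A) v + (A ((1 - B) v) + A (B ((1 - C) v))) = 0
    simp only [LinearMap.sub_apply, Module.End.one_apply, map_sub, hABC]
    abel
  obtain ⟨a₀⟩ := ‹Nonempty α›
  -- the common kernel consists of constants
  have hker : finrank ℚ (LinearMap.ker β) ≤ 1 := by
    have hle : LinearMap.ker β ≤ Submodule.span ℚ {(fun _ => 1 : α → ℚ)} := by
      intro v hv
      rw [LinearMap.mem_ker] at hv
      have hB' : (1 - B) v = 0 := congrArg (fun t : RA × RB × RC => (t.2.1 : α → ℚ)) hv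
      have hC' : (1 - C) v = 0 := congrArg (fun t : RA × RB × RC => (t.2.2 : α → ℚ)) hv
      rw [LinearMap.sub_apply, Module.End.one_apply, sub_eq_zero] at hB' hC'
      have hall : ∀ g ∈ Subgroup.closure ({x, y} : Set (Equiv.Perm α)), ∀ a, v (g a) = v a := by
        intro g hg
        induction hg using Subgroup.closure_induction with
        | mem g hg =>
          intro a
          rcases hg with rfl | rfl
          · conv_rhs => rw [hC', hC, act_apply]
          · conv_rhs => rw [hB', hB, act_apply]
        | one => simp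
        | mul g h _ _ ihg ihh => intro a; rw [Equiv.Perm.mul_apply, ihg, ihh]
        | inv g _ ih => intro a; conv_rhs => rw [← (g.apply_symm_apply a), ih]
                        rfl
      refine Submodule.mem_span_singleton.mpr ⟨v a₀, funext fun a => ?_⟩
      obtain ⟨g, hg, rfl⟩ := htr a₀ a
      simp [hall g hg a₀]
    exact (Submodule.finrank_mono hle).trans (by simpa using finrank_span_le_card ({(fun _ => 1 : α → ℚ)} : Set (α → ℚ)))
  -- the image contains the differences
  have hU : Fintype.card α ≤ finrank ℚ (LinearMap.range f) + 1 := by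
    set U := LinearMap.range f with hUdef
    have mA : ∀ v, v - A v ∈ U := fun v => ⟨(⟨_, LinearMap.mem_range_self (1 - A) v⟩, 0, 0), by simp [hf]⟩
    have mAB : ∀ v, A (v - B v) ∈ U := fun v => ⟨(0, ⟨_, LinearMap.mem_range_self (1 - B) v⟩, 0), by simp [hf]⟩
    have mB : ∀ v, v - B v ∈ U := fun v => by
      have := U.add_mem (mAB v) (mA (v - B v))
      simpa using this
    have mABC : ∀ v, A (B (v - C v)) ∈ U := fun v => ⟨(0, 0, ⟨_, LinearMap.mem_range_self (1 - C) v⟩), by simp [hf]⟩
    have mC : ∀ v, v - C v ∈ U := fun v => by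
      have := U.add_mem (U.add_mem (mABC v) (mA (B (v - C v)))) (mB (v - C v))
      simpa using this
    have hall : ∀ g ∈ Subgroup.closure ({x, y} : Set (Equiv.Perm α)), ∀ v, v - act g v ∈ U := by
      intro g hg
      induction hg using Subgroup.closure_induction with
      | mem g hg =>
        rcases hg with rfl | rfl
        · exact hC ▸ mC
        · exact hB ▸ mB
      | one =>
        intro v
        rw [show act (1 : Equiv.Perm α) v = v from rfl, sub_self]; exact U.zero_mem
      | mul g h _ _ ihg ihh =>
        intro v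
        have e : act (g * h) v = act h (act g v) := rfl
        have := U.add_mem (ihg v) (ihh (act g v))
        rw [e]; simpa using this
      | inv g _ ih =>
        intro v
        have := U.neg_mem (ih (act g⁻¹ v))
        have e : act g (act g⁻¹ v) = v := funext fun a => congrArg v (g.symm_apply_apply a)
        rw [e, neg_sub] at this
        exact this
    have hsup : (⊤ : Submodule ℚ (α → ℚ)) ≤ U ⊔ Submodule.span ℚ {Pi.single a₀ 1} := by
      intro v _
      have hs : ∀ a, (Pi.single a 1 : α → ℚ) ∈ U ⊔ Submodule.span ℚ {Pi.single a₀ 1} := by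
        intro a
        obtain ⟨g, hg, hga⟩ := htr a a₀
        have e : act g (Pi.single a₀ 1) = Pi.single a 1 := funext fun b => by
          rw [act_apply, Pi.single_apply, Pi.single_apply]
          exact if_congr ⟨fun h => g.injective (h.trans hga.symm), fun h => h ▸ hga⟩ rfl rfl
        have h1 := hall g hg (Pi.single a₀ 1)
        rw [e] at h1
        have h2 : (Pi.single a 1 : α → ℚ) = Pi.single a₀ 1 - (Pi.single a₀ 1 - Pi.single a 1) := by abel
        rw [h2]
        exact Submodule.sub_mem _ (Submodule.mem_sup_right (Submodule.mem_span_singleton_self _))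
          (Submodule.mem_sup_left h1)
      have hv : v = ∑ a, v a • (Pi.single a 1 : α → ℚ) := funext fun b => by
        simp [Finset.sum_apply, Pi.single_apply]
      rw [hv]
      exact Submodule.sum_mem _ fun a _ => Submodule.smul_mem _ _ (hs a)
    have h1 : finrank ℚ (U ⊔ Submodule.span ℚ {(Pi.single a₀ 1 : α → ℚ)} : Submodule ℚ (α → ℚ)) = Fintype.card α := by
      rw [top_le_iff.mp hsup, finrank_top, finrank_fintype_fun_eq_card]
    have h2 := Submodule.finrank_add_le_finrank_add_finrank U (Submodule.span ℚ {(Pi.single a₀ 1 : α → ℚ)})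
    have h3 : finrank ℚ (Submodule.span ℚ {(Pi.single a₀ 1 : α → ℚ)}) ≤ 1 := by
      simpa using finrank_span_le_card ({(Pi.single a₀ 1 : α → ℚ)} : Set (α → ℚ))
    omega
  have e1 := LinearMap.finrank_range_add_finrank_ker f
  have e2 := LinearMap.finrank_range_add_finrank_ker β
  have e3 := Submodule.finrank_mono hfβ
  have e4 : finrank ℚ (RA × RB × RC) = finrank ℚ RA + (finrank ℚ RB + finrank ℚ RC) := by
    rw [Module.finrank_prod, Module.finrank_prod]
  rw [finrank_fintype_fun_eq_card] at e2
  have eA := LinearMap.finrank_range_add_finrank_ker (1 - A)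
  have eB := LinearMap.finrank_range_add_finrank_ker (1 - B)
  have eC := LinearMap.finrank_range_add_finrank_ker (1 - C)
  rw [finrank_fintype_fun_eq_card] at eA eB eC
  have kA := numOrbits_le_ker z
  have kB := numOrbits_le_ker y
  have kC := numOrbits_le_ker x
  rw [← hA] at kA
  rw [← hB] at kB
  rw [← hC] at kC
  simp only [RA, RB, RC] at e1 e2 e3 e4
  show numOrbits x + numOrbits y + numOrbits z ≤ _
  omega

/-- Burnside's count for a permutation of prime order. -/
theorem numOrbits_prime (x : Equiv.Perm α) {p : ℕ} (hp : p.Prime) (hx : orderOf x = p) :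
    p * numOrbits x = Fintype.card α + (p - 1) * (Finset.univ.filter fun a => x a = a).card := by
  classical
  letI : Fintype (Subgroup.zpowers x) := Fintype.ofFinite _
  letI : Fintype (Quotient (orbitRel (Subgroup.zpowers x) α)) := Fintype.ofFinite _
  have h := MulAction.sum_card_fixedBy_eq_card_orbits_mul_card_group (Subgroup.zpowers x) α
  have hfix : ∀ g : Subgroup.zpowers x, g ≠ 1 →
      Fintype.card (fixedBy α g) = (Finset.univ.filter fun a => x a = a).card := by
    intro g hg
    rw [← Set.toFinset_card]
    congr 1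
    ext a
    rw [Set.mem_toFinset, mem_fixedBy, Finset.mem_filter, Subgroup.smul_def, Equiv.Perm.smul_def]
    obtain ⟨k, hk⟩ := Subgroup.mem_zpowers_iff.mp g.2
    rw [← hk]
    constructor
    · intro ha
      refine ⟨Finset.mem_univ _, ?_⟩
      have hcop : IsCoprime k (p : ℤ) := by
        rw [Int.isCoprime_iff_gcd_eq_one]
        have hnd : ¬ (p : ℤ) ∣ k := fun hd => hg (Subtype.ext (by
          rw [← hk]; exact orderOf_dvd_iff_zpow_eq_one.mp (hx ▸ hd)))
        exact Int.isCoprime_iff_gcd_eq_one.mp ((Nat.prime_iff_prime_int.mp hp).coprime_iff_not_dvd.mpr hnd).symm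
      obtain ⟨u, w, huw⟩ := hcop
      have e : x = (x ^ k) ^ u := by
        conv_lhs => rw [← zpow_one x, ← huw]
        rw [zpow_add, zpow_mul' x u k, zpow_mul' x w (p : ℤ), zpow_natCast, ← hx, pow_orderOf_eq_one, one_zpow, mul_one]
      conv_lhs => rw [e]
      exact Equiv.Perm.zpow_apply_eq_self_of_apply_eq_self ha u
    · rintro ⟨-, ha⟩
      exact Equiv.Perm.zpow_apply_eq_self_of_apply_eq_self ha k
  rw [Finset.sum_eq_add_sum_sdiff_singleton_of_mem (Finset.mem_univ (1 : Subgroup.zpowers x)),
    Finset.sum_congr rfl (fun g hg => hfix g (by simpa using hg))] at h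
  have h1 : Fintype.card (fixedBy α (1 : Subgroup.zpowers x)) = Fintype.card α := by
    rw [Fintype.card_subtype]
    simp [mem_fixedBy]
  rw [h1, Finset.sum_const, smul_eq_mul, Finset.card_sdiff, Finset.card_univ, ← Nat.card_eq_fintype_card
    (α := Subgroup.zpowers x), Nat.card_zpowers, hx, ← Nat.card_eq_fintype_card] at h
  rw [numOrbits, Nat.card_eq_fintype_card, mul_comm, ← h]
  simp

end Cfsg.Lib.Ree
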