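import Cfsg.Agent.Recognition.M23TriplesData
import Cfsg.Agent.Recognition.ReeTheorem
import Cfsg.Agent.Recognition.M23Fixed
import Cfsg.Agent.Golay.Subgroups

/-!
The triples of prime orders that generate M23.
-/

set_option autoImplicit false
set_option maxRecDepth 100000

namespace Cfsg.Lib.M23Triples

open Cfsg Cfsg.Lib.Golay Cfsg.Lib.PermCert MulAction

/-- The generators of the certified chain. -/
def gens23 : List PP := topGens (m24PointChain.drop 1)

/-- A table agrees with a word. -/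
def sameWord (s : PP) (w : List PP) : Bool :=
  valid 24 s && w.all (valid 24) && (List.range 24).all fun i => ap s.1 i == evalWord w i

/-- The word given by indices. -/
def wordOf (l : List PP) (w : List ℕ) : List PP := w.map fun i => l.getD i (0, 0)

/-- The checker of a witness. -/
def caseOK (c : TriCase) : Bool :=
  c.wx.all (fun i => decide (i < gens23.length)) && c.wy.all (fun i => decide (i < gens23.length)) &&
  c.ws.all (fun w => w.all fun i => decide (i < 2)) &&
  sameWord c.x (wordOf gens23 c.wx) && sameWord c.y (wordOf gens23 c.wy) &&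
  decide (c.ws.length = gens23.length) &&
  (List.range gens23.length).all (fun i => sameWord (gens23.getD i (0, 0)) (wordOf [c.x, c.y] (c.ws.getD i []))) &&
  decide (c.p.Prime) && decide (c.q.Prime) && decide (c.r.Prime) &&
  isId 24 (List.replicate c.p c.x) && !isId 24 [c.x] &&
  isId 24 (List.replicate c.q c.y) && !isId 24 [c.y] &&
  isId 24 (List.replicate c.r [c.x, c.y]).flatten && !isId 24 [c.x, c.y]

theorem sameWord_spec {s : PP} {w : List PP} (h : sameWord s w = true) :
    valid 24 s = true ∧ (∀ g ∈ w, valid 24 g = true) ∧ perm 24 s = wperm 24 w := by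
  simp only [sameWord, Bool.and_eq_true, List.all_eq_true, beq_iff_eq] at h
  obtain ⟨⟨hs, hw⟩, he⟩ := h
  refine ⟨hs, hw, Equiv.ext fun i => Fin.ext ?_⟩
  rw [perm_apply hs, wperm_apply hw]
  exact he i.1 (List.mem_range.mpr i.2)

theorem wperm_mem {K : Subgroup (Equiv.Perm (Fin 24))} {l : List PP} (hl : ∀ g ∈ l, perm 24 g ∈ K) (w : List ℕ)
    (hw : ∀ i ∈ w, i < l.length) : wperm 24 (wordOf l w) ∈ K := by
  refine K.list_prod_mem fun g hg => ?_
  simp only [wordOf, List.map_map, List.mem_map, Function.comp] at hg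
  obtain ⟨i, hi, rfl⟩ := hg
  rw [List.getD_eq_getElem l _ (hw i hi)]
  exact hl _ (List.getElem_mem _)

theorem orderOf_word {w : List PP} {p : ℕ} (hp : p.Prime) (hv : ∀ g ∈ w, valid 24 g = true)
    (h1 : isId 24 (List.replicate p w).flatten = true) (h2 : isId 24 w = false) :
    orderOf (wperm 24 w) = p := by
  haveI := Fact.mk hp
  refine orderOf_eq_prime ?_ fun h => ?_
  · have := isId_sound (fun g hg => by
      obtain ⟨l, hl, hgl⟩ := List.mem_flatten.mp hg
      exact hv g (List.eq_of_mem_replicate hl ▸ hgl)) h1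
    rw [← this]
    simp [wperm, List.map_flatten, List.prod_flatten]
  · rw [isId, ← Bool.not_eq_true] at h2
    refine h2 (List.all_eq_true.mpr fun i hi => ?_)
    rw [beq_iff_eq, ← wperm_apply hv ⟨i, List.mem_range.mp hi⟩, h]
    rfl

theorem flatten_singletons (p : ℕ) (g : PP) : (List.replicate p [g]).flatten = List.replicate p g :=
  List.flatten_replicate_singleton

/-- A checked witness gives a generating triple. -/
theorem witness {c : TriCase} (h : caseOK c = true) :
    ∃ x y z : Spor.M23, orderOf x = c.p ∧ orderOf y = c.q ∧ orderOf z = c.r ∧ x * y * z = 1 ∧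
      Subgroup.closure {x, y} = ⊤ := by
  simp only [caseOK, Bool.and_eq_true, List.all_eq_true, decide_eq_true_eq, Bool.not_eq_true'] at h
  obtain ⟨⟨⟨⟨⟨⟨⟨⟨⟨⟨⟨⟨⟨⟨⟨hwx, hwy⟩, hws⟩, hx⟩, hy⟩, hlen⟩, hgen⟩, hp⟩, hq⟩, hr⟩, x1⟩, x2⟩, y1⟩, y2⟩, z1⟩, z2⟩ := h
  obtain ⟨vx, -, ex⟩ := sameWord_spec hx
  obtain ⟨vy, -, ey⟩ := sameWord_spec hy
  obtain ⟨K, hK⟩ : ∃ K, K = grp 24 (m24PointChain.drop 1) := ⟨_, rfl⟩
  have hgK : ∀ g ∈ gens23, perm 24 g ∈ K := fun g hg => hK ▸ perm_mem_grp hg
  have hxK : perm 24 c.x ∈ K := ex ▸ wperm_mem hgK _ hwx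
  have hyK : perm 24 c.y ∈ K := ey ▸ wperm_mem hgK _ hwy
  have hcl : Subgroup.closure ({perm 24 c.x, perm 24 c.y} : Set (Equiv.Perm (Fin 24))) = K := by
    refine le_antisymm ((Subgroup.closure_le _).mpr ?_) ?_
    · rintro g (rfl | rfl)
      · exact hxK
      · exact hyK
    · rw [hK]
      refine (Subgroup.closure_le _).mpr ?_
      rintro _ ⟨s, hs, rfl⟩
      obtain ⟨i, hi, rfl⟩ := List.getElem_of_mem (show s ∈ gens23 from hs)
      obtain ⟨-, -, e⟩ := sameWord_spec (hgen i (List.mem_range.mpr hi))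
      rw [List.getD_eq_getElem _ _ hi] at e
      rw [e]
      refine wperm_mem (fun g hg => Subgroup.subset_closure ?_) _ fun j hj => ?_
      · simp only [List.mem_cons, List.not_mem_nil, or_false] at hg
        rcases hg with rfl | rfl <;> simp
      · have hw : c.ws.getD i [] ∈ c.ws := by
          rw [List.getD_eq_getElem _ _ (hlen.symm ▸ hi)]
          exact List.getElem_mem _
        exact hws _ hw j hj
  have hM : Spor.M23 = K.map permHom.toMonoidHom := by rw [hK]; exact M23_eq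
  let X : Spor.M23 := ⟨toP c.x, hM ▸ Subgroup.mem_map_of_mem _ hxK⟩
  let Y : Spor.M23 := ⟨toP c.y, hM ▸ Subgroup.mem_map_of_mem _ hyK⟩
  have hord : ∀ g : Spor.M23, ∀ σ : Equiv.Perm (Fin 24), (g : Equiv.Perm GolayPt) = permHom σ →
      orderOf g = orderOf σ := fun g σ hg => by
    rw [← orderOf_injective Spor.M23.subtype Subtype.val_injective, Subgroup.coe_subtype, hg]
    exact MulEquiv.orderOf_eq permHom σ
  refine ⟨X, Y, (X * Y)⁻¹, ?_, ?_, ?_, mul_inv_cancel _, ?_⟩
  · rw [hord X (perm 24 c.x) rfl, show perm 24 c.x = wperm 24 [c.x] by simp]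
    exact orderOf_word hp (by simpa using vx) (by rw [flatten_singletons]; exact x1) x2
  · rw [hord Y (perm 24 c.y) rfl, show perm 24 c.y = wperm 24 [c.y] by simp]
    exact orderOf_word hq (by simpa using vy) (by rw [flatten_singletons]; exact y1) y2
  · rw [orderOf_inv, hord (X * Y) (wperm 24 [c.x, c.y]) (by simp [X, Y, toP])]
    exact orderOf_word hr (by simp [vx, vy]) z1 z2
  · apply Subgroup.map_injective (f := Spor.M23.subtype) Subtype.val_injective
    rw [MonoidHom.map_closure, ← MonoidHom.range_eq_map, Subgroup.range_subtype]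
    conv_rhs => rw [hM, ← hcl, MonoidHom.map_closure]
    rw [Set.image_pair, Set.image_pair]
    rfl

/-- Fixed points on the 23 moved points. -/
theorem orbit_bound (g : Spor.M23) (p : ℕ) (hp : p.Prime) (hg : orderOf g = p) :
    ∀ π : Equiv.Perm {a : GolayPt // a ≠ none}, (∀ a, (π a : GolayPt) = (g : Equiv.Perm GolayPt) a) →
      orderOf π = p → 1 ≤ Ree.numOrbits π ∧ (p = 2 → 14 ≤ Ree.numOrbits π) ∧ (p = 3 → 11 ≤ Ree.numOrbits π) ∧
        (p = 5 → 7 ≤ Ree.numOrbits π) ∧ (p = 7 → 5 ≤ Ree.numOrbits π) := by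
  intro π hπ hπo
  have h := Ree.numOrbits_prime π hp hπo
  have hc : Fintype.card {a : GolayPt // a ≠ none} = 23 := by decide
  rw [hc] at h
  obtain ⟨f, hf⟩ : ∃ f, f = (Finset.univ.filter fun a => π a = a).card := ⟨_, rfl⟩
  rw [← hf] at h
  have hnone : (g : Equiv.Perm GolayPt) none = none := g.2.2
  have hfix : (M23Fixed.fixSet (g : Equiv.Perm GolayPt)).card = f + 1 := by
    rw [hf, M23Fixed.fixSet, ← Finset.card_map (Function.Embedding.subtype _)]
    have : (Finset.univ.filter fun a => (g : Equiv.Perm GolayPt) a = a) =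
        insert none ((Finset.univ.filter fun a => π a = a).map (Function.Embedding.subtype _)) := by
      ext a
      simp only [Finset.mem_filter, Finset.mem_univ, true_and, Finset.mem_insert, Finset.mem_map,
        Function.Embedding.subtype_apply]
      constructor
      · intro ha
        by_cases h0 : a = none
        · exact Or.inl h0
        · exact Or.inr ⟨⟨a, h0⟩, Subtype.ext (by rw [hπ]; exact ha), rfl⟩
      · rintro (rfl | ⟨b, hb, rfl⟩)
        · exact hnone
        · rw [← hπ, hb]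
    rw [this, Finset.card_insert_of_notMem]
    simp
  have hgo : orderOf (g : Equiv.Perm GolayPt) = p := by rw [Subgroup.orderOf_coe, hg]
  refine ⟨?_, ?_, ?_, ?_, ?_⟩
  · by_contra h0
    rw [show Ree.numOrbits π = 0 by omega, mul_zero] at h
    omega
  · rintro rfl
    have := M23Fixed.six_le_fix_two g.2.1 hgo hnone
    omega
  · rintro rfl
    have := M23Fixed.six_le_fix_three g.2.1 hgo hnone
    omega
  · rintro rfl
    omega
  · rintro rfl
    omega

/-- The restriction to the 23 moved points. -/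
noncomputable def restrict : Spor.M23 →* Equiv.Perm {a : GolayPt // a ≠ none} where
  toFun g := (g : Equiv.Perm GolayPt).subtypePerm fun a => by
    have hnone : (g : Equiv.Perm GolayPt) none = none := g.2.2
    exact not_congr ⟨fun h => (g : Equiv.Perm GolayPt).injective (h.trans hnone.symm), fun h => h ▸ hnone⟩
  map_one' := Equiv.ext fun _ => Subtype.ext rfl
  map_mul' _ _ := Equiv.ext fun _ => Subtype.ext rfl

theorem restrict_injective : Function.Injective restrict := fun g h e => by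
  refine Subtype.ext (Equiv.ext fun a => ?_)
  by_cases ha : a = none
  · rw [ha]
    exact (g.2.2 : (g : Equiv.Perm GolayPt) none = none).trans (h.2.2 : (h : Equiv.Perm GolayPt) none = none).symm
  · exact congrArg Subtype.val (Equiv.ext_iff.mp e ⟨a, ha⟩)

theorem transitive (a b : {a : GolayPt // a ≠ none}) : ∃ g : Spor.M23, restrict g a = b := by
  have htr : IsMultiplyPretransitive M24 GolayPt 5 := M24_five_transitive
  haveI : IsMultiplyPretransitive M24 GolayPt 2 := isMultiplyPretransitive_of_le (n := 5) (by norm_num) (by simp)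
  obtain ⟨g, hg1, hg2⟩ := (is_two_pretransitive_iff (G := M24)).mp inferInstance (Ne.symm a.2) (Ne.symm b.2)
  exact ⟨⟨(g : Equiv.Perm GolayPt), g.2, hg1⟩, Subtype.ext hg2⟩

/-- The excluded triples do not generate. -/
theorem not_generate {p q r : ℕ} (hp : p.Prime) (hq : q.Prime) (hr : r.Prime) (hqr : q ≤ r)
    (hex : (p = 2 ∧ q = 3) ∨ (p = 2 ∧ q = 5 ∧ r = 5) ∨ (p = 2 ∧ q = 5 ∧ r = 7) ∨ (p = 3 ∧ q = 3 ∧ r ≤ 7))
    (x y z : Spor.M23) (hx : orderOf x = p) (hy : orderOf y = q) (hz : orderOf z = r) (hxyz : x * y * z = 1) :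
    Subgroup.closure {x, y} ≠ ⊤ := by
  intro htop
  haveI : Nonempty {a : GolayPt // a ≠ none} := ⟨⟨some 0, by simp⟩⟩
  have o : ∀ g, orderOf (restrict g) = orderOf g := fun g => orderOf_injective restrict restrict_injective g
  have h := Ree.ree (restrict x) (restrict y) (restrict z) (by rw [← map_mul, ← map_mul, hxyz, map_one]) fun a b => by
    obtain ⟨g, hg⟩ := transitive a b
    refine ⟨restrict g, ?_, hg⟩
    have : restrict g ∈ (Subgroup.closure {x, y}).map restrict := Subgroup.mem_map_of_mem _ (htop ▸ Subgroup.mem_top g)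
    rwa [MonoidHom.map_closure, Set.image_pair] at this
  rw [show Fintype.card {a : GolayPt // a ≠ none} = 23 by decide] at h
  obtain ⟨x0, x2, x3, -, -⟩ := orbit_bound x p hp hx (restrict x) (fun _ => rfl) ((o x).trans hx)
  obtain ⟨y0, -, y3, y5, -⟩ := orbit_bound y q hq hy (restrict y) (fun _ => rfl) ((o y).trans hy)
  obtain ⟨z0, -, z3, z5, z7⟩ := orbit_bound z r hr hz (restrict z) (fun _ => rfl) ((o z).trans hz)
  rcases hex with ⟨rfl, rfl⟩ | ⟨rfl, rfl, rfl⟩ | ⟨rfl, rfl, rfl⟩ | ⟨rfl, rfl, hr7⟩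
  · have := x2 rfl; have := y3 rfl; omega
  · have := x2 rfl; have := y5 rfl; have := z5 rfl; omega
  · have := x2 rfl; have := y5 rfl; have := z7 rfl; omega
  · have := x3 rfl; have := y3 rfl
    rcases (by omega : r = 3 ∨ r = 4 ∨ r = 5 ∨ r = 6 ∨ r = 7) with rfl | rfl | rfl | rfl | rfl
    · have := z3 rfl; omega
    · norm_num at hr
    · have := z5 rfl; omega
    · norm_num at hr
    · have := z7 rfl; omega

theorem allCases_ok : allCases.all caseOK = true := by decide +kernel

/-- The primes dividing the order. -/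
theorem prime_dvd_order {p : ℕ} (hp : p.Prime) (hd : p ∣ 10200960) :
    p = 2 ∨ p = 3 ∨ p = 5 ∨ p = 7 ∨ p = 11 ∨ p = 23 := by
  rw [show (10200960 : ℕ) = 2 ^ 7 * (3 ^ 2 * (5 * (7 * (11 * 23)))) by norm_num] at hd
  have key : ∀ q : ℕ, q.Prime → p ∣ q → p = q := fun q hq h => (Nat.prime_dvd_prime_iff_eq hp hq).mp h
  rcases hp.dvd_mul.mp hd with h | h
  · exact Or.inl (key 2 Nat.prime_two (hp.dvd_of_dvd_pow h))
  rcases hp.dvd_mul.mp h with h | h
  · exact Or.inr (Or.inl (key 3 Nat.prime_three (hp.dvd_of_dvd_pow h)))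
  rcases hp.dvd_mul.mp h with h | h
  · exact Or.inr (Or.inr (Or.inl (key 5 (by norm_num) h)))
  rcases hp.dvd_mul.mp h with h | h
  · exact Or.inr (Or.inr (Or.inr (Or.inl (key 7 (by norm_num) h))))
  rcases hp.dvd_mul.mp h with h | h
  · exact Or.inr (Or.inr (Or.inr (Or.inr (Or.inl (key 11 (by norm_num) h)))))
  · exact Or.inr (Or.inr (Or.inr (Or.inr (Or.inr (key 23 (by norm_num) h)))))

/-- The admissible triples, as a decidable check against the witnesses. -/
theorem covered : ∀ p ∈ [2, 3, 5, 7, 11, 23], ∀ q ∈ [2, 3, 5, 7, 11, 23], ∀ r ∈ [2, 3, 5, 7, 11, 23],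
    p ≤ q → q ≤ r → ¬ (p = 2 ∧ q = 2) →
    ¬ ((p = 2 ∧ q = 3) ∨ (p = 2 ∧ q = 5 ∧ r = 5) ∨ (p = 2 ∧ q = 5 ∧ r = 7) ∨ (p = 3 ∧ q = 3 ∧ r ≤ 7)) →
    (allCases.map fun c => (c.p, c.q, c.r)).contains (p, q, r) = true := by decide +kernel

theorem triples (p q r : ℕ) (hp : p.Prime) (hq : q.Prime)
    (hr : r.Prime) (hpq : p ≤ q) (hqr : q ≤ r) (hp2 : ¬ (p = 2 ∧ q = 2))
    (hdvd : p ∣ 10200960 ∧ q ∣ 10200960 ∧ r ∣ 10200960) :
    (∃ x y z : Spor.M23, orderOf x = p ∧ orderOf y = q ∧ orderOf z = r ∧ x * y * z = 1 ∧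
        Subgroup.closure {x, y} = ⊤) ↔
      ¬ ((p = 2 ∧ q = 3) ∨ (p = 2 ∧ q = 5 ∧ r = 5) ∨ (p = 2 ∧ q = 5 ∧ r = 7) ∨ (p = 3 ∧ q = 3 ∧ r ≤ 7)) := by
  constructor
  · rintro ⟨x, y, z, hx, hy, hz, hxyz, htop⟩ hex
    exact not_generate hp hq hr hqr hex x y z hx hy hz hxyz htop
  · intro hex
    have hm : ∀ n : ℕ, n.Prime → n ∣ 10200960 → n ∈ [2, 3, 5, 7, 11, 23] := fun n hn hd => by
      simpa using prime_dvd_order hn hd
    have := covered p (hm p hp hdvd.1) q (hm q hq hdvd.2.1) r (hm r hr hdvd.2.2) hpq hqr hp2 hex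
    rw [List.contains_iff_mem, List.mem_map] at this
    obtain ⟨c, hc, e⟩ := this
    obtain ⟨rfl, rfl, rfl⟩ : c.p = p ∧ c.q = q ∧ c.r = r := by simpa using e
    exact witness (List.all_eq_true.mp allCases_ok c hc)

end Cfsg.Lib.M23Triples
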