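import Cfsg.Prelude.Def_AxialAlgebras
import Mathlib

/-!
Two commuting Majorana involutions: the axes span an algebra of type 2B or 2A.
-/

set_option autoImplicit false

namespace Cfsg.Lib.MajoranaCommuting

open Cfsg.Axial

variable {V : Type*} [AddCommGroup V] [Module ℝ V]

theorem mem_eigen {mul : V →ₗ[ℝ] V →ₗ[ℝ] V} {a v : V} {c : ℝ} : v ∈ eigen mul a c ↔ mul a v = c • v :=
  Module.End.mem_eigenspace_iff

theorem eigenSum_pair {mul : V →ₗ[ℝ] V →ₗ[ℝ] V} {a v : V} (h : v ∈ eigenSum mul a ({1, 0} : Set ℝ)) :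
    mul a (mul a v) = mul a v := by
  rw [eigenSum, iSup_insert, iSup_singleton, Submodule.mem_sup] at h
  obtain ⟨p, hp, q, hq, rfl⟩ := h
  rw [mem_eigen] at hp hq
  simp [map_add, hp, hq]

/-- An automorphism carries an axis of a commuting involution to an axis. -/
theorem pair_map {mul : V →ₗ[ℝ] V →ₗ[ℝ] V} {B : LinearMap.BilinForm ℝ V} {μ ν : V ≃ₗ[ℝ] V} {a : V}
    (h : IsMajoranaPair mul B μ a) (hν : ∀ u v, ν (mul u v) = mul (ν u) (ν v)) (hc : ∀ v, μ (ν v) = ν (μ v)) :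
    IsMajoranaPair mul B μ (ν a) := by
  obtain ⟨h1, h2, ⟨⟨hne, hid, htop, hfus⟩, hprim⟩, hfix, hneg⟩ := h
  have heig : ∀ c, eigen mul (ν a) c = (eigen mul a c).map (ν : V →ₗ[ℝ] V) := by
    intro c
    ext v
    rw [Submodule.mem_map, mem_eigen]
    constructor
    · intro hv
      refine ⟨ν.symm v, mem_eigen.mpr (ν.injective ?_), ν.apply_symm_apply v⟩
      rw [hν, map_smul, ν.apply_symm_apply, hv]
    · rintro ⟨u, hu, rfl⟩
      show mul (ν a) (ν u) = c • ν u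
      rw [← hν, mem_eigen.mp hu, map_smul]
  have hsum : ∀ S, eigenSum mul (ν a) S = (eigenSum mul a S).map (ν : V →ₗ[ℝ] V) := by
    intro S
    simp only [eigenSum, Submodule.map_iSup, heig]
  refine ⟨h1, h2, ⟨⟨fun e => hne (ν.injective (by rw [e, map_zero])), by rw [← hν, hid], ?_, ?_⟩, ?_⟩, ?_, ?_⟩
  · rw [hsum, htop, Submodule.map_top, LinearMap.range_eq_top]; exact ν.surjective
  · intro c hc' d hd u hu v hv
    rw [heig] at hu hv
    obtain ⟨u', hu', rfl⟩ := Submodule.mem_map.mp hu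
    obtain ⟨v', hv', rfl⟩ := Submodule.mem_map.mp hv
    rw [hsum]
    exact ⟨mul u' v', hfus c hc' d hd u' hu' v' hv', hν u' v'⟩
  · rw [heig, hprim, Submodule.map_span, Set.image_singleton]; rfl
  · intro v hv
    rw [hsum] at hv
    obtain ⟨u, hu, rfl⟩ := Submodule.mem_map.mp hv
    show μ (ν u) = ν u
    rw [hc, show μ u = u from hfix u hu]
  · intro v hv
    rw [heig] at hv
    obtain ⟨u, hu, rfl⟩ := Submodule.mem_map.mp hv
    show μ (ν u) = -ν u
    rw [hc, show μ u = -u from hneg u hu, map_neg]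

/-- The decomposition of a vector fixed by the involution. -/
theorem decomp {mul : V →ₗ[ℝ] V →ₗ[ℝ] V} {B : LinearMap.BilinForm ℝ V} (hV : IsMajoranaAmbient mul B)
    {μ : V ≃ₗ[ℝ] V} {a : V} (h : IsMajoranaPair mul B μ a) (hn : B a a = 1) {v : V} (hv : μ v = v) :
    ∃ z q : V, mul a z = 0 ∧ mul a q = (1 / 4 : ℝ) • q ∧ v = B a v • a + z + q := by
  obtain ⟨hcomm, hsymm, -, hassoc, -⟩ := hV
  obtain ⟨-, -, ⟨⟨-, hid, htop, -⟩, hprim⟩, hfix, hneg⟩ := h
  have hmem : v ∈ eigenSum mul a majoranaSpectrum := htop.symm ▸ Submodule.mem_top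
  rw [eigenSum, majoranaSpectrum, iSup_insert, iSup_insert, iSup_insert, iSup_singleton, Submodule.mem_sup] at hmem
  obtain ⟨p, hp, r, hr, rfl⟩ := hmem
  rw [Submodule.mem_sup] at hr
  obtain ⟨z, hz, s, hs, rfl⟩ := hr
  rw [Submodule.mem_sup] at hs
  obtain ⟨q, hq, w, hw, rfl⟩ := hs
  have hS : ∀ c ∈ ({1, 0, 1 / 4} : Set ℝ), ∀ u ∈ eigen mul a c, μ u = u := fun c hc u hu =>
    hfix u (le_iSup₂ (f := fun c (_ : c ∈ ({1, 0, 1 / 4} : Set ℝ)) => eigen mul a c) c hc hu)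
  have hw' : μ w = -w := hneg w hw
  have hw0 : w = 0 := by
    simp only [map_add, hS 1 (by simp) p hp, hS 0 (by simp) z hz, hS (1 / 4) (by simp) q hq, hw'] at hv
    have : (2 : ℝ) • w = 0 := by linear_combination (norm := module) -hv
    exact (smul_eq_zero.mp this).resolve_left (by norm_num)
  subst hw0
  rw [hprim, Submodule.mem_span_singleton] at hp
  obtain ⟨c, rfl⟩ := hp
  rw [mem_eigen] at hz hq
  rw [zero_smul] at hz
  have horth : ∀ (u : V) (e : ℝ), mul a u = e • u → e ≠ 1 → B a u = 0 := fun u e hu he => by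
    have h := hassoc a a u
    rw [hu, hid, map_smul, smul_eq_mul] at h
    rcases mul_eq_zero.mp (show (e - 1) * B a u = 0 by linarith) with h | h
    · exact absurd (by linarith) he
    · exact h
  refine ⟨z, q, hz, hq, ?_⟩
  have e : B a (c • a + (z + (q + 0))) = c := by
    simp [map_add, hn, horth z 0 (by rw [hz, zero_smul]) (by norm_num), horth q _ hq (by norm_num)]
  rw [e]; module

theorem main {mul : V →ₗ[ℝ] V →ₗ[ℝ] V} {B : LinearMap.BilinForm ℝ V} (hV : IsMajoranaAmbient mul B)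
    {μ₀ μ₁ : V ≃ₗ[ℝ] V} {a₀ a₁ : V} (h₀ : IsMajoranaPair mul B μ₀ a₀) (h₁ : IsMajoranaPair mul B μ₁ a₁)
    (hu₀ : ∀ a : V, IsMajoranaPair mul B μ₀ a → a = a₀) (hu₁ : ∀ a : V, IsMajoranaPair mul B μ₁ a → a = a₁)
    (hn₀ : B a₀ a₀ = 1) (hn₁ : B a₁ a₁ = 1) (hc : μ₀ * μ₁ = μ₁ * μ₀) (hne : a₀ ≠ a₁) :
    (B a₀ a₁ = 0 ∧ mul a₀ a₁ = 0) ∨ (B a₀ a₁ = 1 / 8 ∧ mul (a₀ + a₁ - (8 : ℝ) • mul a₀ a₁) (a₀ + a₁ - (8 : ℝ) • mul a₀ a₁) = a₀ + a₁ - (8 : ℝ) • mul a₀ a₁ ∧ mul a₀ (a₀ + a₁ - (8 : ℝ) • mul a₀ a₁) = (1 / 8 : ℝ) • (a₀ + (a₀ + a₁ - (8 : ℝ) • mul a₀ a₁) - a₁) ∧ mul a₁ (a₀ + a₁ - (8 : ℝ) • mul a₀ a₁) = (1 / 8 : ℝ) • (a₁ + (a₀ + a₁ - (8 : ℝ) • mul a₀ a₁) - a₀)) := by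
  obtain ⟨hcomm, hsymm, hpos, hassoc, hnorton⟩ := id hV
  have hc' : ∀ v, μ₀ (μ₁ v) = μ₁ (μ₀ v) := fun v => congrFun (congrArg (fun f : V ≃ₗ[ℝ] V => (f : V → V)) hc) v
  have f0 : μ₁ a₀ = a₀ := hu₀ _ (pair_map h₀ h₁.1 hc')
  have f1 : μ₀ a₁ = a₁ := hu₁ _ (pair_map h₁ h₀.1 fun v => (hc' v).symm)
  obtain ⟨z, q, hz, hq, he⟩ := decomp hV h₀ hn₀ f1
  obtain ⟨z', q', hz', hq', he'⟩ := decomp hV h₁ hn₁ f0
  set γ := B a₀ a₁ with hγ
  rw [hsymm a₁ a₀] at he'
  obtain ⟨-, -, ⟨⟨-, id0, -, hfus⟩, hprim⟩, -⟩ := id h₀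
  obtain ⟨-, -, ⟨⟨-, id1, -, -⟩, hprim1⟩, -⟩ := id h₁
  have e01 : mul a₀ a₁ = γ • a₀ + (1 / 4 : ℝ) • q := by
    conv_lhs => rw [he]
    simp only [map_add, map_smul, id0, hz, hq, add_zero]
  by_cases hq0 : q = 0
  · -- the axes are orthogonal
    left
    subst hq0
    rw [smul_zero, add_zero] at e01
    by_cases hγ0 : γ = 0
    · exact ⟨hγ0, by rw [e01, hγ0, zero_smul]⟩
    exfalso
    have hev : mul a₁ a₀ = γ • a₀ := by rw [hcomm, e01]
    have h' := congrArg (mul a₁) he'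
    simp only [map_add, map_smul, id1, hz', hq', add_zero, hev] at h'
    have hB : B a₁ (γ • a₀) = γ := by
      rw [← hev, hassoc, id1, hsymm]
    rw [map_smul, smul_eq_mul, hsymm a₁ a₀, ← hγ] at hB
    have hg1 : γ = 1 := by
      have : γ * (γ - 1) = 0 := by linarith
      rcases mul_eq_zero.mp this with h | h
      · exact absurd h hγ0
      · linarith
    rw [hg1, one_smul] at hev
    have : a₀ ∈ eigen mul a₁ 1 := mem_eigen.mpr (by rw [hev, one_smul])
    rw [hprim1, Submodule.mem_span_singleton] at this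
    obtain ⟨c, hcc⟩ := this
    have hBc : B a₁ a₀ = c := by rw [← hcc, map_smul, smul_eq_mul, hn₁, mul_one]
    rw [hsymm, ← hγ, hg1] at hBc
    rw [← hBc, one_smul] at hcc
    exact hne hcc.symm
  right
  have mem4 : (1 / 4 : ℝ) ∈ majoranaSpectrum := by simp [majoranaSpectrum]
  have mem0 : (0 : ℝ) ∈ majoranaSpectrum := by simp [majoranaSpectrum]
  have hzm : z ∈ eigen mul a₀ 0 := mem_eigen.mpr (by rw [hz, zero_smul])
  have hqm : q ∈ eigen mul a₀ (1 / 4) := mem_eigen.mpr hq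
  have hzz : mul a₀ (mul z z) = 0 := by
    have h := hfus _ mem0 _ mem0 _ hzm _ hzm
    rw [show monsterLaw (1 / 4 : ℝ) (1 / 32) 0 0 = {0} by norm_num [monsterLaw], eigenSum, iSup_singleton, mem_eigen,
      zero_smul] at h
    exact h
  have hzq : mul a₀ (mul z q) = (1 / 4 : ℝ) • mul z q := by
    have h := hfus _ mem0 _ mem4 _ hzm _ hqm
    rw [show monsterLaw (1 / 4 : ℝ) (1 / 32) 0 (1 / 4) = {1 / 4} by norm_num [monsterLaw], eigenSum, iSup_singleton,
      mem_eigen] at h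
    exact h
  have hqq : mul a₀ (mul a₀ (mul q q)) = mul a₀ (mul q q) := by
    have h := hfus _ mem4 _ mem4 _ hqm _ hqm
    rw [show monsterLaw (1 / 4 : ℝ) (1 / 32) (1 / 4) (1 / 4) = {1, 0} by norm_num [monsterLaw]] at h
    exact eigenSum_pair h
  -- the idempotent a₁
  have hsq : a₁ = (γ * γ) • a₀ + mul z z + mul q q + (2 : ℝ) • mul z q + (γ / 2) • q := by
    conv_lhs => rw [← id1, he]
    simp only [map_add, map_smul, LinearMap.add_apply, LinearMap.smul_apply, id0, hz, hq, hcomm z a₀, hcomm q a₀,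
      hcomm q z, smul_zero]
    module
  have hzqe : mul z q = (1 / 2 - γ / 4) • q := by
    have h1 := congrArg (fun v => mul a₀ (mul a₀ v) - mul a₀ v) (he.symm.trans hsq)
    simp only [map_add, map_smul, id0, hz, hq, hzz, hzq, hqq, map_zero] at h1
    have : (-3 / 8 : ℝ) • (mul z q - (1 / 2 - γ / 4) • q) = 0 := by linear_combination (norm := module) -h1
    exact sub_eq_zero.mp ((smul_eq_zero.mp this).resolve_left (by norm_num))
  have e2 : mul q q = (γ - γ * γ) • a₀ + z - mul z z := by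
    rw [hzqe] at hsq
    linear_combination (norm := module) he - hsq
  have e1q : mul a₁ q = (1 / 2 : ℝ) • q + mul q q := by
    rw [he]
    simp only [map_add, map_smul, LinearMap.add_apply, LinearMap.smul_apply, hq, hzqe]
    module
  -- the decomposition for a₁
  have e10 : mul a₁ a₀ = γ • a₀ + (1 / 4 : ℝ) • q := by rw [hcomm]; exact e01
  have key : mul a₁ (mul a₁ a₀) = (3 * γ / 4) • a₁ + (1 / 4 : ℝ) • mul a₁ a₀ := by
    conv_lhs => rw [he']
    conv_rhs => rw [he']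
    simp only [map_add, map_smul, id1, hz', hq', add_zero, map_zero]
    module
  rw [e10, map_add, map_smul, map_smul, e10, e1q] at key
  have e3 : mul q q = (γ - γ * γ) • a₀ + (3 * γ) • z + (2 * γ - 1 / 4) • q := by
    conv_rhs at key => rw [he]
    linear_combination (norm := module) (4 : ℝ) • key
  have hγ8 : γ = 1 / 8 := by
    have h := hqq
    rw [e3] at h
    simp only [map_add, map_smul, id0, hz, hq, map_zero] at h
    have : (-3 / 16 * (2 * γ - 1 / 4)) • q = (0 : V) := by linear_combination (norm := module) h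
    rcases smul_eq_zero.mp this with h | h
    · linarith
    · exact absurd h hq0
  have ezz : mul z z = (5 / 8 : ℝ) • z := by
    rw [hγ8] at e3 e2
    linear_combination (norm := module) e2 - e3
  have hqq' : mul q q = (7 / 64 : ℝ) • a₀ + (3 / 8 : ℝ) • z := by
    rw [e3, hγ8]; module
  have hρ : a₀ + a₁ - (8 : ℝ) • mul a₀ a₁ = (1 / 8 : ℝ) • a₀ + z - q := by
    rw [e01, he, hγ8]; module
  refine ⟨hγ8, ?_, ?_, ?_⟩
  · rw [hρ]
    simp only [map_add, map_sub, map_smul, LinearMap.add_apply, LinearMap.sub_apply, LinearMap.smul_apply, id0, hz, hq,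
      hcomm z a₀, hcomm q a₀, hcomm q z, ezz, hzqe, hqq', hγ8]
    module
  · rw [hρ, he, hγ8]
    simp only [map_add, map_sub, map_smul, id0, hz, hq]
    module
  · rw [hρ]
    simp only [map_add, map_sub, map_smul, e10, e1q, hqq']
    have e1z : mul a₁ z = mul z z + mul z q := by
      rw [he]
      simp only [map_add, map_smul, LinearMap.add_apply, LinearMap.smul_apply, hz, hcomm q z]
      module
    rw [e1z, ezz, hzqe, he, hγ8]
    module

end Cfsg.Lib.MajoranaCommuting
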