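import Cfsg.Agent.SolvStruct.Basics
import Cfsg.Agent.Coprime.Hall
import Mathlib

/-!
Primitive groups which are not almost simple and have a single class of derangements are sharply
2-transitive; the converse holds too.
-/

set_option autoImplicit false

namespace Cfsg.Lib.OneDerangementClass

open MulAction Subgroup

theorem exists_ne_one {G : Type*} [Group G] {S : Subgroup G} (h : S ≠ ⊥) : ∃ x ∈ S, x ≠ 1 := by
  by_contra hc
  exact h ((Subgroup.eq_bot_iff_forall _).2 fun x hx => by_contra fun hx1 => hc ⟨x, hx, hx1⟩)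

variable {G Ω : Type*} [Group G] [Finite G] [MulAction G Ω] [FaithfulSMul G Ω] [Finite Ω]

omit [Finite Ω] [FaithfulSMul G Ω] [MulAction G Ω] in
theorem pgroup_of_order {S : Subgroup G} (hne : S ≠ ⊥)
    (h : ∀ x ∈ S, ∀ y ∈ S, x ≠ 1 → y ≠ 1 → orderOf x = orderOf y) :
    ∃ p, p.Prime ∧ IsPGroup p S := by
  obtain ⟨x, hx, hx1⟩ := exists_ne_one hne
  set o := orderOf x
  obtain ⟨p, hp, hpo⟩ := Nat.exists_prime_and_dvd (mt orderOf_eq_one_iff.mp hx1 : o ≠ 1)
  haveI := Fact.mk hp
  have hy : orderOf (x ^ (o / p)) = p := orderOf_pow_orderOf_div (orderOf_pos x).ne' hpo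
  refine ⟨p, hp, fun z => ⟨1, ?_⟩⟩
  by_cases hz : (z : G) = 1
  · rw [Subtype.ext hz (a2 := (1 : S)), one_pow]
  refine Subtype.ext ?_
  have e := h z z.2 _ (pow_mem hx (o / p)) hz (fun e => hp.ne_one (by rw [← hy, e, orderOf_one]))
  rw [SubmonoidClass.coe_pow, pow_one, OneMemClass.coe_one, ← hy, ← e]
  exact pow_orderOf_eq_one _

omit [Finite Ω] in
theorem semiregular_of_centralised {N C : Subgroup G} (hC : IsPretransitive C Ω)
    (hcomm : ∀ n ∈ N, ∀ c ∈ C, c * n = n * c) {n : G} (hn : n ∈ N) {a : Ω} (h : n • a = a) : n = 1 :=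
  FaithfulSMul.eq_of_smul_eq_smul (α := Ω) fun b => by
    haveI := hC
    obtain ⟨c, rfl⟩ := exists_smul_eq C a b
    show n • (c : G) • a = (1 : G) • (c : G) • a
    rw [one_smul, ← mul_smul, ← hcomm n hn c c.2, mul_smul, h]

theorem forward (hΩ : Nontrivial Ω) (hprim : IsPreprimitive G Ω)
    (hnas : ¬ ∃ T : Subgroup G, T.Normal ∧ IsSimpleGroup T ∧ ¬ IsMulCommutative T ∧ Subgroup.centralizer (T : Set G) = ⊥)
    (hconj : ∀ g h : G, (∀ ω : Ω, g • ω ≠ ω) → (∀ ω : Ω, h • ω ≠ ω) → IsConj g h) :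
    IsMultiplyPretransitive G Ω 2 ∧ ∀ g : G, g ≠ 1 → ∀ a b : Ω, a ≠ b → g • a = a → g • b ≠ b := by
  classical
  haveI := hprim
  haveI := hΩ
  have horder : ∀ g h : G, (∀ ω : Ω, g • ω ≠ ω) → (∀ ω : Ω, h • ω ≠ ω) → orderOf g = orderOf h := fun g h hg hh => by
    obtain ⟨c, rfl⟩ := isConj_iff.mp (hconj g h hg hh)
    exact (MulEquiv.orderOf_eq (MulAut.conj c) g).symm
  have htransN : ∀ N : Subgroup G, N.Normal → N ≠ ⊥ → IsPretransitive N Ω := fun N hN hne => by
    haveI := hN
    refine IsQuasiPreprimitive.isPretransitive_of_normal (G := G) fun h => hne ((Subgroup.eq_bot_iff_forall _).2 fun g hg =>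
      FaithfulSMul.eq_of_smul_eq_smul (α := Ω) fun x => ?_)
    have hx : x ∈ fixedPoints N Ω := by rw [h]; exact Set.mem_univ x
    rw [one_smul]
    exact hx ⟨g, hg⟩
  have hnt : ∃ g : G, g ≠ 1 := by
    obtain ⟨a, b, hab⟩ := exists_pair_ne Ω
    obtain ⟨g, hg⟩ := exists_smul_eq G a b
    exact ⟨g, fun e => hab (by rw [← hg, e, one_smul])⟩
  haveI : Nontrivial G := let ⟨g, hg⟩ := hnt; ⟨⟨g, 1, hg⟩⟩
  obtain ⟨N, -, hN, hNb, hmin⟩ := Cfsg.Lib.Coprime.exists_minimal_normal (G := G) (K := ⊤) inferInstance top_ne_bot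
  haveI := hN
  haveI hNt := htransN N hN hNb
  by_cases hab : IsMulCommutative N
  · -- abelian socle
    have hcomm : ∀ n ∈ N, ∀ c ∈ N, c * n = n * c := fun n hn c hc =>
      congrArg Subtype.val (hab.is_comm.comm (⟨c, hc⟩ : N) ⟨n, hn⟩)
    have hsemi : ∀ n ∈ N, ∀ a : Ω, n • a = a → n = 1 := fun n hn a h => semiregular_of_centralised hNt hcomm hn h
    obtain ⟨n0, hn0, hn01⟩ := exists_ne_one hNb
    have hder : ∀ d : G, (∀ ω : Ω, d • ω ≠ ω) → d ∈ N := fun d hd => by
      obtain ⟨c, rfl⟩ := isConj_iff.mp (hconj n0 d (fun ω h => hn01 (hsemi n0 hn0 ω h)) hd)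
      exact hN.conj_mem n0 hn0 c
    have hfree : ∀ g : G, g ≠ 1 → ∀ a b : Ω, a ≠ b → g • a = a → g • b ≠ b := by
      intro h h1 a b hne ha hb
      obtain ⟨⟨m, hm⟩, hmb⟩ := exists_smul_eq N a b
      change m • a = b at hmb
      let φ : N → N := fun n => n * ⟨h * (n : G) * h⁻¹, hN.conj_mem n n.2 h⟩⁻¹
      have hfix : h * m * h⁻¹ = m := by
        have h2 : (m⁻¹ * (h * m * h⁻¹)) • a = a := by
          rw [mul_smul, inv_smul_eq_iff, mul_smul, mul_smul, inv_smul_eq_iff.mpr ha.symm, hmb, hb]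
        exact (inv_mul_eq_one.mp (hsemi _ (mul_mem (inv_mem hm) (hN.conj_mem m hm h)) a h2)).symm
      have hm1 : (⟨m, hm⟩ : N) ≠ 1 := fun e => hne (by
        rw [← hmb, show m = 1 from congrArg Subtype.val e, one_smul])
      have hni : ¬ Function.Injective φ := fun hi => hm1 (hi (by
        apply Subtype.ext
        simp [φ, hfix]))
      have hns : ¬ Function.Surjective φ := fun hs => hni (Finite.injective_iff_surjective.mpr hs)
      simp only [Function.Surjective, not_forall, not_exists] at hns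
      obtain ⟨t, ht⟩ := hns
      have hd : ∀ ω : Ω, ((t : G) * h) • ω ≠ ω := by
        intro ω hω
        obtain ⟨n, rfl⟩ := exists_smul_eq N a ω
        change ((t : G) * h) • (n : G) • a = (n : G) • a at hω
        have e2 : ((t : G) * (h * (n : G) * h⁻¹)) • a = (n : G) • a := by
          refine Eq.trans ?_ hω
          simp only [mul_smul, inv_smul_eq_iff.mpr ha.symm]
        have h3 : (n : G)⁻¹ * ((t : G) * (h * (n : G) * h⁻¹)) = 1 :=
          hsemi _ (mul_mem (inv_mem n.2) (mul_mem t.2 (hN.conj_mem n n.2 h))) a (by rw [mul_smul, e2, inv_smul_smul])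
        refine ht n (Subtype.ext ?_)
        show (n : G) * (h * (n : G) * h⁻¹)⁻¹ = t
        rw [mul_inv_eq_iff_eq_mul]; exact inv_mul_eq_one.mp h3
      have hhN : h ∈ N := by simpa using mul_mem (inv_mem t.2) (hder _ hd)
      exact h1 (hsemi h hhN a ha)
    refine ⟨is_two_pretransitive_iff.mpr fun {a b c d} hab' hcd => ?_, hfree⟩
    obtain ⟨k, hk⟩ := exists_smul_eq G a c
    obtain ⟨⟨u, hu⟩, hub⟩ := exists_smul_eq N c (k • b)
    obtain ⟨⟨v, hv⟩, hvd⟩ := exists_smul_eq N c d
    change u • c = k • b at hub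
    change v • c = d at hvd
    have hu1 : u ≠ 1 := fun e => by
      rw [e, one_smul, ← hk] at hub
      exact hab' (smul_left_cancel k hub)
    have hv1 : v ≠ 1 := fun e => hcd (by rw [← hvd, e, one_smul])
    obtain ⟨g, hg⟩ := isConj_iff.mp (hconj u v (fun ω h => hu1 (hsemi u hu ω h)) (fun ω h => hv1 (hsemi v hv ω h)))
    obtain ⟨⟨m, hm⟩, hmc⟩ := exists_smul_eq N c (g • c)
    change m • c = g • c at hmc
    refine ⟨m⁻¹ * g * k, ?_, ?_⟩
    · rw [mul_smul, hk, mul_smul, ← hmc, inv_smul_smul]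
    · rw [mul_smul, ← hub, mul_smul, ← mul_smul g u c, show g * u = v * g by rw [← hg]; group, mul_smul, ← hmc,
        ← mul_smul v m c, hcomm m hm v hv, mul_smul, inv_smul_smul, hvd]
  -- non-abelian socle
  exfalso
  have hcenter : center N = ⊥ := by
    rcases hmin ((center N).map N.subtype) inferInstance (map_subtype_le _) with h | h
    · exact (map_eq_bot_iff_of_injective _ N.subtype_injective).mp h
    · refine absurd ⟨⟨fun x y => ?_⟩⟩ hab
      have hx : (x : G) ∈ (center N).map N.subtype := h.symm ▸ x.2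
      obtain ⟨x', hx', e⟩ := hx
      rw [← Subtype.ext e (a2 := x)]
      exact (mem_center_iff.mp hx' y).symm
  by_cases hC : centralizer (N : Set G) = ⊥
  swap
  · haveI : (centralizer (N : Set G)).Normal := inferInstance
    have hsemi : ∀ n ∈ N, ∀ a : Ω, n • a = a → n = 1 := fun n hn a h =>
      semiregular_of_centralised (htransN _ inferInstance hC) (fun n hn c hc => (mem_centralizer_iff.mp hc n hn).symm) hn h
    obtain ⟨p, hp, hpN⟩ := pgroup_of_order hNb fun x hx y hy hx1 hy1 =>
      horder x y (fun ω h => hx1 (hsemi x hx ω h)) (fun ω h => hy1 (hsemi y hy ω h))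
    haveI := Fact.mk hp
    haveI : Nontrivial N := (nontrivial_iff_ne_bot N).mpr hNb
    exact (nontrivial_iff_ne_bot _).mp hpN.center_nontrivial hcenter
  haveI : Nontrivial N := (nontrivial_iff_ne_bot N).mpr hNb
  obtain ⟨T, -, hT, hTb, hTmin⟩ := Cfsg.Lib.Coprime.exists_minimal_normal (G := N) (K := ⊤) inferInstance top_ne_bot
  haveI := hT
  set C := centralizer (T : Set N) with hCdef
  haveI hCn : C.Normal := inferInstance
  -- conjugates of T
  let cj : G → N → N := fun g x => ⟨g * (x : G) * g⁻¹, hN.conj_mem x x.2 g⟩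
  have hcjT : ∀ g : G, (∀ x ∈ T, cj g x ∈ T) ∨ ∀ x ∈ T, cj g x ∈ C := by
    intro g
    let φ : N →* N := (MulAut.conjNormal g).toMonoidHom
    have hφ : ∀ x, φ x = cj g x := fun x => Subtype.ext (MulAut.conjNormal_apply g x)
    have hsurj : Function.Surjective φ := (MulAut.conjNormal g).surjective
    haveI hT' : (T.map φ).Normal := hT.map φ hsurj
    rcases hTmin (T ⊓ T.map φ) inferInstance inf_le_left with h | h
    · refine Or.inr fun x hx => mem_centralizer_iff.mpr fun y hy => ?_
      exact commute_of_normal_of_disjoint T (T.map φ) hT hT' (disjoint_iff.mpr h) y _ hy ⟨x, hx, hφ x⟩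
    · have heq : T = T.map φ := eq_of_le_of_card_ge (inf_eq_left.mp h)
        (Nat.le_of_eq (Nat.card_congr (T.equivMapOfInjective φ (MulAut.conjNormal g).injective).toEquiv).symm)
      exact Or.inl fun x hx => heq.symm.le ⟨x, hx, hφ x⟩
  have hTC : T ⊔ C = ⊤ := by
    let K := (T ⊔ C).map N.subtype
    let L := normalClosure ((T.map N.subtype : Subgroup G) : Set G)
    have hLK : L ≤ K := (closure_le K).mpr fun y hy => by
      obtain ⟨_, ⟨x, hx, rfl⟩, hcy⟩ := Group.mem_conjugatesOfSet_iff.mp hy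
      obtain ⟨c, rfl⟩ := isConj_iff.mp hcy
      rcases hcjT c with h | h
      · exact ⟨_, mem_sup_left (h x hx), rfl⟩
      · exact ⟨_, mem_sup_right (h x hx), rfl⟩
    rcases hmin L normalClosure_normal (hLK.trans (map_subtype_le _)) with h | h
    · exfalso
      refine hTb ((Subgroup.eq_bot_iff_forall _).2 fun x hx => Subtype.ext ?_)
      exact mem_bot.mp (h ▸ subset_normalClosure ⟨x, hx, rfl⟩)
    · refine (Subgroup.eq_top_iff' _).mpr fun x => ?_
      obtain ⟨y, hy, e⟩ := hLK (h.symm ▸ x.2 : (x : G) ∈ L)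
      exact Subtype.ext (show (y : G) = x from e) ▸ hy
  have hTiC : T ⊓ C = ⊥ := by
    rcases hTmin (T ⊓ C) inferInstance inf_le_left with h | h
    · exact h
    · exfalso
      have hle : T ≤ C := inf_eq_left.mp h
      have : T ≤ center N := fun x hx => by
        refine mem_center_iff.mpr fun y => ?_
        have hy : y ∈ T ⊔ C := hTC ▸ mem_top y
        rw [← SetLike.mem_coe, mul_normal] at hy
        obtain ⟨t, ht, c, hc, rfl⟩ := hy
        have e1 : t * x = x * t := mem_centralizer_iff.mp (hle hx) t ht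
        have e2 : c * x = x * c := (mem_centralizer_iff.mp hc x hx).symm
        rw [mul_assoc, e2, ← mul_assoc, e1, mul_assoc]
      rw [hcenter, le_bot_iff] at this
      exact hTb this
  have hCb : C ≠ ⊥ := fun h => hnas ⟨N, hN, ⟨fun M hM => by
    rw [h, sup_bot_eq] at hTC
    have := hTmin M hM (hTC ▸ le_top)
    rwa [hTC] at this⟩, hab, hC⟩
  obtain ⟨a⟩ : Nonempty Ω := inferInstance
  set M0 := stabilizer N a with hM0
  by_cases hS : M0 ⊔ C = ⊤
  · -- T is semiregular
    have hTi : T ⊓ M0 = ⊥ := by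
      haveI : (T ⊓ M0).Normal := ⟨fun x hx y => by
        have hy : y ∈ M0 ⊔ C := hS ▸ mem_top y
        rw [← SetLike.mem_coe, mul_normal] at hy
        obtain ⟨m, hm, c, hc, rfl⟩ := hy
        have e : c * x * c⁻¹ = x := by rw [← mem_centralizer_iff.mp hc x hx.1]; group
        rw [show m * c * x * (m * c)⁻¹ = m * (c * x * c⁻¹) * m⁻¹ by group, e]
        exact ⟨hT.conj_mem x hx.1 m, M0.mul_mem (M0.mul_mem hm hx.2) (M0.inv_mem hm)⟩⟩
      rcases hTmin (T ⊓ M0) inferInstance inf_le_left with h | h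
      · exact h
      · exfalso
        refine hTb ((Subgroup.eq_bot_iff_forall _).2 fun x hx => Subtype.ext (FaithfulSMul.eq_of_smul_eq_smul (α := Ω) fun b => ?_))
        obtain ⟨n, rfl⟩ := exists_smul_eq N a b
        have h1 : (n⁻¹ * x * n) • a = a := inf_eq_left.mp h (by simpa using hT.conj_mem x hx n⁻¹)
        rw [mul_smul, mul_smul, inv_smul_eq_iff] at h1
        show (x : G) • n • a = (1 : G) • n • a
        rw [one_smul]; exact h1
    have hsemi : ∀ x ∈ T, ∀ b : Ω, x • b = b → x = 1 := by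
      intro x hx b hb
      obtain ⟨n, rfl⟩ := exists_smul_eq N a b
      have h1 : n⁻¹ * x * n ∈ T ⊓ M0 := ⟨by simpa using hT.conj_mem x hx n⁻¹, by
        show (n⁻¹ * x * n) • a = a
        rw [mul_smul, mul_smul, hb, inv_smul_smul]⟩
      rw [hTi, mem_bot] at h1
      calc x = n * (n⁻¹ * x * n) * n⁻¹ := by group
        _ = 1 := by rw [h1]; group
    obtain ⟨p, hp, hpT⟩ := pgroup_of_order hTb fun x hx y hy hx1 hy1 => by
      rw [← Subgroup.orderOf_coe, ← Subgroup.orderOf_coe]
      exact horder (x : G) (y : G) (fun ω h => hx1 (hsemi x hx ω h)) (fun ω h => hy1 (hsemi y hy ω h))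
    haveI := Fact.mk hp
    haveI : Nontrivial T := (nontrivial_iff_ne_bot T).mpr hTb
    refine (nontrivial_iff_ne_bot _).mp hpT.center_nontrivial ((Subgroup.eq_bot_iff_forall _).2 fun z hz => ?_)
    have : (z : N) ∈ T ⊓ C := ⟨z.2, mem_centralizer_iff.mpr fun y hy => congrArg Subtype.val (mem_center_iff.mp hz ⟨y, hy⟩)⟩
    rw [hTiC, mem_bot] at this
    exact Subtype.ext this
  · -- T has elements outside all conjugates of the point stabiliser times C
    obtain ⟨w, hw⟩ := Cfsg.Lib.SolvStruct.exists_not_mem_conj (M0 ⊔ C) hS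
    have hwTC : w ∈ T ⊔ C := hTC ▸ mem_top w
    rw [← SetLike.mem_coe, mul_normal] at hwTC
    obtain ⟨t, ht, c0, hc0, rfl⟩ := hwTC
    have hd : ∀ c ∈ C, ∀ ω : Ω, ((t * c : N) : G) • ω ≠ ω := by
      intro c hc ω h
      obtain ⟨n, rfl⟩ := exists_smul_eq N a ω
      refine hw n ?_
      have h1 : n⁻¹ * (t * c) * n ∈ M0 := by
        show (n⁻¹ * (t * c) * n) • a = a
        rw [mul_smul, mul_smul, inv_smul_eq_iff]; exact h
      have h2 : n⁻¹ * (c⁻¹ * c0) * n ∈ C := by simpa using hCn.conj_mem _ (mul_mem (inv_mem hc) hc0) n⁻¹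
      rw [show n⁻¹ * (t * c0) * n = (n⁻¹ * (t * c) * n) * (n⁻¹ * (c⁻¹ * c0) * n) by group]
      exact mul_mem (mem_sup_left h1) (mem_sup_right h2)
    obtain ⟨c, hc, hc1⟩ := exists_ne_one hCb
    have hd1 := hd 1 C.one_mem
    rw [mul_one] at hd1
    obtain ⟨g, hg⟩ := isConj_iff.mp (hconj _ _ hd1 (hd c hc))
    have e : cj g t = t * c := Subtype.ext hg
    rcases hcjT g with h | h
    · have h1 := h t ht
      rw [e] at h1
      have : c ∈ T ⊓ C := ⟨by simpa using mul_mem (inv_mem ht) h1, hc⟩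
      rw [hTiC, mem_bot] at this
      exact hc1 this
    · have h1 := h t ht
      rw [e] at h1
      have : t ∈ T ⊓ C := ⟨ht, by simpa using mul_mem h1 (inv_mem hc)⟩
      rw [hTiC, mem_bot] at this
      obtain ⟨b⟩ : Nonempty Ω := inferInstance
      exact hd1 b (by rw [this, OneMemClass.coe_one, one_smul])

/-- Converse. -/
theorem backward (hΩ : Nontrivial Ω) (h2 : IsMultiplyPretransitive G Ω 2)
    (hfree : ∀ g : G, g ≠ 1 → ∀ a b : Ω, a ≠ b → g • a = a → g • b ≠ b)
    (g h : G) (hg : ∀ ω : Ω, g • ω ≠ ω) (hh : ∀ ω : Ω, h • ω ≠ ω) : IsConj g h := by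
  classical
  haveI := Fintype.ofFinite G
  haveI := Fintype.ofFinite Ω
  haveI : IsPretransitive G Ω := isPretransitive_of_is_two_pretransitive
  set n := Nat.card Ω
  obtain ⟨a, b, hab⟩ := hΩ.exists_pair_ne
  have hone : ∀ k : G, k ≠ 1 → ∀ x y : Ω, k • x = x → k • y = y → x = y := fun k hk x y hx hy =>
    by_contra fun hne => hfree k hk x y hne hx hy
  have hcard : Nat.card G = n * (n - 1) := by
    have e1 : orbit (stabilizer G a) b = {a}ᶜ := by
      ext y
      constructor
      · rintro ⟨k, rfl⟩ h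
        exact hab (smul_left_cancel (k : G) (k.2.trans h.symm))
      · intro hy
        obtain ⟨k, hk1, hk2⟩ := is_two_pretransitive_iff.mp h2 hab (Ne.symm hy)
        exact ⟨⟨k, hk1⟩, hk2⟩
    have e2 : stabilizer (stabilizer G a) b = ⊥ := (Subgroup.eq_bot_iff_forall _).2 fun k hk =>
      Subtype.ext (by_contra fun hk1 => hfree (k : G) hk1 a b hab k.2 hk)
    have e3 : Nat.card (stabilizer G a) = n - 1 := by
      rw [
        Nat.card_congr (orbitProdStabilizerEquivGroup (stabilizer G a) b).symm, Nat.card_prod, e1, e2,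
        Subgroup.card_bot, mul_one, Nat.card_coe_set_eq, Set.ncard_compl, Set.ncard_singleton]
    rw [← (stabilizer G a).card_mul_index, e3, index_stabilizer_of_transitive, mul_comm]
  let D := Finset.univ.filter fun k : G => ∀ ω : Ω, k • ω ≠ ω
  have hD : D.card + 1 = n := by
    have hf : ∀ k : G, Fintype.card (fixedBy Ω k) = (if k = 1 then n else if k ∈ D then 0 else 1) := by
      intro k
      split_ifs with h1 h2'
      · subst h1
        rw [← Nat.card_eq_fintype_card, fixedBy_one_eq_univ, Nat.card_congr (Equiv.Set.univ _)]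
      · rw [Fintype.card_eq_zero_iff]
        exact ⟨fun x => (Finset.mem_filter.mp h2').2 x.1 x.2⟩
      · simp only [D, Finset.mem_filter, Finset.mem_univ, true_and, not_forall, not_not] at h2'
        obtain ⟨x, hx⟩ := h2'
        exact Fintype.card_eq_one_iff.mpr ⟨⟨x, hx⟩, fun y => Subtype.ext (hone k h1 _ _ y.2 hx)⟩
    have hsum := sum_card_fixedBy_eq_card_orbits_mul_card_group G Ω
    have hone' : Fintype.card (orbitRel.Quotient G Ω) = 1 := by
      haveI : Subsingleton (orbitRel.Quotient G Ω) := (pretransitive_iff_subsingleton_quotient G Ω).1 inferInstance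
      exact Fintype.card_eq_one_iff.mpr ⟨Quotient.mk'' a, fun _ => Subsingleton.elim _ _⟩
    rw [hone', one_mul] at hsum
    simp only [hf] at hsum
    have h1D : (1 : G) ∉ D := fun h => (Finset.mem_filter.mp h).2 a (one_smul G a)
    rw [← Finset.add_sum_erase _ _ (Finset.mem_univ (1 : G)), if_pos rfl,
      Finset.sum_congr rfl (g := fun k : G => if k ∈ D then 0 else 1)
        (fun k hk => if_neg (Finset.ne_of_mem_erase hk)), Finset.sum_ite, Finset.sum_const_zero, zero_add,
      Finset.sum_const, smul_eq_mul, mul_one, ← Finset.sdiff_eq_filter,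
      Finset.card_sdiff_of_subset (fun k hk => Finset.mem_erase.mpr ⟨fun e => h1D (by rw [← e]; exact hk), Finset.mem_univ k⟩),
      Finset.card_erase_of_mem (Finset.mem_univ _), Finset.card_univ] at hsum
    have hle : D.card + 1 ≤ Fintype.card G := by
      have := Finset.card_le_univ (insert (1 : G) D)
      rwa [Finset.card_insert_of_notMem h1D] at this
    omega
  have hC : Nat.card (centralizer ({g} : Set G)) ≤ n := by
    refine Nat.card_le_card_of_injective (fun k : centralizer ({g} : Set G) => (k : G) • a) fun k k' e => ?_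
    refine Subtype.ext (inv_mul_eq_one.mp (by_contra fun hne => ?_)).symm
    have hk : ((k' : G)⁻¹ * k) • a = a := by rw [mul_smul, inv_smul_eq_iff]; exact e
    have hkc : ((k' : G)⁻¹ * k) * g = g * ((k' : G)⁻¹ * k) :=
      (mem_centralizer_singleton_iff.mp ((k'⁻¹ * k).2))
    exact hg a (hone _ hne _ _ (by rw [← mul_smul, hkc, mul_smul, hk]) hk)
  let cls := Finset.univ.filter fun k : G => IsConj g k
  have hcls : cls ⊆ D := fun k hk => by
    obtain ⟨c, rfl⟩ := isConj_iff.mp (Finset.mem_filter.mp hk).2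
    refine Finset.mem_filter.mpr ⟨Finset.mem_univ _, fun ω h => hg (c⁻¹ • ω) ?_⟩
    rw [mul_smul, mul_smul] at h
    rw [eq_inv_smul_iff]; exact h
  have hcard2 : Nat.card G = cls.card * Nat.card (centralizer ({g} : Set G)) := by
    have e := Nat.card_congr (orbitProdStabilizerEquivGroup (ConjAct G) g)
    rw [Nat.card_prod] at e
    have e1 : Nat.card (orbit (ConjAct G) g) = cls.card := by
      rw [Nat.card_coe_set_eq, ← Set.ncard_coe_finset]
      congr 1; ext k
      simp [cls, ConjAct.mem_orbit_conjAct]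
      exact ⟨fun ⟨c, hc⟩ => ⟨c⁻¹, by rw [← hc]; group⟩, fun ⟨c, hc⟩ => ⟨c⁻¹, by rw [← hc]; group⟩⟩
    have e2 : Nat.card (stabilizer (ConjAct G) g) = Nat.card (centralizer ({g} : Set G)) :=
      Nat.card_congr (Equiv.subtypeEquiv ConjAct.ofConjAct.toEquiv fun x => by
        rw [mem_stabilizer_iff, ConjAct.smul_def, mul_inv_eq_iff_eq_mul]
        exact mem_centralizer_singleton_iff.symm)
    rw [e1, e2] at e
    exact e.symm
  have heq : cls = D := by
    refine Finset.eq_of_subset_of_card_le hcls ?_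
    have h4 : (n - 1) * n ≤ cls.card * n := by
      calc (n - 1) * n = Nat.card G := by rw [hcard, mul_comm]
        _ ≤ cls.card * n := by rw [hcard2]; exact Nat.mul_le_mul_left _ hC
    have hnpos : 0 < n := Nat.card_pos
    have := Nat.le_of_mul_le_mul_right h4 hnpos
    omega
  exact (Finset.mem_filter.mp (heq.symm.subset (Finset.mem_filter.mpr ⟨Finset.mem_univ h, hh⟩))).2

end Cfsg.Lib.OneDerangementClass
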