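import Cfsg.Agent.Recognition.MajoranaCommuting

/-!
# One Majorana axis and the orbit of a second vector

For an axis `a` and a vector `p` with mirror image `q`, the fusion law determines `a ∘ (p ∘ q - ...)` and the square of
`a ∘ p - (a + p) / 32`, once the products of `p` and `q` with the latter vector are known.
-/

set_option autoImplicit false
set_option linter.unusedSimpArgs false

namespace Cfsg.Lib.Sakuma

open Cfsg.Axial Cfsg.Lib.MajoranaCommuting

variable {V : Type*} [AddCommGroup V] [Module ℝ V]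
variable {mul : V →ₗ[ℝ] V →ₗ[ℝ] V} {B : LinearMap.BilinForm ℝ V} {μ : V ≃ₗ[ℝ] V} {a : V}

/-- The decomposition of a vector into eigenvectors. -/
theorem decomp4 (h : IsMajoranaPair mul B μ a) (v : V) :
    ∃ (c : ℝ) (z q w : V), mul a z = 0 ∧ mul a q = (1 / 4 : ℝ) • q ∧ mul a w = (1 / 32 : ℝ) • w ∧
      v = c • a + z + q + w ∧ μ v = c • a + z + q - w := by
  obtain ⟨-, -, ⟨⟨-, hid, htop, -⟩, hprim⟩, hfix, hneg⟩ := h
  have hmem : v ∈ eigenSum mul a majoranaSpectrum := htop.symm ▸ Submodule.mem_top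
  rw [eigenSum, majoranaSpectrum, iSup_insert, iSup_insert, iSup_insert, iSup_singleton, Submodule.mem_sup] at hmem
  obtain ⟨p, hp, r, hr, rfl⟩ := hmem
  rw [Submodule.mem_sup] at hr
  obtain ⟨z, hz, s, hs, rfl⟩ := hr
  rw [Submodule.mem_sup] at hs
  obtain ⟨q, hq, w, hw, rfl⟩ := hs
  have hS : ∀ c ∈ ({1, 0, 1 / 4} : Set ℝ), ∀ u ∈ eigen mul a c, μ u = u := fun c hc u hu =>
    hfix u (le_iSup₂ (f := fun c (_ : c ∈ ({1, 0, 1 / 4} : Set ℝ)) => eigen mul a c) c hc hu)
  have hw' : μ w = -w := hneg w hw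
  have e1 := hS 1 (by simp) p hp
  have e2 := hS 0 (by simp) z hz
  have e3 := hS (1 / 4) (by simp) q hq
  rw [hprim, Submodule.mem_span_singleton] at hp
  obtain ⟨c, rfl⟩ := hp
  rw [mem_eigen] at hz hq hw
  rw [zero_smul] at hz
  refine ⟨c, z, q, w, hz, hq, hw, by abel, ?_⟩
  simp only [map_add, e1, e2, e3, hw']
  abel

theorem axis_idem (h : IsMajoranaPair mul B μ a) : mul a a = a := h.2.2.1.1.2.1

theorem mu_axis (h : IsMajoranaPair mul B μ a) : μ a = a :=
  h.2.2.2.1 a (le_iSup₂ (f := fun c (_ : c ∈ ({1, 0, 1 / 4} : Set ℝ)) => eigen mul a c) 1 (by simp)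
    (mem_eigen.mpr (by rw [axis_idem h, one_smul])))

theorem mu_mu (h : IsMajoranaPair mul B μ a) (v : V) : μ (μ v) = v := by
  obtain ⟨c, z, q, w, hz, hq, hw, hv, hμ⟩ := decomp4 h v
  have hS : ∀ c ∈ ({1, 0, 1 / 4} : Set ℝ), ∀ u ∈ eigen mul a c, μ u = u := fun c hc u hu =>
    h.2.2.2.1 u (le_iSup₂ (f := fun c (_ : c ∈ ({1, 0, 1 / 4} : Set ℝ)) => eigen mul a c) c hc hu)
  have ew : μ w = -w := h.2.2.2.2 w (mem_eigen.mpr hw)
  have ez : μ z = z := hS 0 (by simp) z (mem_eigen.mpr (by rw [hz, zero_smul]))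
  have eq' : μ q = q := hS (1 / 4) (by simp) q (mem_eigen.mpr hq)
  rw [hμ, hv]
  simp only [map_add, map_sub, map_smul, mu_axis h, ew, ez, eq']
  abel

/-- Left multiplication by the axis on the skew part. -/
theorem skew (h : IsMajoranaPair mul B μ a) (v : V) :
    mul a v - mul a (μ v) = (1 / 32 : ℝ) • (v - μ v) := by
  obtain ⟨c, z, q, w, hz, hq, hw, hv, hμ⟩ := decomp4 h v
  rw [hμ, hv]
  simp only [map_add, map_sub, map_smul, axis_idem h, hz, hq, hw]
  module

/-- Two maps with one axis agree. -/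
theorem mu_unique {ν : V ≃ₗ[ℝ] V} (h : IsMajoranaPair mul B μ a) (h' : IsMajoranaPair mul B ν a) (v : V) :
    μ v = ν v := by
  obtain ⟨c, z, q, w, hz, hq, hw, hv, hμ⟩ := decomp4 h v
  have hS : ∀ c ∈ ({1, 0, 1 / 4} : Set ℝ), ∀ u ∈ eigen mul a c, ν u = u := fun c hc u hu =>
    h'.2.2.2.1 u (le_iSup₂ (f := fun c (_ : c ∈ ({1, 0, 1 / 4} : Set ℝ)) => eigen mul a c) c hc hu)
  have ew : ν w = -w := h'.2.2.2.2 w (mem_eigen.mpr hw)
  have ez : ν z = z := hS 0 (by simp) z (mem_eigen.mpr (by rw [hz, zero_smul]))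
  have eq' : ν q = q := hS (1 / 4) (by simp) q (mem_eigen.mpr hq)
  rw [hμ, hv]
  simp only [map_add, map_smul, mu_axis h', ew, ez, eq']
  abel

/-- Transport of an axis by an automorphism. -/
theorem pair_conj (h : IsMajoranaPair mul B μ a) (ν : V ≃ₗ[ℝ] V)
    (hν : ∀ u v, ν (mul u v) = mul (ν u) (ν v)) (hνB : ∀ u v, B (ν u) (ν v) = B u v) :
    IsMajoranaPair mul B (ν * μ * ν.symm) (ν a) := by
  obtain ⟨h1, h2, ⟨⟨hne, hid, htop, hfus⟩, hprim⟩, hfix, hneg⟩ := h
  have hs : ∀ u v, ν.symm (mul u v) = mul (ν.symm u) (ν.symm v) := fun u v =>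
    ν.injective (by rw [hν]; simp)
  have hsB : ∀ u v, B (ν.symm u) (ν.symm v) = B u v := fun u v => by rw [← hνB]; simp
  have heig : ∀ c, eigen mul (ν a) c = (eigen mul a c).map (ν : V →ₗ[ℝ] V) := by
    intro c
    ext v
    rw [Submodule.mem_map, mem_eigen]
    constructor
    · intro hv
      refine ⟨ν.symm v, mem_eigen.mpr (ν.injective ?_), ν.apply_symm_apply v⟩
      rw [hν, map_smul, ν.apply_symm_apply, hv]
    · rintro ⟨u, hu, rfl⟩
      show mul (ν a) (ν u) = c • ν u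
      rw [← hν, mem_eigen.mp hu, map_smul]
  have hsum : ∀ S, eigenSum mul (ν a) S = (eigenSum mul a S).map (ν : V →ₗ[ℝ] V) := by
    intro S
    simp only [eigenSum, Submodule.map_iSup, heig]
  refine ⟨fun u v => ?_, fun u v => ?_, ⟨⟨fun e => hne (ν.injective (by rw [e, map_zero])), by rw [← hν, hid], ?_, ?_⟩,
    ?_⟩, ?_, ?_⟩
  · show ν (μ (ν.symm (mul u v))) = mul (ν (μ (ν.symm u))) (ν (μ (ν.symm v)))
    rw [hs, h1, hν]
  · show B (ν (μ (ν.symm u))) (ν (μ (ν.symm v))) = B u v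
    rw [hνB, h2, hsB]
  · rw [hsum, htop, Submodule.map_top, LinearMap.range_eq_top]; exact ν.surjective
  · intro c hc' d hd u hu v hv
    rw [heig] at hu hv
    obtain ⟨u', hu', rfl⟩ := Submodule.mem_map.mp hu
    obtain ⟨v', hv', rfl⟩ := Submodule.mem_map.mp hv
    rw [hsum]
    exact ⟨mul u' v', hfus c hc' d hd u' hu' v' hv', hν u' v'⟩
  · rw [heig, hprim, Submodule.map_span, Set.image_singleton]; rfl
  · intro v hv
    rw [hsum] at hv
    obtain ⟨u, hu, rfl⟩ := Submodule.mem_map.mp hv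
    show ν (μ (ν.symm (ν u))) = ν u
    rw [ν.symm_apply_apply, show μ u = u from hfix u hu]
  · intro v hv
    rw [heig] at hv
    obtain ⟨u, hu, rfl⟩ := Submodule.mem_map.mp hv
    show ν (μ (ν.symm (ν u))) = -ν u
    rw [ν.symm_apply_apply, show μ u = -u from hneg u hu, map_neg]

/-- The fusion law on a fixed vector. -/
theorem fixed (hV : IsMajoranaAmbient mul B) (h : IsMajoranaPair mul B μ a) (hn : B a a = 1) {x : V} (hx : μ x = x) :
    mul a (mul a x) = (1 / 4 : ℝ) • mul a x + (3 / 4 * B a x) • a ∧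
      ∀ x0 xq : V, x0 = x - (4 : ℝ) • mul a x + (3 * B a x) • a → xq = (4 : ℝ) • mul a x - (4 * B a x) • a →
        mul a (mul (x0 - xq) (x - B a x • a)) + (B xq xq / 4) • a = 0 ∧
          mul x0 xq = (4 : ℝ) • mul a (mul x0 x) := by
  obtain ⟨z, q, hz, hq, he⟩ := decomp hV h hn hx
  obtain ⟨hcomm, hsymm, -, hassoc, -⟩ := hV
  obtain ⟨-, -, ⟨⟨-, hid, -, hfus⟩, hprim⟩, -⟩ := h
  generalize hl : B a x = l at he ⊢
  have eax : mul a x = l • a + (1 / 4 : ℝ) • q := by
    rw [he]; simp only [map_add, map_smul, hid, hz, hq, add_zero]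
  refine ⟨?_, fun x0 xq h0 hq' => ?_⟩
  · rw [eax]
    simp only [map_add, map_smul, hid, hq]
    module
  have e0 : x0 = z := by rw [h0, eax, he]; module
  have eq' : xq = q := by rw [hq', eax]; module
  have mem0 : (0 : ℝ) ∈ majoranaSpectrum := by simp [majoranaSpectrum]
  have mem4 : (1 / 4 : ℝ) ∈ majoranaSpectrum := by simp [majoranaSpectrum]
  have hzm : z ∈ eigen mul a 0 := mem_eigen.mpr (by rw [hz, zero_smul])
  have hqm : q ∈ eigen mul a (1 / 4) := mem_eigen.mpr hq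
  have hzz : mul a (mul z z) = 0 := by
    have h := hfus _ mem0 _ mem0 _ hzm _ hzm
    rw [show monsterLaw (1 / 4 : ℝ) (1 / 32) 0 0 = {0} by norm_num [monsterLaw], eigenSum, iSup_singleton, mem_eigen,
      zero_smul] at h
    exact h
  have hzq : mul a (mul z q) = (1 / 4 : ℝ) • mul z q := by
    have h := hfus _ mem0 _ mem4 _ hzm _ hqm
    rw [show monsterLaw (1 / 4 : ℝ) (1 / 32) 0 (1 / 4) = {1 / 4} by norm_num [monsterLaw], eigenSum, iSup_singleton,
      mem_eigen] at h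
    exact h
  have hqq : mul a (mul q q) = (B q q / 4) • a := by
    have h := hfus _ mem4 _ mem4 _ hqm _ hqm
    rw [show monsterLaw (1 / 4 : ℝ) (1 / 32) (1 / 4) (1 / 4) = {1, 0} by norm_num [monsterLaw]] at h
    rw [eigenSum, iSup_insert, iSup_singleton, Submodule.mem_sup] at h
    obtain ⟨u, hu, r, hr, hur⟩ := h
    rw [hprim, Submodule.mem_span_singleton] at hu
    obtain ⟨c, rfl⟩ := hu
    rw [mem_eigen, zero_smul] at hr
    have e : mul a (mul q q) = c • a := by rw [← hur, map_add, map_smul, hid, hr, add_zero]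
    have hc : B a (mul a (mul q q)) = B q q / 4 := by
      rw [hassoc a a, hid, hassoc a q q, hq, map_smul, LinearMap.smul_apply, smul_eq_mul]; ring
    rw [e, map_smul, smul_eq_mul, hn, mul_one] at hc
    rw [e, hc]
  have hxl : x - l • a = z + q := by rw [he]; module
  rw [e0, eq', hxl]
  refine ⟨?_, ?_⟩
  · simp only [map_add, map_sub, LinearMap.add_apply, LinearMap.sub_apply, hcomm q z, hzz, hzq, hqq]
    module
  · rw [he]
    simp only [map_add, map_smul, hcomm z a, hz, smul_zero, zero_add, hzz, hzq]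
    module

/-- The axis times `s = a ∘ y - (a + y) / 32`, and the invariance of that vector. -/
theorem mul_s (hV : IsMajoranaAmbient mul B) (h : IsMajoranaPair mul B μ a) (hn : B a a = 1) (y s : V) (l : ℝ)
    (hs : mul a y = s + (1 / 32 : ℝ) • (a + y)) (hl : B a y = l) :
    μ s = s ∧ mul a (μ y) = s + (1 / 32 : ℝ) • (a + μ y) ∧
      mul a s = (3 / 4 * l - 1 / 32) • a +
        (7 / 32 : ℝ) • (s + (1 / 32 : ℝ) • a + (1 / 64 : ℝ) • (y + μ y)) := by
  have hμy : mul a (μ y) = s + (1 / 32 : ℝ) • (a + μ y) := by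
    linear_combination (norm := module) hs - skew h y
  have hμs : μ s = s := by
    have e : μ (mul a y) = μ (s + (1 / 32 : ℝ) • (a + y)) := congrArg μ hs
    rw [h.1, mu_axis h, hμy, map_add μ, map_smul, map_add, mu_axis h] at e
    exact (add_right_cancel e).symm
  refine ⟨hμs, hμy, ?_⟩
  have hl' : B a (μ y) = l := by
    rw [← hl]; conv_lhs => rw [← mu_axis h]
    exact h.2.1 a y
  have hx : μ ((1 / 2 : ℝ) • (y + μ y)) = (1 / 2 : ℝ) • (y + μ y) := by
    rw [map_smul, map_add, mu_mu h, add_comm]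
  have hf := (fixed hV h hn hx).1
  have hBx : B a ((1 / 2 : ℝ) • (y + μ y)) = l := by simp [hl, hl']; ring
  rw [hBx] at hf
  simp only [map_smul, map_add, hs, hμy, axis_idem h] at hf
  linear_combination (norm := module) hf

/-- The square of `s1` and the product of the axis with the vector of the second distance. -/
theorem local_products (hV : IsMajoranaAmbient mul B) (h : IsMajoranaPair mul B μ a) (hn : B a a = 1)
    (p q p2 q2 s1 sE sO : V) (l n : ℝ) (hq : μ p = q)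
    (hap : mul a p = s1 + (1 / 32 : ℝ) • (a + p)) (haq : mul a q = s1 + (1 / 32 : ℝ) • (a + q))
    (has : mul a s1 = (3 / 4 * l - 1 / 32) • a + (7 / 32 : ℝ) • (s1 + (1 / 32 : ℝ) • a + (1 / 64 : ℝ) • (p + q)))
    (hap2 : mul a p2 = sE + (1 / 32 : ℝ) • (a + p2)) (haq2 : mul a q2 = sE + (1 / 32 : ℝ) • (a + q2))
    (hpq : mul p q = sO + (1 / 32 : ℝ) • (p + q)) (hpp : mul p p = p) (hqq : mul q q = q)
    (hps : mul p s1 = (3 / 4 * l - 1 / 32) • p + (7 / 32 : ℝ) • (s1 + (1 / 32 : ℝ) • p + (1 / 64 : ℝ) • (a + p2)))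
    (hqs : mul q s1 = (3 / 4 * l - 1 / 32) • q + (7 / 32 : ℝ) • (s1 + (1 / 32 : ℝ) • q + (1 / 64 : ℝ) • (a + q2)))
    (hl : B a p = l) (hpn : B p p = 1) (hnn : B p q = n) :
    mul a sO = (32 / 3 * l - 19 / 48) • s1 + (7 / 96 : ℝ) • sE +
        (-32 / 3 * l ^ 2 + 5 / 3 * l - 1 / 24 * n - 127 / 3072) • a +
        (1 / 6 * l - 19 / 3072) • (p + q) + (7 / 6144 : ℝ) • (p2 + q2) ∧
      mul s1 s1 = (-5 / 12 * l - 13 / 1536) • s1 + (-7 / 1536 : ℝ) • sE + (7 / 2048 : ℝ) • sO +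
        (7 / 6 * l ^ 2 - 7 / 384 * l + 7 / 1536 * n - 7 / 98304) • a +
        (49 / 768 * l - 245 / 196608) • (p + q) + (49 / 196608 : ℝ) • (p2 + q2) := by
  obtain ⟨hcomm, hsymm, -, hassoc, -⟩ := id hV
  have haa := axis_idem h
  have hlq : B a q = l := by
    rw [← hl, ← hq]; conv_lhs => rw [← mu_axis h]
    exact h.2.1 a p
  have hqn : B q q = 1 := by rw [← hq, h.2.1]; exact hpn
  have hBs1 : B q s1 = l - 1 / 32 - 1 / 32 * l := by
    have e : B q (mul a q) = l := by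
      rw [hcomm a q, hassoc, hqq, hsymm, hlq]
    rw [haq] at e
    simp only [map_add, map_smul, smul_eq_mul, hqn, hsymm q a, hlq] at e
    linarith
  have hapq : B a (mul p q) = (l - 1 / 32 - 1 / 32 * l) + 1 / 32 * (l + n) := by
    rw [hassoc, hap]
    simp only [map_add, map_smul, LinearMap.add_apply, LinearMap.smul_apply, smul_eq_mul, hsymm s1 q, hBs1, hlq, hnn]
  obtain ⟨x, hx⟩ : ∃ x, x = (1 / 2 : ℝ) • (p + q) := ⟨_, rfl⟩
  have hμx : μ x = x := by
    rw [hx, map_smul, map_add, ← hq, mu_mu h, add_comm]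
  have hBx : B a x = l := by
    simp only [hx, map_smul, map_add, smul_eq_mul, hl, hlq]; ring
  obtain ⟨hdd, hf⟩ := fixed hV h hn hμx
  have eax : mul a x = s1 + (1 / 32 : ℝ) • a + (1 / 64 : ℝ) • (p + q) := by
    rw [hx, map_smul, map_add, hap, haq]; module
  rw [hBx] at hdd hf
  have hxx : B (mul a x) x = l + 1 / 64 * (n - 1) := by
    rw [← hassoc, hx]
    simp only [map_add, map_smul, LinearMap.add_apply, LinearMap.smul_apply, smul_eq_mul, hcomm q p, hpp, hqq, hl, hlq,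
      hapq]
    ring
  have hq2 : B (mul a x) (mul a x) = 3 / 4 * l ^ 2 + 1 / 4 * (l + 1 / 64 * (n - 1)) := by
    rw [hassoc (mul a x) a x, hcomm (mul a x) a, hdd]
    simp only [map_add, map_smul, LinearMap.add_apply, LinearMap.smul_apply, smul_eq_mul, hBx, hxx]
    ring
  obtain ⟨x0, h0⟩ : ∃ x0, x0 = x - (4 : ℝ) • mul a x + (3 * l) • a := ⟨_, rfl⟩
  obtain ⟨xq, h1⟩ : ∃ xq, xq = (4 : ℝ) • mul a x - (4 * l) • a := ⟨_, rfl⟩
  obtain ⟨hA, hC⟩ := hf x0 xq h0 h1
  have hBq : B xq xq = 4 * (l + 1 / 64 * (n - 1) - l ^ 2) := by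
    have hax : B a (mul a x) = l := by rw [hassoc, haa, hBx]
    rw [h1]
    simp only [map_sub, map_smul, LinearMap.sub_apply, LinearMap.smul_apply, smul_eq_mul, hq2, hn, hax,
      hsymm (mul a x) a]
    ring
  rw [hBq] at hA
  rw [h0, h1, eax, hx] at hA hC
  simp only [map_add, map_sub, map_smul, LinearMap.add_apply, LinearMap.sub_apply, LinearMap.smul_apply, haa, hap, haq,
    has, hap2, haq2, hpq, hpp, hqq, hps, hqs, hcomm q p, hcomm p a, hcomm q a, hcomm s1 a, hcomm s1 p, hcomm s1 q]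
    at hA hC
  have hX : mul a sO = (32 / 3 * l - 19 / 48) • s1 + (7 / 96 : ℝ) • sE +
        (-32 / 3 * l ^ 2 + 5 / 3 * l - 1 / 24 * n - 127 / 3072) • a +
        (1 / 6 * l - 19 / 3072) • (p + q) + (7 / 6144 : ℝ) • (p2 + q2) := by
    linear_combination (norm := module) (8 / 3 : ℝ) • hA
  refine ⟨hX, ?_⟩
  simp only [hX, map_add, map_smul, LinearMap.add_apply, LinearMap.smul_apply, haa, hap, haq, has] at hC
  linear_combination (norm := module) (-1 / 16 : ℝ) • hC

end Cfsg.Lib.Sakuma
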