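import Cfsg.Agent.Recognition.SakumaAxis

/-!
# Sakuma's theorem for Majorana involutions

The product of two Majorana involutions has order at most six.
-/

set_option autoImplicit false
set_option linter.unusedSimpArgs false

namespace Cfsg.Lib.Sakuma

open Cfsg.Axial Cfsg.Lib.MajoranaCommuting

/-- The common zeros of the two polynomial relations in the inner products `l`, `m`. -/
theorem nine_types {l m : ℝ}
    (he : 6291456 * l ^ 4 - 6979584 * l ^ 3 + 122880 * l ^ 2 * m + 552960 * l ^ 2 + 26688 * l * m - 14400 * l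
      + 384 * m ^ 2 - 501 * m + 117 = 0)
    (hg : 1610612736 * l ^ 5 - 1815085056 * l ^ 4 + 78643200 * l ^ 3 * m + 132415488 * l ^ 3 - 4780032 * l ^ 2 * m
      - 2580480 * l ^ 2 + 282624 * l * m ^ 2 + 497568 * l * m - 6048 * l + 8352 * m ^ 2 - 8703 * m + 351 = 0) :
    (l = 1 ∧ m = 1) ∨ (l = 0 ∧ m = 1) ∨ (l = 1 / 8 ∧ m = 1) ∨ (l = 1 / 64 ∧ m = 1 / 64) ∨ (l = 1 / 64 ∧ m = 1 / 8) ∨
      (l = 13 / 256 ∧ m = 13 / 256) ∨ (l = 1 / 32 ∧ m = 0) ∨ (l = 3 / 128 ∧ m = 3 / 128) ∨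
      (l = 5 / 256 ∧ m = 13 / 256) := by
  obtain ⟨u, hu⟩ : ∃ u, u = 4529848320 * l ^ 3 + 10404495360 * l ^ 2 - 109762560 * l - 842400 := ⟨_, rfl⟩
  obtain ⟨v, hv⟩ : ∃ v, v = 1159641169920 * l ^ 5 - 1223059046400 * l ^ 4 + 47138734080 * l ^ 3 + 1539440640 * l ^ 2
      - 84879360 * l + 842400 := ⟨_, rfl⟩
  have hlin : u * m + v = 0 := by
    rw [hu, hv]; linear_combination (282624 * l + 8352) * he - 384 * hg
  have hR : (-1581446748136749343860326400 : ℝ) * (l * (l - 1) * (l - 1 / 8) * (l - 1 / 64) * (l - 1 / 64) *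
      (l - 13 / 256) * (l - 1 / 32) * (l - 3 / 128) * (l - 5 / 256)) = 0 := by
    subst hu hv
    linear_combination (4529848320 * l ^ 3 + 10404495360 * l ^ 2 - 109762560 * l - 842400) ^ 2 * he -
      (384 * ((4529848320 * l ^ 3 + 10404495360 * l ^ 2 - 109762560 * l - 842400) * m -
          (1159641169920 * l ^ 5 - 1223059046400 * l ^ 4 + 47138734080 * l ^ 3 + 1539440640 * l ^ 2 - 84879360 * l
            + 842400)) +
        (122880 * l ^ 2 + 26688 * l - 501) * (4529848320 * l ^ 3 + 10404495360 * l ^ 2 - 109762560 * l - 842400))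
        * hlin
  simp only [mul_eq_zero, sub_eq_zero] at hR
  norm_num at hR
  rw [hu, hv] at hlin
  rcases hR with (((((((h | h) | h) | h) | h) | h) | h) | h) <;> subst h
  · exact Or.inr (Or.inl ⟨rfl, by linarith⟩)
  · exact Or.inl ⟨rfl, by linarith⟩
  · exact Or.inr (Or.inr (Or.inl ⟨rfl, by linarith⟩))
  · have hq : (m - 1 / 64) * (m - 1 / 8) = 0 := by linarith
    rcases mul_eq_zero.mp hq with hm | hm
    · exact Or.inr (Or.inr (Or.inr (Or.inl ⟨rfl, by linarith⟩)))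
    · exact Or.inr (Or.inr (Or.inr (Or.inr (Or.inl ⟨rfl, by linarith⟩))))
  · exact Or.inr (Or.inr (Or.inr (Or.inr (Or.inr (Or.inl ⟨rfl, by linarith⟩)))))
  · exact Or.inr (Or.inr (Or.inr (Or.inr (Or.inr (Or.inr (Or.inl ⟨rfl, by linarith⟩))))))
  · exact Or.inr (Or.inr (Or.inr (Or.inr (Or.inr (Or.inr (Or.inr (Or.inl ⟨rfl, by linarith⟩)))))))
  · exact Or.inr (Or.inr (Or.inr (Or.inr (Or.inr (Or.inr (Or.inr (Or.inr ⟨rfl, by linarith⟩)))))))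

variable {V : Type*} [AddCommGroup V] [Module ℝ V]

theorem pow_aut {mul : V →ₗ[ℝ] V →ₗ[ℝ] V} {B : LinearMap.BilinForm ℝ V} {T : V ≃ₗ[ℝ] V}
    (h : ∀ u v, T (mul u v) = mul (T u) (T v)) (hB : ∀ u v, B (T u) (T v) = B u v) (j : ℕ) :
    (∀ u v, (T ^ j) (mul u v) = mul ((T ^ j) u) ((T ^ j) v)) ∧ ∀ u v, B ((T ^ j) u) ((T ^ j) v) = B u v := by
  induction j with
  | zero => exact ⟨fun _ _ => rfl, fun _ _ => rfl⟩
  | succ j ih =>
    rw [pow_succ']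
    exact ⟨fun u v => by simp only [LinearEquiv.mul_apply, ih.1, h],
      fun u v => by simp only [LinearEquiv.mul_apply, hB, ih.2]⟩

theorem order_le_six {mul : V →ₗ[ℝ] V →ₗ[ℝ] V} {B : LinearMap.BilinForm ℝ V} (hV : IsMajoranaAmbient mul B)
    {μ₀ μ₁ : V ≃ₗ[ℝ] V} {a₀ a₁ : V} (h₀ : IsMajoranaPair mul B μ₀ a₀) (h₁ : IsMajoranaPair mul B μ₁ a₁)
    (hn₀ : B a₀ a₀ = 1) (hn₁ : B a₁ a₁ = 1) : ∃ n : ℕ, 1 ≤ n ∧ n ≤ 6 ∧ (μ₀ * μ₁) ^ n = 1 := by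
  obtain ⟨hcomm, hsymm, hpos, hassoc, hnorton⟩ := id hV
  -- the translation and its powers
  obtain ⟨T, hT⟩ : ∃ T, T = μ₁ * μ₀ := ⟨_, rfl⟩
  have hTv : ∀ v, T v = μ₁ (μ₀ v) := fun v => by rw [hT]; rfl
  have hTm : ∀ u v, T (mul u v) = mul (T u) (T v) := fun u v => by rw [hTv, hTv, hTv, h₀.1, h₁.1]
  have hTB : ∀ u v, B (T u) (T v) = B u v := fun u v => by rw [hTv, hTv, h₁.2.1, h₀.2.1]
  have i0 : μ₀ * μ₀ = 1 := LinearEquiv.ext fun v => mu_mu h₀ v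
  have i1 : μ₁ * μ₁ = 1 := LinearEquiv.ext fun v => mu_mu h₁ v
  have j0 : μ₀⁻¹ = μ₀ := inv_eq_of_mul_eq_one_right i0
  have j1 : μ₁⁻¹ = μ₁ := inv_eq_of_mul_eq_one_right i1
  have hTi : T⁻¹ = μ₀ * μ₁ := by rw [hT, mul_inv_rev, j0, j1]
  have c0 : μ₀ * T * μ₀⁻¹ = T⁻¹ := by
    rw [hTi, hT, j0, mul_assoc, mul_assoc, i0, mul_one]
  have c1 : μ₁ * T * μ₁⁻¹ = T⁻¹ := by
    rw [hTi, hT, j1, ← mul_assoc, i1, one_mul]
  have heven : ∀ j : ℕ, (T ^ j) a₀ = a₀ → T ^ (2 * j) = 1 := fun j hj => by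
    have hp := pair_conj h₀ (T ^ j) (pow_aut hTm hTB j).1 (pow_aut hTm hTB j).2
    rw [hj] at hp
    have e : T ^ j * μ₀ * (T ^ j)⁻¹ = μ₀ := LinearEquiv.ext fun v => mu_unique hp h₀ v
    have e2 : μ₀ * T ^ j * μ₀⁻¹ = (T ^ j)⁻¹ := by rw [← conj_pow, c0, inv_pow]
    rw [← mul_inv_eq_iff_eq_mul.mp e, mul_assoc, mul_inv_cancel, mul_one] at e2
    rw [two_mul, pow_add]; exact mul_eq_one_iff_eq_inv.mpr e2
  have hodd : ∀ j : ℕ, (T ^ j) a₁ = a₀ → T ^ (2 * j + 1) = 1 := fun j hj => by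
    have hp := pair_conj h₁ (T ^ j) (pow_aut hTm hTB j).1 (pow_aut hTm hTB j).2
    rw [hj] at hp
    have e : T ^ j * μ₁ * (T ^ j)⁻¹ = μ₀ := LinearEquiv.ext fun v => mu_unique hp h₀ v
    have e2 : μ₁ * (T ^ j)⁻¹ = T ^ j * μ₁ := by
      have e3 : μ₁ * T ^ j * μ₁⁻¹ = (T ^ j)⁻¹ := by rw [← conj_pow, c1, inv_pow]
      rw [← e3, ← mul_assoc, ← mul_assoc, i1, one_mul, j1]
    rw [mul_assoc, e2, ← mul_assoc, ← pow_add, ← two_mul] at e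
    have e4 : T ^ (2 * j) = T⁻¹ := by rw [hTi, ← e, mul_assoc, i1, mul_one]
    rw [pow_succ, e4, inv_mul_cancel]
  have hfin : ∀ n : ℕ, 1 ≤ n → n ≤ 6 → T ^ n = 1 → ∃ n : ℕ, 1 ≤ n ∧ n ≤ 6 ∧ (μ₀ * μ₁) ^ n = 1 :=
    fun n a b c => ⟨n, a, b, by rw [← hTi, inv_pow, c, inv_one]⟩
  have heq : ∀ u v : V, B u u = 1 → B v v = 1 → B u v = 1 → u = v := fun u v hu hv huv => by
    by_contra hne
    have hp := hpos (u - v) (sub_ne_zero.mpr hne)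
    simp only [map_sub, LinearMap.sub_apply, hu, hv, huv, hsymm v u] at hp
    linarith
  -- the orbit
  obtain ⟨am1, ham1⟩ : ∃ v, v = μ₀ a₁ := ⟨_, rfl⟩
  obtain ⟨a2, ha2⟩ : ∃ v, v = μ₁ a₀ := ⟨_, rfl⟩
  obtain ⟨am2, ham2⟩ : ∃ v, v = μ₀ a2 := ⟨_, rfl⟩
  obtain ⟨a3, ha3⟩ : ∃ v, v = μ₁ am1 := ⟨_, rfl⟩
  obtain ⟨a4, ha4⟩ : ∃ v, v = μ₁ am2 := ⟨_, rfl⟩
  obtain ⟨a5, ha5⟩ : ∃ v, v = T a3 := ⟨_, rfl⟩
  have z0 : μ₀ a₀ = a₀ := mu_axis h₀
  have z1 : μ₁ a₁ = a₁ := mu_axis h₁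
  have z0m : μ₀ am1 = a₁ := by rw [ham1, mu_mu h₀]
  have z0m2 : μ₀ am2 = a2 := by rw [ham2, mu_mu h₀]
  have z12 : μ₁ a2 = a₀ := by rw [ha2, mu_mu h₁]
  have z13 : μ₁ a3 = am1 := by rw [ha3, mu_mu h₁]
  have Tm2 : T am2 = a₀ := by rw [hTv, z0m2, z12]
  have Tm1 : T am1 = a₁ := by rw [hTv, z0m, z1]
  have T0 : T a₀ = a2 := by rw [hTv, z0, ha2]
  have T1 : T a₁ = a3 := by rw [hTv, ← ham1, ha3]
  have T2 : T a2 = a4 := by rw [hTv, ← ham2, ha4]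
  have t0 : ∀ u v u' v', μ₀ u = u' → μ₀ v = v' → B u' v' = B u v := fun u v u' v' h h' => by rw [← h, ← h', h₀.2.1]
  have t1 : ∀ u v u' v', μ₁ u = u' → μ₁ v = v' → B u' v' = B u v := fun u v u' v' h h' => by rw [← h, ← h', h₁.2.1]
  have tT : ∀ u v u' v', T u = u' → T v = v' → B u' v' = B u v := fun u v u' v' h h' => by rw [← h, ← h', hTB]
  obtain ⟨l, hl⟩ : ∃ l, B a₀ a₁ = l := ⟨_, rfl⟩
  obtain ⟨m, hm⟩ : ∃ m, B a₀ a2 = m := ⟨_, rfl⟩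
  obtain ⟨n, hn⟩ : ∃ n, B a₁ am1 = n := ⟨_, rfl⟩
  obtain ⟨k, hk⟩ : ∃ k, B a₀ a3 = k := ⟨_, rfl⟩
  obtain ⟨g, hg⟩ : ∃ g, B am2 a2 = g := ⟨_, rfl⟩
  obtain ⟨g', hg'⟩ : ∃ g, B am1 a3 = g := ⟨_, rfl⟩
  obtain ⟨g5, hg5⟩ : ∃ g, B am2 a3 = g := ⟨_, rfl⟩
  obtain ⟨g6, hg6⟩ : ∃ g, B am2 a4 = g := ⟨_, rfl⟩
  -- inner products in the orbit
  have n2 : B a2 a2 = 1 := by rw [t1 _ _ _ _ ha2.symm ha2.symm, hn₀]
  have nm1 : B am1 am1 = 1 := by rw [t0 _ _ _ _ ham1.symm ham1.symm, hn₁]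
  have nm2 : B am2 am2 = 1 := by rw [t0 _ _ _ _ ham2.symm ham2.symm, n2]
  have n3 : B a3 a3 = 1 := by rw [t1 _ _ _ _ ha3.symm ha3.symm, nm1]
  have l10 : B a₁ a₀ = l := by rw [hsymm, hl]
  have l0m : B a₀ am1 = l := by rw [t0 _ _ _ _ z0 ham1.symm, hl]
  have l12 : B a₁ a2 = l := by rw [t1 _ _ _ _ z1 ha2.symm, l10]
  have l21 : B a2 a₁ = l := by rw [hsymm, l12]
  have l23 : B a2 a3 = l := by rw [t1 _ _ _ _ ha2.symm ha3.symm, l0m]
  have lmm : B am2 am1 = l := by rw [t0 _ _ _ _ ham2.symm ham1.symm, l21]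
  have lm10 : B am1 a₀ = l := by rw [hsymm, l0m]
  have l32 : B a3 a2 = l := by rw [hsymm, l23]
  have lm12 : B am1 am2 = l := by rw [hsymm, lmm]
  have m20 : B a2 a₀ = m := by rw [hsymm, hm]
  have m0m : B a₀ am2 = m := by rw [t0 _ _ _ _ z0 ham2.symm, hm]
  have mm0 : B am2 a₀ = m := by rw [hsymm, m0m]
  have nm : B am1 a₁ = n := by rw [hsymm, hn]
  have n13 : B a₁ a3 = n := by rw [t1 _ _ _ _ z1 ha3.symm, hn]
  have n31 : B a3 a₁ = n := by rw [hsymm, n13]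
  have k30 : B a3 a₀ = k := by rw [hsymm, hk]
  have k2m : B a2 am1 = k := by rw [t1 _ _ _ _ ha2.symm z13, hk]
  have km2 : B am1 a2 = k := by rw [hsymm, k2m]
  have km21 : B am2 a₁ = k := by rw [t0 _ _ _ _ ham2.symm z0m, k2m]
  have k1m2 : B a₁ am2 = k := by rw [hsymm, km21]
  have k14 : B a₁ a4 = k := by rw [tT _ _ _ _ Tm1 T2, km2]
  have g2m : B a2 am2 = g := by rw [hsymm, hg]
  have g04 : B a₀ a4 = g := by rw [tT _ _ _ _ Tm2 T2, hg]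
  have g3m : B a3 am1 = g' := by rw [hsymm, hg']
  have g15 : B a₁ a5 = g' := by rw [tT _ _ _ _ Tm1 ha5.symm, hg']
  have g53 : B a3 am2 = g5 := by rw [hsymm, hg5]
  have g5m : B am1 a4 = g5 := by rw [t1 _ _ _ _ z13 ha4.symm, g53]
  -- idempotents
  have id0 : mul a₀ a₀ = a₀ := axis_idem h₀
  have id1 : mul a₁ a₁ = a₁ := axis_idem h₁
  have id2 : mul a2 a2 = a2 := by rw [ha2, ← h₁.1, id0]
  have idm1 : mul am1 am1 = am1 := by rw [ham1, ← h₀.1, id1]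
  have id3 : mul a3 a3 = a3 := by rw [ha3, ← h₁.1, idm1]
  -- the invariant vectors
  obtain ⟨s1, hs1⟩ : ∃ s, s = mul a₀ a₁ - (1 / 32 : ℝ) • (a₀ + a₁) := ⟨_, rfl⟩
  obtain ⟨sE, hsE⟩ : ∃ s, s = mul a₀ a2 - (1 / 32 : ℝ) • (a₀ + a2) := ⟨_, rfl⟩
  obtain ⟨sO, hsO⟩ : ∃ s, s = mul a₁ am1 - (1 / 32 : ℝ) • (a₁ + am1) := ⟨_, rfl⟩
  have p01 : mul a₀ a₁ = s1 + (1 / 32 : ℝ) • (a₀ + a₁) := by rw [hs1]; abel
  have p10 : mul a₁ a₀ = s1 + (1 / 32 : ℝ) • (a₁ + a₀) := by rw [hcomm, p01, add_comm a₀]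
  have p02 : mul a₀ a2 = sE + (1 / 32 : ℝ) • (a₀ + a2) := by rw [hsE]; abel
  have p20 : mul a2 a₀ = sE + (1 / 32 : ℝ) • (a2 + a₀) := by rw [hcomm, p02, add_comm a2]
  have p1m : mul a₁ am1 = sO + (1 / 32 : ℝ) • (a₁ + am1) := by rw [hsO]; abel
  obtain ⟨f0s1, p0m, q0s1⟩ := mul_s hV h₀ hn₀ a₁ s1 l p01 hl
  obtain ⟨f1s1, p12, q1s1⟩ := mul_s hV h₁ hn₁ a₀ s1 l p10 l10
  obtain ⟨f0sE, p0m2, q0sE⟩ := mul_s hV h₀ hn₀ a2 sE m p02 hm
  obtain ⟨f1sO, p13, -⟩ := mul_s hV h₁ hn₁ am1 sO n p1m hn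
  rw [← ham1] at p0m q0s1
  rw [← ha2] at p12 q1s1
  rw [← ham2] at p0m2 q0sE
  rw [← ha3] at p13
  have f1sE : μ₁ sE = sE := by
    rw [hsE, map_sub, map_smul, map_add, h₁.1, ← ha2, z12, hcomm a2, add_comm a2]
  have f0sO : μ₀ sO = sO := by
    rw [hsO, map_sub, map_smul, map_add, h₀.1, ← ham1, z0m, hcomm am1, add_comm am1]
  have fTs1 : T s1 = s1 := by rw [hTv, f0s1, f1s1]
  have fTsE : T sE = sE := by rw [hTv, f0sE, f1sE]
  have fTsO : T sO = sO := by rw [hTv, f0sO, f1sO]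
  have q2s1 : mul a2 s1 = (3 / 4 * l - 1 / 32) • a2 +
      (7 / 32 : ℝ) • (s1 + (1 / 32 : ℝ) • a2 + (1 / 64 : ℝ) • (a₁ + a3)) := by
    have e : μ₁ (mul a₀ s1) = _ := congrArg μ₁ q0s1
    simp only [h₁.1, map_add, map_smul, ← ha2, f1s1, z1, ← ha3] at e
    exact e
  have qms1 : mul am1 s1 = (3 / 4 * l - 1 / 32) • am1 +
      (7 / 32 : ℝ) • (s1 + (1 / 32 : ℝ) • am1 + (1 / 64 : ℝ) • (a₀ + am2)) := by
    have e : μ₀ (mul a₁ s1) = _ := congrArg μ₀ q1s1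
    simp only [h₀.1, map_add, map_smul, ← ham1, f0s1, z0, ← ham2] at e
    exact e
  -- the two computations of the square of `s1`
  obtain ⟨X0, F0⟩ := local_products hV h₀ hn₀ a₁ am1 a2 am2 s1 sE sO l n ham1.symm p01 p0m q0s1 p02 p0m2 p1m id1
    idm1 q1s1 qms1 hl hn₁ hn
  obtain ⟨X1, F1⟩ := local_products hV h₁ hn₁ a2 a₀ a3 am1 s1 sO sE l m z12 p12 p10
    (by rw [q1s1, add_comm a₀ a2]) p13 p1m p20 id2 id0 q2s1
    (by rw [q0s1]) l12 n2 m20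
  clear X1
  have hD := F0.symm.trans F1
  -- inner products with the invariant vectors
  have b0s1 : B a₀ s1 = l - 1 / 32 - 1 / 32 * l := by
    have e : B a₀ (mul a₀ a₁) = l := by rw [hassoc, id0, hl]
    rw [p01] at e
    simp only [map_add, map_smul, smul_eq_mul, hn₀, hl] at e
    linarith
  have b1s1 : B a₁ s1 = l - 1 / 32 - 1 / 32 * l := by
    have e : B a₁ (mul a₁ a₀) = l := by rw [hassoc, id1, l10]
    rw [p10] at e
    simp only [map_add, map_smul, smul_eq_mul, hn₁, l10] at e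
    linarith
  have bm1s1 : B am1 s1 = l - 1 / 32 - 1 / 32 * l := by rw [t0 _ _ _ _ ham1.symm f0s1, b1s1]
  have b2s1 : B a2 s1 = l - 1 / 32 - 1 / 32 * l := by rw [t1 _ _ _ _ ha2.symm f1s1, b0s1]
  have b3s1 : B a3 s1 = l - 1 / 32 - 1 / 32 * l := by rw [tT _ _ _ _ T1 fTs1, b1s1]
  have bm2s1 : B am2 s1 = l - 1 / 32 - 1 / 32 * l := by rw [t0 _ _ _ _ ham2.symm f0s1, b2s1]
  have b0sE : B a₀ sE = m - 1 / 32 - 1 / 32 * m := by
    have e : B a₀ (mul a₀ a2) = m := by rw [hassoc, id0, hm]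
    rw [p02] at e
    simp only [map_add, map_smul, smul_eq_mul, hn₀, hm] at e
    linarith
  have b2sE : B a2 sE = m - 1 / 32 - 1 / 32 * m := by rw [t1 _ _ _ _ ha2.symm f1sE, b0sE]
  have bm2sE : B am2 sE = m - 1 / 32 - 1 / 32 * m := by rw [t0 _ _ _ _ ham2.symm f0sE, b2sE]
  have b1sE : B a₁ sE = 15 / 16 * l + 1 / 32 * m - 1 / 32 := by
    have e : B a₁ (mul a₀ a2) = B (mul a₁ a₀) a2 := hassoc _ _ _
    rw [p02, p10] at e
    simp only [map_add, map_smul, LinearMap.add_apply, LinearMap.smul_apply, smul_eq_mul, l10, l12, hm,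
      hsymm s1 a2, b2s1] at e
    linarith
  have bm1sE : B am1 sE = 15 / 16 * l + 1 / 32 * m - 1 / 32 := by rw [t0 _ _ _ _ ham1.symm f0sE, b1sE]
  have b3sE : B a3 sE = 15 / 16 * l + 1 / 32 * m - 1 / 32 := by rw [tT _ _ _ _ T1 fTsE, b1sE]
  have b0sO : B a₀ sO = 15 / 16 * l + 1 / 32 * n - 1 / 32 := by
    have e : B a₀ (mul a₁ am1) = B (mul a₀ a₁) am1 := hassoc _ _ _
    rw [p1m, p01] at e
    simp only [map_add, map_smul, LinearMap.add_apply, LinearMap.smul_apply, smul_eq_mul, hl, l0m, hn,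
      hsymm s1 am1, bm1s1] at e
    linarith
  have b2sO : B a2 sO = 15 / 16 * l + 1 / 32 * n - 1 / 32 := by rw [t1 _ _ _ _ ha2.symm f1sO, b0sO]
  have b1sO : B a₁ sO = n - 1 / 32 - 1 / 32 * n := by
    have e : B a₁ (mul a₁ am1) = n := by rw [hassoc, id1, hn]
    rw [p1m] at e
    simp only [map_add, map_smul, smul_eq_mul, hn₁, hn] at e
    linarith
  -- the inner products are nonnegative
  have hl0 : 0 ≤ l := by
    have h2 := hnorton a₀ a₁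
    rw [id0, id1, hl] at h2
    rcases eq_or_ne (mul a₀ a₁) 0 with h | h
    · simpa [h] using h2
    · linarith [hpos _ h]
  -- both parities agree
  have e0 := congrArg (B a₀) hD
  have e1 := congrArg (B a₁) hD
  simp only [map_add, map_smul, smul_eq_mul, hn₀, hn₁, hl, l0m, l10, l12, hm, m0m, hn, n13, hk, k1m2, b0s1, b1s1,
    b0sE, b1sE, b0sO, b1sO] at e0 e1
  have hmn : m = n := by
    have : (640 * l + 101) * (m - n) = 0 := by linear_combination (-196608 / 49 * 7 / 3) * e0 + (-196608 / 49 * 7 / 3) * e1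
    rcases mul_eq_zero.mp this with h | h
    · linarith
    · linarith
  subst hmn
  have hkv : k = -32768 / 7 * l ^ 3 + 36864 / 7 * l ^ 2 - 1920 / 7 * l * m - 2169 / 7 * l - 33 / 7 * m + 33 / 7 := by
    linear_combination (-196608 / 49) * e0
  -- translation invariance
  have hS0 : T (mul s1 s1) = mul s1 s1 := by rw [hTm, fTs1]
  have hS1 := hS0
  rw [F0] at hS0
  rw [F1] at hS1
  simp only [map_add, map_smul, fTs1, fTsE, fTsO, Tm2, Tm1, T0, T1, T2, ← ha5] at hS0 hS1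
  have eS0 := congrArg (B a₀) hS0
  have eSm1 := congrArg (B am1) hS0
  have eSm2 := congrArg (B am2) hS0
  have eT1 := congrArg (B a₁) hS1
  simp only [map_add, map_smul, smul_eq_mul, hn₀, hn₁, nm1, nm2, hl, l0m, l10, l12, lmm, lm10, lm12, hm, m0m, mm0,
    hn, nm, n13, hk, km2, km21, k1m2, k14, hg, g04, hg', g15, hg5, g5m, hg6] at eS0 eSm1 eSm2 eT1
  have hgv : g = 8388608 / 7 * l ^ 4 - 9601024 / 7 * l ^ 3 + 65536 * l ^ 2 * m + 110592 * l ^ 2 - 640 / 7 * l * m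
      - 19840 / 7 * l - 128 / 7 * m ^ 2 - 3 * m + 156 / 7 := by
    subst hkv
    linear_combination (196608 / 49) * eS0
  have hgv' : g' = 8388608 / 7 * l ^ 4 - 9601024 / 7 * l ^ 3 + 65536 * l ^ 2 * m + 110592 * l ^ 2 - 640 / 7 * l * m
      - 19840 / 7 * l - 128 / 7 * m ^ 2 - 3 * m + 156 / 7 := by
    subst hkv
    linear_combination (196608 / 49) * eT1
  have hg5v : g5 = -13958643712 / 49 * l ^ 5 + 16273899520 / 49 * l ^ 4 - 754974720 / 49 * l ^ 3 * m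
      - 1633419264 / 49 * l ^ 3 + 12582912 / 49 * l ^ 2 * m + 8683520 / 7 * l ^ 2 + 475136 / 49 * l * m ^ 2
      + 259584 / 49 * l * m - 137721 / 7 * l - 256 / 49 * m ^ 2 - 5256 / 49 * m + 5512 / 49 := by
    subst hkv hgv'
    linear_combination (196608 / 49) * eSm1
  have hg6v : g6 = 3298534883328 / 49 * l ^ 6 - 3917010173952 / 49 * l ^ 5 + 177167400960 / 49 * l ^ 4 * m
      + 469317451776 / 49 * l ^ 4 - 5511315456 / 49 * l ^ 3 * m - 22767894528 / 49 * l ^ 3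
      - 25165824 / 7 * l ^ 2 * m ^ 2 - 97910784 / 49 * l ^ 2 * m + 542429184 / 49 * l ^ 2
      + 2457600 / 49 * l * m ^ 2 + 5162880 / 49 * l * m - 904320 / 7 * l + 16384 / 49 * m ^ 3 + 1152 / 49 * m ^ 2
      - 46500 / 49 * m + 29013 / 49 := by
    subst hkv hgv hg5v
    linear_combination (196608 / 49) * eSm2
  -- the two further relations
  have bEE : B sE sE = B a2 (mul a₀ sE) - 1 / 16 * (m - 1 / 32 - 1 / 32 * m) := by
    rw [hassoc a2 a₀ sE, p20]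
    simp only [map_add, map_smul, LinearMap.add_apply, LinearMap.smul_apply, smul_eq_mul, b0sE, b2sE]
    ring
  have bEO : B sE sO = B a2 (mul a₀ sO) - 1 / 16 * (15 / 16 * l + 1 / 32 * m - 1 / 32) := by
    rw [hassoc a2 a₀ sO, p20]
    simp only [map_add, map_smul, LinearMap.add_apply, LinearMap.smul_apply, smul_eq_mul, b0sO, b2sO]
    ring
  rw [q0sE] at bEE
  rw [X0] at bEO
  simp only [map_add, map_smul, smul_eq_mul, n2, l21, m20, k2m, g2m, b2s1, b2sE] at bEE bEO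
  have eE := congrArg (B sE) hD
  simp only [map_add, map_smul, smul_eq_mul, bEE, bEO, hsymm sE s1, hsymm sE a₀, hsymm sE a₁, hsymm sE am1,
    hsymm sE a2, hsymm sE am2, hsymm sE a3, b0sE, b1sE, bm1sE, b2sE, bm2sE, b3sE] at eE
  have hpoly2 : 6291456 * l ^ 4 - 6979584 * l ^ 3 + 122880 * l ^ 2 * m + 552960 * l ^ 2 + 26688 * l * m - 14400 * l
      + 384 * m ^ 2 - 501 * m + 117 = 0 := by
    subst hkv hgv
    linear_combination (-1572864 / 7) * eE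
  have b33 : B a3 (mul a₀ a3) = k := by rw [hassoc, hcomm a3 a₀, ← hassoc, id3, hk]
  have e3 := congrArg (fun v => B a3 (mul a₀ v)) hD
  simp only [map_add, map_smul, q0s1, q0sE, X0, id0, p01, p0m, p02, p0m2, smul_eq_mul, b33, k30, n31, g3m, l32, g53,
    b3s1, b3sE] at e3
  have hpoly3 : 1610612736 * l ^ 5 - 1815085056 * l ^ 4 + 78643200 * l ^ 3 * m + 132415488 * l ^ 3
      - 4780032 * l ^ 2 * m - 2580480 * l ^ 2 + 282624 * l * m ^ 2 + 497568 * l * m - 6048 * l + 8352 * m ^ 2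
      - 8703 * m + 351 = 0 := by
    subst hkv hgv hgv' hg5v
    linear_combination (786432) * e3
  -- the order
  have hT1' : (T ^ 1) a₁ = a3 := by rw [pow_one, T1]
  have hTwo : m = 1 → ∃ n : ℕ, 1 ≤ n ∧ n ≤ 6 ∧ (μ₀ * μ₁) ^ n = 1 := fun h => by
    have e : a₀ = a2 := heq _ _ hn₀ n2 (hm.trans h)
    exact hfin 2 (by norm_num) (by norm_num) (heven 1 (by rw [pow_one, T0, ← e]))
  have hThree : k = 1 → ∃ n : ℕ, 1 ≤ n ∧ n ≤ 6 ∧ (μ₀ * μ₁) ^ n = 1 := fun h => by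
    have e : a₀ = a3 := heq _ _ hn₀ n3 (hk.trans h)
    exact hfin 3 (by norm_num) (by norm_num) (hodd 1 (by rw [hT1', ← e]))
  have hFour : g = 1 → ∃ n : ℕ, 1 ≤ n ∧ n ≤ 6 ∧ (μ₀ * μ₁) ^ n = 1 := fun h => by
    have e : am2 = a2 := heq _ _ nm2 n2 (hg.trans h)
    exact hfin 4 (by norm_num) (by norm_num) (heven 2 (by rw [pow_two]; show T (T a₀) = a₀; rw [T0, ← e, Tm2]))
  have hFive : g5 = 1 → ∃ n : ℕ, 1 ≤ n ∧ n ≤ 6 ∧ (μ₀ * μ₁) ^ n = 1 := fun h => by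
    have e : am2 = a3 := heq _ _ nm2 n3 (hg5.trans h)
    exact hfin 5 (by norm_num) (by norm_num) (hodd 2 (by rw [pow_two]; show T (T a₁) = a₀; rw [T1, ← e, Tm2]))
  have hSix : g6 = 1 → ∃ n : ℕ, 1 ≤ n ∧ n ≤ 6 ∧ (μ₀ * μ₁) ^ n = 1 := fun h => by
    have n4 : B a4 a4 = 1 := by rw [t1 _ _ _ _ ha4.symm ha4.symm, nm2]
    have e : am2 = a4 := heq _ _ nm2 n4 (hg6.trans h)
    exact hfin 6 (by norm_num) (by norm_num)
      (heven 3 (by rw [pow_succ', pow_two]; show T (T (T a₀)) = a₀; rw [T0, T2, ← e, Tm2]))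
  rcases nine_types hpoly2 hpoly3 with ⟨h, -⟩ | ⟨-, h⟩ | ⟨-, h⟩ | ⟨h, h'⟩ | ⟨h, h'⟩ | ⟨h, h'⟩ | ⟨h, h'⟩ | ⟨h, h'⟩ |
    ⟨h, h'⟩
  · exact hfin 1 le_rfl (by norm_num)
      (hodd 0 (by rw [pow_zero]; exact (heq _ _ hn₀ hn₁ (hl.trans h)).symm))
  · exact hTwo h
  · exact hTwo h
  · exact hThree (by rw [hkv, h, h']; norm_num)
  · exact hFour (by rw [hgv, h, h']; norm_num)
  · exact hThree (by rw [hkv, h, h']; norm_num)
  · exact hFour (by rw [hgv, h, h']; norm_num)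
  · exact hFive (by rw [hg5v, h, h']; norm_num)
  · exact hSix (by rw [hg6v, h, h']; norm_num)

end Cfsg.Lib.Sakuma
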